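import Mathlib
import Cfsg.Agent.H912.Bd4
import Cfsg.Agent.H934.IdxPSU

/-!
# Cross characteristic degree bound for `SU_n(q)`, `n ≥ 3`

If `j : SU_n(q) → T` has central kernel, `|K| = q ^ 2` a power of `r`, then every projective representation of `T`
(kernel prime to `r`) over a field of characteristic different from `r` has degree at least `(q - 1) q ^ (n - 2)`.
-/

set_option autoImplicit false

namespace Cfsg.Agent.H175.BdSU

open Cfsg Cfsg.Agent.LieClassical.HermBasic Cfsg.Agent.LieClassical.HermSiegel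
  Cfsg.Agent.LieClassical.HermGen Cfsg.Agent.LieClassical.SUBasic Cfsg.Agent.ClassicalGeometry.PSUAutBasic
  Cfsg.Agent.ClassicalGeometry.PSUAutSylow Cfsg.Agent.H934.IdxPSU Cfsg.Agent.H912.Bd Matrix

universe u v

variable {K : Type*} [Field K] [Fintype K] {q n : ℕ}

theorem card_transvG_le (hF : Fintype.card K = q ^ 2) {u : Fin n → K} (hu : hermForm n K q u u = 0) :
    Nat.card (transvG hF u hu) ≤ q := by
  obtain ⟨c0, hc0, hc⟩ := exists_trace_zero_ne hF
  have hcq : c0 ^ q = -c0 := by linear_combination hc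
  have ht : ∀ x : {x : K // x ^ q = x}, c0 * (x : K) + (c0 * (x : K)) ^ q = 0 := by
    intro x; rw [mul_pow, x.2, hcq]; ring
  conv_rhs => rw [← card_fixed hF]
  refine Nat.card_le_card_of_surjective (fun x : {x : K // x ^ q = x} =>
      (⟨transv hF u hu (c0 * x) (ht x), mem_transvG.2 ⟨_, _, rfl⟩⟩ : transvG hF u hu)) ?_
  rintro ⟨_, μ, hμ, rfl⟩
  have hμq : μ ^ q = -μ := by linear_combination hμ
  refine ⟨⟨μ / c0, ?_⟩, Subtype.ext ?_⟩
  · rw [div_pow, hμq, hcq, neg_div_neg_eq]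
  · exact siegel_congr hF (isSiegel_zero hu (ht ⟨μ / c0, _⟩)) (isSiegel_zero hu hμ) rfl rfl
      (mul_div_cancel₀ μ hc0)

theorem exists_torus (hF : Fintype.card K = q ^ 2) (hn : 3 ≤ n) {u : Fin n → K} (hu0 : u ≠ 0)
    (hu : hermForm n K q u u = 0) {l : K} (hl : l ^ q = l) (hl0 : l ≠ 0) :
    ∃ g : SU n K q, ∀ (μ : K) (hμ : μ + μ ^ q = 0) (hμ' : l * μ + (l * μ) ^ q = 0),
      g * transv hF u hu μ hμ * g⁻¹ = transv hF u hu (l * μ) hμ' := by
  obtain ⟨c, hc0, hc⟩ := exists_norm_eq_ne hF hl hl0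
  have hcu : hermForm n K q (c • u) (c • u) = 0 := by
    rw [herm_smul_left, herm_smul_right, hu]; ring
  obtain ⟨g, -, hg⟩ := exists_map_iso hF hn le_rfl (mem_coordSub_top u) (mem_coordSub_top (c • u)) hu0
    (smul_ne_zero hc0 hu0) hu hcu
  refine ⟨g, fun μ hμ hμ' => ?_⟩
  unfold transv
  rw [conj_siegel]
  have h4 : IsSiegel q (c • u) (0 : Fin n → K) μ := (isSiegel_zero hu hμ).smul
  rw [siegel_congr hF _ h4 hg (act_zero g) rfl, siegel_smul hF (isSiegel_zero hu hμ)]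
  apply siegel_congr hF _ _ rfl
  · rw [smul_zero]
  · rw [hc]

theorem transv_inj (hF : Fintype.card K = q ^ 2) {u : Fin n → K} (hu0 : u ≠ 0) (hu : hermForm n K q u u = 0)
    {μ ν : K} {hμ : μ + μ ^ q = 0} {hν : ν + ν ^ q = 0} (h : transv hF u hu μ hμ = transv hF u hu ν hν) : μ = ν := by
  obtain ⟨f, hff, huf, hfu⟩ := exists_partner hF hu0 hu
  have h2 : act (transv hF u hu μ hμ) f = act (transv hF u hu ν hν) f := by rw [h]
  rw [act_transv, act_transv, hfu, mul_one, mul_one] at h2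
  have h3 := add_left_cancel h2
  exact smul_left_injective K hu0 h3

/-- **Degree bound for `SU_n(q)`, `n ≥ 3`.** -/
theorem bd_of_su {F : Type u} [Field F] {r : ℕ} (hr : r.Prime) [CharP K r] (hF : Fintype.card K = q ^ 2)
    (hn : 3 ≤ n) (hrF : (r : F) ≠ 0) {T : Type v} [Group T] (j : SU n K q →* T)
    (hj : j.ker ≤ Subgroup.center _) : Bd F r ((q - 1) * q ^ (n - 2)) T := by
  classical
  intro N hN
  have : Fact r.Prime := ⟨hr⟩
  obtain ⟨e, f, hfr⟩ := exists_frame (F := K) (n := n) hF (by omega)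
  have he0 : e ≠ 0 := by
    rintro rfl
    have := hfr.ef
    rw [herm_zero_left] at this
    exact zero_ne_one this
  have hq0 : 0 < q := by
    rcases Nat.eq_zero_or_pos q with rfl | h
    · rw [zero_pow two_ne_zero] at hF
      exact absurd hF Fintype.card_ne_zero
    · exact h
  obtain ⟨k, hk⟩ := exists_card_eq (F := K) r
  have hpow : ∀ x ∈ siegG hF e hfr.ee, x ^ r ^ k = 1 := by
    rintro _ ⟨w, μ, h, rfl⟩
    rw [← hk]
    exact siegel_pow_card hF h
  have hinj : ∀ x ∈ siegG hF e hfr.ee, j x = 1 → x = 1 := fun x hx h1 =>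
    eq_one_of_center_of_pow hF hn (hj h1) (hpow x hx)
  have hinj2 : ∀ x ∈ siegG hF e hfr.ee, ∀ y ∈ siegG hF e hfr.ee, j x = j y → x = y := by
    intro x hx y hy h1
    have h2 := hinj (x⁻¹ * y) (Subgroup.mul_mem _ (Subgroup.inv_mem _ hx) hy) (by
      rw [map_mul, map_inv, h1, inv_mul_cancel])
    exact inv_mul_eq_one.1 h2
  have hyp0 := hyp hF he0 hfr.ee
  have hle := transvG_le_siegG hF hfr.ee
  set Q : Subgroup T := (siegG hF e hfr.ee).map j with hQ
  set E : Subgroup T := (transvG hF e hfr.ee).map j with hE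
  have hEQ : E ≤ Q := Subgroup.map_mono hle
  have hfinQ : Finite Q := Finite.of_surjective (fun x : siegG hF e hfr.ee => (⟨j x, ⟨x, x.2, rfl⟩⟩ : Q)) (by
    rintro ⟨_, x, hx, rfl⟩
    exact ⟨⟨x, hx⟩, rfl⟩)
  obtain ⟨c0, hc0, hc⟩ := exists_trace_zero_ne hF
  set t := transv hF e hfr.ee c0 hc with ht
  have htm : t ∈ transvG hF e hfr.ee := mem_transvG.2 ⟨_, _, rfl⟩
  have ht1 : t ≠ 1 := by
    intro h1
    apply hc0
    exact transv_inj hF he0 hfr.ee (h1.trans (transv_zero hF hfr.ee (by rw [zero_pow_q hF, add_zero])).symm)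
  -- the torus
  set A : Finset K := Finset.univ.filter (fun x => x ^ q = x ∧ x ≠ 0) with hA
  have hAcard : A.card = q - 1 := by
    have h1 : (Finset.univ.filter (fun x : K => x ^ q = x)).card = q := by
      rw [← Fintype.card_subtype, ← Nat.card_eq_fintype_card]
      exact card_fixed hF
    have h2 : A = (Finset.univ.filter (fun x : K => x ^ q = x)).erase 0 := by
      ext x
      simp only [hA, Finset.mem_filter, Finset.mem_univ, true_and, Finset.mem_erase]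
      exact and_comm
    rw [h2, Finset.card_erase_of_mem, h1]
    simp only [Finset.mem_filter, Finset.mem_univ, true_and]
    exact zero_pow_q hF
  have hex : ∀ l ∈ A, ∃ g : SU n K q, ∀ (μ : K) (hμ : μ + μ ^ q = 0) (hμ' : l * μ + (l * μ) ^ q = 0),
      g * transv hF e hfr.ee μ hμ * g⁻¹ = transv hF e hfr.ee (l * μ) hμ' := by
    intro l hl
    simp only [hA, Finset.mem_filter, Finset.mem_univ, true_and] at hl
    exact exists_torus hF hn he0 hfr.ee hl.1 hl.2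
  choose! g hg using hex
  have hmulA : ∀ l ∈ A, ∀ μ : K, μ + μ ^ q = 0 → l * μ + (l * μ) ^ q = 0 := by
    intro l hl μ hμ
    simp only [hA, Finset.mem_filter, Finset.mem_univ, true_and] at hl
    rw [mul_pow, hl.1]
    linear_combination l * hμ
  have hginj : Set.InjOn (fun l => j (g l)) (A : Set K) := by
    intro l hl l' hl' h
    have h1 : j (g l * t * (g l)⁻¹) = j (g l' * t * (g l')⁻¹) := by
      simp only [map_mul, map_inv]
      have h' : j (g l) = j (g l') := h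
      rw [h']
    rw [ht, hg l hl c0 hc (hmulA l hl c0 hc), hg l' hl' c0 hc (hmulA l' hl' c0 hc)] at h1
    have h2 := hinj2 _ (hle (mem_transvG.2 ⟨_, _, rfl⟩)) _ (hle (mem_transvG.2 ⟨_, _, rfl⟩)) h1
    exact mul_right_cancel₀ hc0 (transv_inj hF he0 hfr.ee h2)
  set S : Finset T := A.image (fun l => j (g l)) with hS
  have hScard : S.card = q - 1 := by rw [hS, Finset.card_image_of_injOn hginj, hAcard]
  have hconj : ∀ l ∈ A, ∀ x ∈ E, j (g l) * x * (j (g l))⁻¹ ∈ E := by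
    rintro l hl _ ⟨_, ⟨μ, hμ, rfl⟩, rfl⟩
    rw [← map_inv, ← map_mul, ← map_mul, hg l hl μ hμ (hmulA l hl μ hμ)]
    exact ⟨_, mem_transvG.2 ⟨_, _, rfl⟩, rfl⟩
  have hEc : ∀ a ∈ E, ∀ b ∈ E, a * b = b * a := by
    rintro _ ⟨x, hx, rfl⟩ _ ⟨y, hy, rfl⟩
    rw [← map_mul, ← map_mul]
    have := hyp0.central ⟨y, hle hy⟩ hy ⟨x, hle hx⟩
    exact congrArg j (congrArg Subtype.val this)
  have hfinE : Finite E := Finite.of_injective _ (Subgroup.inclusion_injective hEQ)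
  have key := hN.bound_heis hr hrF E Q hEQ ?_ ?_ (e₀ := j t) ⟨t, htm, rfl⟩ (fun h1 => ht1 (hinj t (hle htm) h1))
    S ?_ ?_ ?_ ?_
  · -- arithmetic
    have h1 : (q ^ 2) ^ (n - 2) * q ≤ Nat.card Q := by
      refine (card_siegG hF hfr).trans ?_
      refine Nat.card_le_card_of_injective (fun x : siegG hF e hfr.ee => (⟨j x, ⟨x, x.2, rfl⟩⟩ : Q)) ?_
      intro x y hxy
      exact Subtype.ext (hinj2 x x.2 y y.2 (congrArg Subtype.val hxy))
    have h2 : Nat.card E ≤ q := by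
      refine le_trans ?_ (card_transvG_le hF hfr.ee)
      refine Nat.card_le_card_of_surjective
        (fun x : transvG hF e hfr.ee => (⟨j x, ⟨x, x.2, rfl⟩⟩ : E)) ?_
      rintro ⟨_, x, hx, rfl⟩
      exact ⟨⟨x, hx⟩, rfl⟩
    rw [hScard] at key
    have h3 : (q - 1) ^ 2 * ((q ^ 2) ^ (n - 2) * q) ≤ N ^ 2 * q :=
      (Nat.mul_le_mul_left _ h1).trans (key.trans (Nat.mul_le_mul_left _ h2))
    have h4 : (q - 1) ^ 2 * (q ^ 2) ^ (n - 2) ≤ N ^ 2 := by
      rw [← mul_assoc] at h3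
      exact Nat.le_of_mul_le_mul_right h3 hq0
    have h5 : ((q - 1) * q ^ (n - 2)) ^ 2 ≤ N ^ 2 := by
      rw [mul_pow, ← pow_mul, mul_comm (n - 2) 2, pow_mul]
      exact h4
    exact (Nat.pow_le_pow_iff_left two_ne_zero).1 h5
  · rintro _ ⟨x, hx, rfl⟩ _ ⟨y, hy, rfl⟩
    rw [← map_mul, ← map_mul]
    have := hyp0.central ⟨y, hle hy⟩ hy ⟨x, hx⟩
    exact congrArg j (congrArg Subtype.val this)
  · rintro ⟨_, x, hx, rfl⟩
    refine ⟨k, Subtype.ext ?_⟩
    show j x ^ r ^ k = 1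
    rw [← map_pow, hpow x hx, map_one]
  · intro s hs x hx
    obtain ⟨l, hl, rfl⟩ := Finset.mem_image.1 hs
    exact hconj l hl x hx
  · intro s hs s' hs' hss
    obtain ⟨l, hl, rfl⟩ := Finset.mem_image.1 hs
    obtain ⟨l', hl', rfl⟩ := Finset.mem_image.1 hs'
    refine diff_of_free hEc ⟨t, htm, rfl⟩ (hconj l hl) (hconj l' hl') ?_
    rintro _ ⟨_, ⟨μ, hμ, rfl⟩, rfl⟩ h1
    rw [← map_inv, ← map_mul, ← map_mul, ← map_inv, ← map_mul, ← map_mul, hg l hl μ hμ (hmulA l hl μ hμ),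
      hg l' hl' μ hμ (hmulA l' hl' μ hμ)] at h1
    have h2 := hinj2 _ (hle (mem_transvG.2 ⟨_, _, rfl⟩)) _ (hle (mem_transvG.2 ⟨_, _, rfl⟩)) h1
    have h3 := transv_inj hF he0 hfr.ee h2
    have h4 : μ = 0 := by
      by_contra h0
      exact hss (by rw [mul_right_cancel₀ h0 h3])
    subst h4
    rw [transv_zero, map_one]
  · rintro _ ⟨x, hx, rfl⟩ _ ⟨y, hy, rfl⟩
    refine ⟨x * y * x⁻¹ * y⁻¹, ?_, by simp only [map_mul, map_inv]⟩
    exact hyp0.comm_mem ⟨x, hx⟩ (Subgroup.mem_top _) ⟨y, hy⟩ (Subgroup.mem_top _)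
  · rintro _ ⟨y, hy, rfl⟩ hyE
    have hy' : (⟨y, hy⟩ : siegG hF e hfr.ee) ∉ (transvG hF e hfr.ee).subgroupOf (siegG hF e hfr.ee) := by
      intro h1
      exact hyE ⟨y, h1, rfl⟩
    obtain ⟨x, -, hx⟩ := hyp0.special ⟨y, hy⟩ (Subgroup.mem_top _) hy' ⟨t⁻¹, Subgroup.inv_mem _ (hle htm)⟩
      (Subgroup.inv_mem (transvG hF e hfr.ee) htm)
    refine ⟨j x, ⟨x, x.2, rfl⟩, ?_⟩
    have h1 : y * (x : SU n K q) * y⁻¹ * (x : SU n K q)⁻¹ = t⁻¹ := congrArg Subtype.val hx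
    have h2 : (x : SU n K q) * y * (x : SU n K q)⁻¹ * y⁻¹ = t := by
      rw [← _root_.inv_inj, ← h1]; group
    rw [← map_inv, ← map_mul, ← map_mul, ← map_inv, ← map_mul, h2]

/-- **Degree bound for `PSU_n(q)`, `n ≥ 3`.** -/
theorem bd_psu {F : Type u} [Field F] {r : ℕ} (hr : r.Prime) [CharP K r] (hF : Fintype.card K = q ^ 2)
    (hn : 3 ≤ n) (hrF : (r : F) ≠ 0) {T : Type v} [Group T] (e : T ≃* PSU n K q) :
    Bd F r ((q - 1) * q ^ (n - 2)) T := by
  refine bd_of_su hr hF hn hrF (e.symm.toMonoidHom.comp (pr n K q)) ?_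
  intro x hx
  have h1 : e.symm (pr n K q x) = 1 := hx
  rw [MulEquiv.map_eq_one_iff] at h1
  exact pr_eq_one_iff.1 h1

end Cfsg.Agent.H175.BdSU
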