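import Mathlib

/-!
# The norm form of a quadratic étale extension of a finite commutative ring

`exists_norm_eq`: `R` a finite commutative ring, `t ^ 2 - 4 * n` a unit; then every unit of `R` is
of the form `x ^ 2 + t * x * y + n * y ^ 2`.

`hilbert90`: `S` a finite commutative ring with an involution `σ`, `w - σ w` a unit for some `w`;
then every `c` with `c * σ c = 1` is `b / σ b` for a unit `b`.

`exists_star_factor`: `M` a finite ring with an anti-involution `τ`, `w`, `h` commuting elements,
`τ h = h` a unit, `w` commuting with `τ w` and `w - τ w` a unit. Then `h = τ c * c` for an element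
`c` of the double centralizer of `{w, τ w, h}`.
-/

set_option autoImplicit false

namespace Cfsg.Agent.H175.NormForm

open Polynomial

/-- The form `x ^ 2 + t * x * y + n * y ^ 2`. -/
def nf {R : Type*} [CommRing R] (t n x y : R) : R := x ^ 2 + t * x * y + n * y ^ 2

theorem nf_def {R : Type*} [CommRing R] (t n x y : R) :
    nf t n x y = x ^ 2 + t * x * y + n * y ^ 2 := rfl

theorem nf_mul {R : Type*} [CommRing R] (t n x y u v : R) :
    nf t n x y * nf t n u v = nf t n (x * u - n * y * v) (x * v + y * u + t * y * v) := by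
  simp only [nf]; ring

/-- Over a finite field, a binary form with non-zero discriminant takes every value. -/
theorem exists_field {F : Type*} [Field F] [Finite F] (t n : F) (hd : t ^ 2 - 4 * n ≠ 0) (r : F) :
    ∃ x y : F, nf t n x y = r := by
  classical
  by_cases h2 : (2 : F) = 0
  · -- characteristic two: every element is a square
    have hc : CharP F 2 := by
      have : ((2 : ℕ) : F) = 0 := by exact_mod_cast h2
      exact CharTwo.of_one_ne_zero_of_two_eq_zero one_ne_zero h2
    obtain ⟨x, hx⟩ := FiniteField.isSquare_of_char_two (F := F) (ringChar.eq F 2 ▸ rfl) r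
    exact ⟨x, 0, by simp [nf, hx, sq]⟩
  · have hodd : ringChar F ≠ 2 := by
      intro h
      apply h2
      have := ringChar.Nat.cast_ringChar (R := F)
      rw [h] at this
      exact_mod_cast this
    have := Fintype.ofFinite F
    have hcard : Fintype.card F % 2 = 1 := FiniteField.odd_card_of_char_ne_two hodd
    set D : F := (t / 2) ^ 2 - n with hD
    have hD0 : D ≠ 0 := by
      intro h
      apply hd
      have h4 : t ^ 2 - 4 * n = 4 * D := by rw [hD]; field_simp; ring
      rw [h4, h, mul_zero]
    -- X ^ 2 - D Y ^ 2 = r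
    have h1 : (C (1 : F) * X ^ 2 + C 0 * X + C (-r) : F[X]).degree = 2 :=
      degree_quadratic one_ne_zero
    have h3 : (C (-D) * X ^ 2 + C 0 * X + C 0 : F[X]).degree = 2 :=
      degree_quadratic (neg_ne_zero.mpr hD0)
    obtain ⟨a, b, hab⟩ := FiniteField.exists_root_sum_quadratic h1 h3 hcard
    simp only [eval_add, eval_mul, eval_C, eval_pow, eval_X] at hab
    refine ⟨a - t / 2 * b, b, ?_⟩
    have : nf t n (a - t / 2 * b) b = a ^ 2 - D * b ^ 2 := by
      simp only [nf, hD]; field_simp; ring
    rw [this]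
    linear_combination hab

/-- `exists_norm_eq` for a reduced ring. -/
theorem exists_reduced {R : Type*} [CommRing R] [Finite R] [IsReduced R] (t n : R)
    (hd : IsUnit (t ^ 2 - 4 * n)) (r : R) : ∃ x y : R, nf t n x y = r := by
  classical
  have key : ∀ I : MaximalSpectrum R, ∃ x y : R ⧸ I.asIdeal,
      nf (Ideal.Quotient.mk I.asIdeal t) (Ideal.Quotient.mk I.asIdeal n) x y =
        Ideal.Quotient.mk I.asIdeal r := by
    intro I
    let _ := Ideal.Quotient.field I.asIdeal
    have : Finite (R ⧸ I.asIdeal) := Finite.of_surjective _ Ideal.Quotient.mk_surjective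
    refine exists_field _ _ ?_ _
    have h0 := (hd.map (Ideal.Quotient.mk I.asIdeal)).ne_zero
    rwa [map_sub, map_mul, map_pow, map_ofNat] at h0
  choose x y hxy using key
  refine ⟨(IsArtinianRing.equivPi R).symm x, (IsArtinianRing.equivPi R).symm y, ?_⟩
  apply (IsArtinianRing.equivPi R).injective
  funext I
  have hx : (IsArtinianRing.equivPi R) ((IsArtinianRing.equivPi R).symm x) I = x I := by
    rw [AlgEquiv.apply_symm_apply]
  have hy : (IsArtinianRing.equivPi R) ((IsArtinianRing.equivPi R).symm y) I = y I := by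
    rw [AlgEquiv.apply_symm_apply]
  rw [IsArtinianRing.equivPi_apply] at hx hy
  rw [IsArtinianRing.equivPi_apply, IsArtinianRing.equivPi_apply]
  have hq := hxy I
  simp only [nf] at hq ⊢
  push_cast
  rw [← hx, ← hy] at hq
  simpa using hq

/-- **Surjectivity of the norm**: `R` finite commutative, `t ^ 2 - 4 * n` a unit; every unit of `R`
is of the form `x ^ 2 + t * x * y + n * y ^ 2`. -/
theorem exists_norm_eq {R : Type*} [CommRing R] [Finite R] (t n : R)
    (hd : IsUnit (t ^ 2 - 4 * n)) (r : R) (hr : IsUnit r) : ∃ x y : R, nf t n x y = r := by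
  classical
  -- modulo the nilradical
  have hfin : Finite (R ⧸ nilradical R) := Finite.of_surjective _ Ideal.Quotient.mk_surjective
  have : IsReduced (R ⧸ nilradical R) :=
    (Ideal.isRadical_iff_quotient_reduced _).mp (Ideal.radical_isRadical _)
  obtain ⟨x', y', h'⟩ := exists_reduced (R := R ⧸ nilradical R)
    (Ideal.Quotient.mk _ t) (Ideal.Quotient.mk _ n)
    (by
      have h0 := hd.map (Ideal.Quotient.mk (nilradical R))
      rwa [map_sub, map_mul, map_pow, map_ofNat] at h0) (Ideal.Quotient.mk _ r)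
  obtain ⟨x₀, rfl⟩ := Ideal.Quotient.mk_surjective x'
  obtain ⟨y₀, rfl⟩ := Ideal.Quotient.mk_surjective y'
  set N := nf t n x₀ y₀ with hN
  have hmk : Ideal.Quotient.mk (nilradical R) N = Ideal.Quotient.mk (nilradical R) r := by
    rw [← h', hN]; simp [nf]
  have hnil : IsNilpotent (r - N) := by
    have := Ideal.Quotient.eq.mp hmk
    rw [mem_nilradical] at this
    rw [← neg_sub, isNilpotent_neg_iff]; exact this
  have hNu : IsUnit N := by
    have : N = r - (r - N) := by ring
    rw [this]
    rw [sub_eq_add_neg]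
    exact IsNilpotent.isUnit_add_left_of_commute hnil.neg hr (Commute.all _ _)
  obtain ⟨Ni, hNi⟩ := hNu.exists_right_inv
  obtain ⟨di, hdi⟩ := hd.exists_right_inv
  -- `1 + j = r / N`
  set j := (r - N) * Ni with hj
  have hjn : IsNilpotent j := (Commute.all _ _).isNilpotent_mul_right hnil
  have hrj : r = N * (1 + j) := by
    rw [hj]; linear_combination (-(r - N)) * hNi
  set a₁ := -2 * n * di with ha₁
  set a₂ := t * di with ha₂
  have htr : 2 * a₁ + t * a₂ = 1 := by
    rw [ha₁, ha₂]; linear_combination hdi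
  set P : R[X] := C (nf t n a₁ a₂) * X ^ 2 + X - C j with hP
  have hP0 : IsNilpotent (aeval (0 : R) P) := by
    have : aeval (0 : R) P = -j := by simp [hP]
    rw [this, isNilpotent_neg_iff]; exact hjn
  have hP1 : IsUnit (aeval (0 : R) (derivative P)) := by
    have : aeval (0 : R) (derivative P) = 1 := by simp [hP]
    rw [this]; exact isUnit_one
  obtain ⟨s, ⟨-, hs⟩, -⟩ := existsUnique_nilpotent_sub_and_aeval_eq_zero hP0 hP1
  have hs' : nf t n a₁ a₂ * s ^ 2 + s - j = 0 := by
    simpa [hP] using hs
  refine ⟨x₀ * (1 + a₁ * s) - n * y₀ * (a₂ * s),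
    x₀ * (a₂ * s) + y₀ * (1 + a₁ * s) + t * y₀ * (a₂ * s), ?_⟩
  rw [← nf_mul, ← hN, hrj]
  congr 1
  simp only [nf] at hs' ⊢
  linear_combination hs' + s * htr

/-- **Hilbert 90** for an involution `σ` of a finite commutative ring `S` such that `w - σ w` is a
unit for some `w`. -/
theorem hilbert90 {S : Type*} [CommRing S] [Finite S] (σ : S →+* S) (hσ : ∀ s, σ (σ s) = s)
    (w : S) (hw : IsUnit (w - σ w)) (c : S) (hc : c * σ c = 1) :
    ∃ b : S, IsUnit b ∧ b = c * σ b := by
  classical
  let R : Subring S := σ.eqLocus (RingHom.id S)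
  have hR : ∀ s, s ∈ R ↔ σ s = s := fun s => Iff.rfl
  have : Finite R := inferInstance
  -- the maps `s ↦ s * σ s` and `s ↦ s / σ s`
  let σu : Sˣ →* Sˣ := Units.map (σ : S →* S)
  let N : Sˣ →* Sˣ :=
    { toFun := fun s => s * σu s
      map_one' := by simp
      map_mul' := fun a b => by rw [map_mul]; exact mul_mul_mul_comm _ _ _ _ }
  let ψ : Sˣ →* Sˣ :=
    { toFun := fun s => s * (σu s)⁻¹
      map_one' := by simp
      map_mul' := fun a b => by rw [map_mul, mul_inv]; exact mul_mul_mul_comm _ _ _ _ }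
  have hσu : ∀ s : Sˣ, ((σu s : Sˣ) : S) = σ s := fun s => rfl
  have hσσ : ∀ s : Sˣ, σu (σu s) = s := fun s => Units.ext (hσ _)
  have hker : ψ.ker = N.range := by
    ext s
    rw [MonoidHom.mem_ker, MonoidHom.mem_range]
    constructor
    · intro hs
      have hs1 : s = σu s := by
        have : s * (σu s)⁻¹ = 1 := hs
        exact mul_inv_eq_one.mp this
      have hsR : (s : S) ∈ R := (hR _).mpr (by rw [← hσu, ← hs1])
      have htR : w + σ w ∈ R := (hR _).mpr (by rw [map_add, hσ, add_comm])
      have hnR : w * σ w ∈ R := (hR _).mpr (by rw [map_mul, hσ, mul_comm])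
      have hsuR : IsUnit (⟨s, hsR⟩ : R) := by
        have hsi : ((s⁻¹ : Sˣ) : S) ∈ R := (hR _).mpr (by
          have : σu s⁻¹ = s⁻¹ := by rw [map_inv, ← hs1]
          rw [← hσu, this])
        exact IsUnit.of_mul_eq_one ⟨_, hsi⟩ (Subtype.ext (by simp))
      have hdu : IsUnit ((⟨w + σ w, htR⟩ : R) ^ 2 - 4 * ⟨w * σ w, hnR⟩) := by
        obtain ⟨v, hv⟩ := (hw.pow 2).exists_right_inv
        have hvR : v ∈ R := by
          rw [hR]
          have h1 : (w - σ w) ^ 2 * σ v = 1 := by
            have := congrArg σ hv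
            simp only [map_mul, map_pow, map_sub, hσ, map_one] at this
            rw [← this]; ring
          calc σ v = σ v * ((w - σ w) ^ 2 * v) := by rw [hv, mul_one]
            _ = ((w - σ w) ^ 2 * σ v) * v := by ring
            _ = v := by rw [h1, one_mul]
        refine IsUnit.of_mul_eq_one ⟨v, hvR⟩ (Subtype.ext ?_)
        have h4 : ((4 : R) : S) = 4 := rfl
        push_cast
        rw [h4, ← hv]; ring
      obtain ⟨x, y, hxy⟩ := exists_norm_eq (R := R) ⟨w + σ w, htR⟩ ⟨w * σ w, hnR⟩ hdu _ hsuR
      have hxy' : ((x : S) + y * w) * σ ((x : S) + y * w) = s := by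
        have := congrArg (Subtype.val : R → S) hxy
        simp only [nf] at this
        push_cast at this
        rw [map_add, map_mul, (hR _).mp x.2, (hR _).mp y.2]
        rw [← this]; ring
      have hu : IsUnit ((x : S) + y * w) := by
        apply isUnit_of_mul_isUnit_left (y := σ ((x : S) + y * w))
        rw [hxy']; exact s.isUnit
      refine ⟨hu.unit, Units.ext ?_⟩
      exact hxy'
    · rintro ⟨u, rfl⟩
      change (u * σu u) * (σu (u * σu u))⁻¹ = 1
      rw [map_mul, hσσ, mul_comm (σu u) u, mul_inv_cancel]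
  have hle : ψ.range ≤ N.ker := by
    rintro _ ⟨u, rfl⟩
    rw [MonoidHom.mem_ker]
    change (u * (σu u)⁻¹) * σu (u * (σu u)⁻¹) = 1
    rw [map_mul, map_inv, hσσ]
    rw [mul_mul_mul_comm, mul_comm u (σu u), mul_mul_mul_comm]
    simp
  have hcard : Nat.card ψ.range = Nat.card N.ker := by
    have h1 := Subgroup.card_mul_index ψ.ker
    have h2 := Subgroup.card_mul_index N.ker
    rw [Subgroup.index_ker] at h1 h2
    rw [hker] at h1
    have hpos : 0 < Nat.card N.range := Nat.card_pos
    apply Nat.eq_of_mul_eq_mul_left hpos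
    rw [h1, mul_comm, h2]
  have heq : ψ.range = N.ker := Subgroup.eq_of_le_of_card_ge hle hcard.ge
  have hcu : IsUnit c := IsUnit.of_mul_eq_one _ hc
  have hcm : hcu.unit ∈ N.ker := by
    rw [MonoidHom.mem_ker]; exact Units.ext hc
  rw [← heq] at hcm
  obtain ⟨b, hb⟩ := hcm
  refine ⟨b, b.isUnit, ?_⟩
  have h1 : b * (σu b)⁻¹ = hcu.unit := hb
  have h2 : b = hcu.unit * σu b := by rw [← h1]; simp
  exact congrArg Units.val h2

/-- **Factorisation of symmetric units.** `M` a finite ring with an anti-involution `τ`; `w`, `h`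
commuting elements, `h` a unit with `τ h = h`, `w` commuting with `τ w` and `w - τ w` a unit. Then
`h = τ c * c` for some `c` which commutes with everything commuting with `w`, `τ w` and `h`. -/
theorem exists_star_factor {M : Type*} [Ring M] [Finite M] (τ : M →+ M) (hτ1 : τ 1 = 1)
    (hτm : ∀ x y, τ (x * y) = τ y * τ x) (hττ : ∀ x, τ (τ x) = x) (w h : M) (hh : τ h = h)
    (hhu : IsUnit h) (hwh : w * h = h * w) (hww : w * τ w = τ w * w)
    (hwu : IsUnit (w - τ w)) :
    ∃ c : M, τ c * c = h ∧ ∀ a, a * w = w * a → a * τ w = τ w * a → a * h = h * a →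
      a * c = c * a := by
  classical
  have hτh : τ w * h = h * τ w := by
    have := congrArg τ hwh
    rw [hτm, hτm, hh] at this
    exact this.symm
  obtain ⟨t, ht⟩ : ∃ t, t = w + τ w := ⟨_, rfl⟩
  obtain ⟨n, hn⟩ : ∃ n, n = w * τ w := ⟨_, rfl⟩
  have hsτ : ∀ x ∈ ({t, n, h} : Set M), τ x = x := by
    rintro x (rfl | rfl | rfl)
    · rw [ht, map_add, hττ, add_comm]
    · rw [hn, hτm, hττ]
    · exact hh
  have hcomm : ∀ x ∈ ({t, n, h} : Set M), ∀ y ∈ ({t, n, h} : Set M), x * y = y * x := by
    have h1 : t * n = n * t := by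
      rw [ht, hn]
      rw [add_mul, mul_add, mul_assoc w (τ w) w, ← hww, mul_assoc w (τ w) (τ w), ← mul_assoc (τ w),
        ← hww, mul_assoc w (τ w) (τ w)]
    have h2 : t * h = h * t := by rw [ht, add_mul, mul_add, hwh, hτh]
    have h3 : n * h = h * n := by rw [hn, mul_assoc, hτh, ← mul_assoc, hwh, mul_assoc]
    rintro x (rfl | rfl | rfl) y (rfl | rfl | rfl)
    · rfl
    · exact h1
    · exact h2
    · exact h1.symm
    · rfl
    · exact h3
    · exact h2.symm
    · exact h3.symm
    · rfl
  let R : Subring M := Subring.closure {t, n, h}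
  have hmc : IsMulCommutative R := Subring.isMulCommutative_closure hcomm
  let _ : CommRing R := { (inferInstance : Ring R) with mul_comm := hmc.is_comm.comm }
  have hRc : ∀ x ∈ R, ∀ y ∈ R, x * y = y * x := fun x hx y hy =>
    congrArg (Subtype.val : R → M) (mul_comm (⟨x, hx⟩ : R) ⟨y, hy⟩)
  have hRτ : ∀ x ∈ R, τ x = x := by
    intro x hx
    induction hx using Subring.closure_induction with
    | mem x hx => exact hsτ x hx
    | zero => exact map_zero τ
    | one => exact hτ1
    | add x y _ _ hx hy => rw [map_add, hx, hy]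
    | neg x _ hx => rw [map_neg, hx]
    | mul x y hx' hy' hx hy => rw [hτm, hx, hy]; exact hRc y hy' x hx'
  have hRcen : ∀ a, a * t = t * a → a * n = n * a → a * h = h * a → ∀ x ∈ R, a * x = x * a := by
    intro a h1 h2 h3 x hx
    induction hx using Subring.closure_induction with
    | mem x hx =>
      rcases hx with rfl | rfl | rfl
      · exact h1
      · exact h2
      · exact h3
    | zero => rw [mul_zero, zero_mul]
    | one => rw [mul_one, one_mul]
    | add x y _ _ hx hy => rw [mul_add, add_mul, hx, hy]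
    | neg x _ hx => rw [mul_neg, neg_mul, hx]
    | mul x y _ _ hx hy => rw [← mul_assoc, hx, mul_assoc, hy, mul_assoc]
  have htR : t ∈ R := Subring.subset_closure (by simp)
  have hnR : n ∈ R := Subring.subset_closure (by simp)
  have hhR : h ∈ R := Subring.subset_closure (by simp)
  have hunit : ∀ x (hx : x ∈ R), IsUnit x → IsUnit (⟨x, hx⟩ : R) := by
    intro x hx hu
    obtain ⟨u, rfl⟩ := hu
    obtain ⟨k, hk, hk1⟩ := (isOfFinOrder_iff_pow_eq_one).mp (isOfFinOrder_of_finite u)
    have h1 : (⟨(u : M), hx⟩ : R) ^ k = 1 := Subtype.ext (by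
      have := congrArg Units.val hk1
      simpa using this)
    exact IsUnit.of_pow_eq_one h1 hk.ne'
  have hdisc : ((⟨t, htR⟩ : R) ^ 2 - 4 * ⟨n, hnR⟩ : R) =
      ⟨(w - τ w) ^ 2, by
        have : (w - τ w) ^ 2 = t ^ 2 - 4 * n := by
          rw [ht, hn, sq, sq, sub_mul, mul_sub, mul_sub, add_mul, mul_add, mul_add, ← hww]
          have : (4 : M) * (w * τ w) = w * τ w + w * τ w + w * τ w + w * τ w := by
            noncomm_ring
          rw [this]; abel
        rw [this]
        exact R.sub_mem (R.pow_mem htR 2) (R.mul_mem (ofNat_mem R 4) hnR)⟩ := by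
    apply Subtype.ext
    have h4 : ((4 : R) : M) = 4 := rfl
    change t ^ 2 - 4 * n = (w - τ w) ^ 2
    rw [ht, hn, sq, sq, sub_mul, mul_sub, mul_sub, add_mul, mul_add, mul_add, ← hww]
    have : (4 : M) * (w * τ w) = w * τ w + w * τ w + w * τ w + w * τ w := by
      noncomm_ring
    rw [this]; abel
  obtain ⟨x, y, hxy⟩ := exists_norm_eq (R := R) ⟨t, htR⟩ ⟨n, hnR⟩
    (by rw [hdisc]; exact hunit _ _ (hwu.pow 2)) ⟨h, hhR⟩ (hunit _ _ hhu)
  have hxy' : (x : M) ^ 2 + t * x * y + n * (y : M) ^ 2 = h := congrArg (Subtype.val : R → M) hxy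
  -- `w` commutes with `R`
  have hwR : ∀ z ∈ R, w * z = z * w := hRcen w
    (by rw [ht, mul_add, add_mul, hww]) (by rw [hn, mul_assoc, ← hww]) hwh
  refine ⟨x + y * w, ?_, ?_⟩
  · rw [map_add, hτm, hRτ x x.2, hRτ y y.2]
    rw [← hxy']
    have e1 : (x : M) * y = y * x := hRc x x.2 y y.2
    have e2 : w * (x : M) = x * w := hwR x x.2
    have e3 : w * (y : M) = y * w := hwR y y.2
    have e4 : τ w * (x : M) = x * τ w := by
      have := congrArg τ e2
      rw [hτm, hτm, hRτ x x.2] at this
      exact this.symm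
    have e5 : τ w * (y : M) = y * τ w := by
      have := congrArg τ e3
      rw [hτm, hτm, hRτ y y.2] at this
      exact this.symm
    rw [ht, hn, sq, sq]
    have : (x + τ w * y) * (x + y * w) =
        x * x + (x * y * w + τ w * y * x) + τ w * y * y * w := by noncomm_ring
    rw [this, ← sub_eq_zero]
    have l1 : (x : M) * y * w = w * x * y := by rw [e2, mul_assoc, mul_assoc, e3]
    have l2 : τ w * (y : M) * x = τ w * x * y := by rw [mul_assoc, mul_assoc, e1]
    have l3 : τ w * (y : M) * y * w = w * τ w * (y * y) := by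
      rw [mul_assoc (τ w * (y : M)), ← e3, ← mul_assoc, mul_assoc (τ w), ← e3, ← mul_assoc, ← hww,
        mul_assoc (w * τ w)]
    rw [l1, l2, l3]
    noncomm_ring
  · intro a h1 h2 h3
    have hat : a * t = t * a := by rw [ht, mul_add, add_mul, h1, h2]
    have han : a * n = n * a := by rw [hn, ← mul_assoc, h1, mul_assoc, h2, mul_assoc]
    rw [mul_add, add_mul, hRcen a hat han h3 x x.2, ← mul_assoc, hRcen a hat han h3 y y.2,
      mul_assoc, h1, mul_assoc]

end Cfsg.Agent.H175.NormForm
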