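import Cfsg.Prelude.Def_ClassicalGeometry
import Cfsg.Agent.ClassicalGeometry.SympBasic
import Cfsg.Agent.ClassicalGeometry.SympIso
import Cfsg.Agent.S0752
import Cfsg.Agent.H175.NormForm

/-!
# Conjugacy of semisimple elements of `Sp(2m, F)`

`exists_norm_corner`: the norm lemma in the corner `e M e` of a finite ring with anti-involution.
`exists_symp_corner`: the alternating case.
`exists_conj`: semisimple elements of `Sp(2m, F)` conjugate in `GL` are conjugate in `Sp(2m, F)`.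
-/

set_option autoImplicit false

namespace Cfsg.Agent.H175.SympConj

open Cfsg.Agent.H175.NormForm Cfsg.Agent.ClassicalGeometry.SympBasic Matrix

/-- `M` a finite ring with anti-involution `τ`, `A` with inverse `A' = τ A`, `e` idempotent, `h` a
symmetric unit, everything commuting and `(A - A') ^ 2` invertible on the corner of `e`. Then
`e * h = τ c * c` for some `c` in the corner of `e`, commuting with everything commuting with
`A`, `A'`, `h` and `e`. -/
theorem exists_norm_corner {M : Type*} [Ring M] [Finite M] (τ : M →+ M) (hτ1 : τ 1 = 1)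
    (hτm : ∀ x y, τ (x * y) = τ y * τ x) (A A' e h : M) (hA : τ A = A') (hA' : τ A' = A)
    (hAA : A * A' = 1) (hAA' : A' * A = 1) (he : τ e = e) (hee : e * e = e) (hh : τ h = h)
    (hhu : IsUnit h) (hAh : A * h = h * A) (hAe : A * e = e * A) (heh : e * h = h * e)
    (hu : IsUnit (e * (A - A') ^ 2 + (1 - e))) :
    ∃ c : M, e * c = c ∧ c * e = c ∧ τ c * c = e * h ∧
      ∀ a, a * A = A * a → a * A' = A' * a → a * h = h * a → a * e = e * a → a * c = c * a := by
  classical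
  have hA'h : A' * h = h * A' := by
    have := congrArg τ hAh
    rw [hτm, hτm, hh, hA] at this
    exact this.symm
  have hA'e : A' * e = e * A' := by
    have := congrArg τ hAe
    rw [hτm, hτm, he, hA] at this
    exact this.symm
  obtain ⟨t, ht⟩ : ∃ t, t = A + A' := ⟨_, rfl⟩
  have hte : t * e = e * t := by rw [ht, add_mul, mul_add, hAe, hA'e]
  have hth : t * h = h * t := by rw [ht, add_mul, mul_add, hAh, hA'h]
  have hsτ : ∀ x ∈ ({t, e, h} : Set M), τ x = x := by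
    rintro x (rfl | rfl | rfl)
    · rw [ht, map_add, hA, hA', add_comm]
    · exact he
    · exact hh
  have hcomm : ∀ x ∈ ({t, e, h} : Set M), ∀ y ∈ ({t, e, h} : Set M), x * y = y * x := by
    rintro x (rfl | rfl | rfl) y (rfl | rfl | rfl)
    · rfl
    · exact hte
    · exact hth
    · exact hte.symm
    · rfl
    · exact heh
    · exact hth.symm
    · exact heh.symm
    · rfl
  let R : Subring M := Subring.closure {t, e, h}
  have hmc : IsMulCommutative R := Subring.isMulCommutative_closure hcomm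
  let _ : CommRing R := { (inferInstance : Ring R) with mul_comm := hmc.is_comm.comm }
  have hRc : ∀ x ∈ R, ∀ y ∈ R, x * y = y * x := fun x hx y hy =>
    congrArg (Subtype.val : R → M) (mul_comm (⟨x, hx⟩ : R) ⟨y, hy⟩)
  have hRτ : ∀ x ∈ R, τ x = x := by
    intro x hx
    induction hx using Subring.closure_induction with
    | mem x hx => exact hsτ x hx
    | zero => exact map_zero τ
    | one => exact hτ1
    | add x y _ _ hx hy => rw [map_add, hx, hy]
    | neg x _ hx => rw [map_neg, hx]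
    | mul x y hx' hy' hx hy => rw [hτm, hx, hy]; exact hRc y hy' x hx'
  have hRcen : ∀ a, a * t = t * a → a * e = e * a → a * h = h * a → ∀ x ∈ R, a * x = x * a := by
    intro a h1 h2 h3 x hx
    induction hx using Subring.closure_induction with
    | mem x hx =>
      rcases hx with rfl | rfl | rfl
      · exact h1
      · exact h2
      · exact h3
    | zero => rw [mul_zero, zero_mul]
    | one => rw [mul_one, one_mul]
    | add x y _ _ hx hy => rw [mul_add, add_mul, hx, hy]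
    | neg x _ hx => rw [mul_neg, neg_mul, hx]
    | mul x y _ _ hx hy => rw [← mul_assoc, hx, mul_assoc, hy, mul_assoc]
  have htR : t ∈ R := Subring.subset_closure (by simp)
  have heR : e ∈ R := Subring.subset_closure (by simp)
  have hhR : h ∈ R := Subring.subset_closure (by simp)
  have hunit : ∀ x (hx : x ∈ R), IsUnit x → IsUnit (⟨x, hx⟩ : R) := by
    intro x hx hu
    obtain ⟨u, rfl⟩ := hu
    obtain ⟨k, hk, hk1⟩ := (isOfFinOrder_iff_pow_eq_one).mp (isOfFinOrder_of_finite u)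
    have h1 : (⟨(u : M), hx⟩ : R) ^ k = 1 := Subtype.ext (by
      have := congrArg Units.val hk1
      simpa using this)
    exact IsUnit.of_pow_eq_one h1 hk.ne'
  -- the elements of `R`
  let tR : R := ⟨t, htR⟩
  let eR : R := ⟨e, heR⟩
  let hR : R := ⟨h, hhR⟩
  have heeR : eR * eR = eR := Subtype.ext hee
  have ht2 : (A - A') ^ 2 = t ^ 2 - 4 := by
    rw [ht]
    calc (A - A') ^ 2 = A * A - A * A' - A' * A + A' * A' := by noncomm_ring
      _ = A * A + A * A' + A' * A + A' * A' - 4 := by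
        have h4 : (4 : M) = 1 + 1 + 1 + 1 := by norm_num
        rw [hAA, hAA', h4]; abel
      _ = (A + A') ^ 2 - 4 := by noncomm_ring
  have hdR : IsUnit (eR * (tR ^ 2 - 4) + (1 - eR)) := by
    have h4 : ((4 : R) : M) = 4 := rfl
    have : eR * (tR ^ 2 - 4) + (1 - eR) =
        ⟨e * (A - A') ^ 2 + (1 - e), by
          rw [ht2]
          exact R.add_mem (R.mul_mem heR (R.sub_mem (R.pow_mem htR 2) (ofNat_mem R 4)))
            (R.sub_mem R.one_mem heR)⟩ := by
      apply Subtype.ext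
      change e * (t ^ 2 - 4) + (1 - e) = e * (A - A') ^ 2 + (1 - e)
      rw [ht2]
    rw [this]
    exact hunit _ _ hu
  have hdR' : IsUnit ((eR * tR + (1 - eR)) ^ 2 - 4 * eR) := by
    have : (eR * tR + (1 - eR)) ^ 2 - 4 * eR = eR * (tR ^ 2 - 4) + (1 - eR) := by
      linear_combination (tR ^ 2 - 2 * tR + 1) * heeR
    rw [this]; exact hdR
  obtain ⟨x, y, hxy⟩ := exists_norm_eq (R := R) (eR * tR + (1 - eR)) eR hdR' hR (hunit _ _ hhu)
  have hxy2 : eR * (x ^ 2 + tR * x * y + y ^ 2) = eR * hR := by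
    rw [← hxy, nf_def]
    linear_combination (-(tR * x * y) + x * y - y ^ 2) * heeR
  have hxyM : e * ((x : M) ^ 2 + t * x * y + (y : M) ^ 2) = e * h :=
    congrArg (Subtype.val : R → M) hxy2
  have hAR : ∀ z ∈ R, A * z = z * A := hRcen A
    (by rw [ht, mul_add, add_mul, hAA, hAA']) hAe hAh
  have hA'R : ∀ z ∈ R, A' * z = z * A' := hRcen A'
    (by rw [ht, mul_add, add_mul, hAA, hAA']) hA'e hA'h
  have hex : e * (x : M) = x * e := hRc e heR x x.2
  have hey : e * (y : M) = y * e := hRc e heR y y.2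
  have hxy0 : (x : M) * y = y * x := hRc x x.2 y y.2
  have hAx := hAR x x.2
  have hAy := hAR y y.2
  have hA'x := hA'R x x.2
  have hA'y := hA'R y y.2
  have hec : e * ((x : M) + y * A) = (x + y * A) * e := by
    rw [mul_add, add_mul, hex, ← mul_assoc, hey, mul_assoc, mul_assoc, hAe]
  refine ⟨e * (x + y * A), ?_, ?_, ?_, ?_⟩
  · rw [← mul_assoc, hee]
  · rw [mul_assoc, ← hec, ← mul_assoc, hee]
  · have h1 : τ (e * ((x : M) + y * A)) = (x + A' * y) * e := by
      rw [hτm, map_add, hτm, hRτ x x.2, hRτ y y.2, hA, he]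
    rw [h1]
    have h2 : ((x : M) + A' * y) * e * (e * (x + y * A)) =
        e * ((x + A' * y) * (x + y * A)) := by
      have h3 : ((x : M) + A' * y) * e = e * (x + A' * y) := by
        rw [mul_add, add_mul, hex, mul_assoc, ← hey, ← mul_assoc, hA'e, mul_assoc]
      rw [h3, mul_assoc, ← mul_assoc _ e, h3, mul_assoc, ← mul_assoc e e, hee]
    rw [h2, ← hxyM]
    congr 1
    have h4 : ((x : M) + A' * y) * (x + y * A) =
        x * x + (x * y * A + A' * y * x) + A' * y * y * A := by noncomm_ring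
    rw [h4, ht]
    have l1 : (x : M) * y * A = A * x * y := by rw [hAx, mul_assoc, mul_assoc, hAy]
    have l2 : A' * (y : M) * x = A' * x * y := by rw [mul_assoc, ← hxy0, ← mul_assoc]
    have l3 : A' * (y : M) * y * A = y * y := by
      rw [mul_assoc (A' * (y : M)), ← hAy, ← mul_assoc, hA'y, mul_assoc (y : M), hAA', mul_one]
    rw [l1, l2, l3]
    noncomm_ring
  · intro a h1 h2 h3 h4
    have hat : a * t = t * a := by rw [ht, mul_add, add_mul, h1, h2]
    have hax : a * (x : M) = x * a := hRcen a hat h4 h3 x x.2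
    have hay : a * (y : M) = y * a := hRcen a hat h4 h3 y y.2
    rw [← mul_assoc, h4, mul_assoc, mul_assoc]
    congr 1
    rw [mul_add, add_mul, hax, ← mul_assoc, hay, mul_assoc, h1, mul_assoc]

section Symp

variable {F : Type*} [Field F] {m : ℕ}

/-- The adjoint for the alternating form. -/
def adj (m : ℕ) (F : Type*) [Field F] :
    Matrix (Fin m ⊕ Fin m) (Fin m ⊕ Fin m) F →+ Matrix (Fin m ⊕ Fin m) (Fin m ⊕ Fin m) F where
  toFun X := -J (Fin m) F * Xᵀ * J (Fin m) F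
  map_zero' := by simp
  map_add' X Y := by rw [Matrix.transpose_add, Matrix.mul_add, Matrix.add_mul]

theorem adj_apply (X : Matrix (Fin m ⊕ Fin m) (Fin m ⊕ Fin m) F) :
    adj m F X = -J (Fin m) F * Xᵀ * J (Fin m) F := rfl

theorem J_mul_adj (X : Matrix (Fin m ⊕ Fin m) (Fin m ⊕ Fin m) F) :
    J (Fin m) F * adj m F X = Xᵀ * J (Fin m) F := by
  rw [adj_apply, ← Matrix.mul_assoc, ← Matrix.mul_assoc, Matrix.mul_neg, J_squared, neg_neg,
    Matrix.one_mul]

/-- The defining property of the adjoint. -/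
theorem sympForm_adj (X : Matrix (Fin m ⊕ Fin m) (Fin m ⊕ Fin m) F) (u v : Fin m ⊕ Fin m → F) :
    sympForm m F (X *ᵥ u) v = sympForm m F u (adj m F X *ᵥ v) := by
  rw [sympForm_def, sympForm_def, Matrix.mulVec_mulVec, J_mul_adj, ← Matrix.mulVec_mulVec,
    Matrix.dotProduct_mulVec u, Matrix.vecMul_transpose]

theorem adj_mul (X Y : Matrix (Fin m ⊕ Fin m) (Fin m ⊕ Fin m) F) :
    adj m F (X * Y) = adj m F Y * adj m F X := by
  have h2 : J (Fin m) F * (-J (Fin m) F) = 1 := by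
    rw [Matrix.mul_neg, J_squared, neg_neg]
  rw [adj_apply, adj_apply, adj_apply, Matrix.transpose_mul]
  calc -J (Fin m) F * (Yᵀ * Xᵀ) * J (Fin m) F
      = -J (Fin m) F * Yᵀ * 1 * Xᵀ * J (Fin m) F := by
        rw [Matrix.mul_one]; simp only [Matrix.mul_assoc]
    _ = _ := by rw [← h2]; simp only [Matrix.mul_assoc]

theorem adj_one : adj m F 1 = 1 := by
  rw [adj_apply, Matrix.transpose_one, Matrix.mul_one, Matrix.neg_mul, J_squared, neg_neg]

/-- Matrices are determined by the form. -/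
theorem ext_form {X Y : Matrix (Fin m ⊕ Fin m) (Fin m ⊕ Fin m) F}
    (h : ∀ u v, sympForm m F u (X *ᵥ v) = sympForm m F u (Y *ᵥ v)) : X = Y := by
  apply Matrix.ext_of_mulVec_single
  intro i
  exact eq_of_forall_sympForm_left fun w => h w _

theorem adj_adj (X : Matrix (Fin m ⊕ Fin m) (Fin m ⊕ Fin m) F) : adj m F (adj m F X) = X := by
  apply ext_form
  intro u v
  rw [← sympForm_adj, sympForm_swap, ← sympForm_adj, ← sympForm_swap]

/-- Elements of the symplectic group: `adj A * A = 1`. -/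
theorem mem_symplecticGroup_iff_adj {A : Matrix (Fin m ⊕ Fin m) (Fin m ⊕ Fin m) F} :
    A ∈ Matrix.symplecticGroup (Fin m) F ↔ adj m F A * A = 1 := by
  rw [mem_symplecticGroup_iff]
  constructor
  · intro h
    apply ext_form
    intro u v
    rw [← Matrix.mulVec_mulVec, ← sympForm_adj, h, Matrix.one_mulVec]
  · intro h u v
    rw [sympForm_adj, Matrix.mulVec_mulVec, h, Matrix.one_mulVec]

theorem adj_eq_inv (A : Matrix.symplecticGroup (Fin m) F) :
    adj m F (A : Matrix (Fin m ⊕ Fin m) (Fin m ⊕ Fin m) F) =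
      ((A⁻¹ : Matrix.symplecticGroup (Fin m) F) : Matrix (Fin m ⊕ Fin m) (Fin m ⊕ Fin m) F) := rfl

/-- **The alternating corner**: `e` a self-adjoint idempotent commuting with `h = adj g * g`,
`g` invertible; then `e * h = adj c * c` for some `c` in the corner of `e`. -/
theorem exists_symp_corner (e g : Matrix (Fin m ⊕ Fin m) (Fin m ⊕ Fin m) F)
    (he : adj m F e = e) (hee : e * e = e) (hg : IsUnit g)
    (heh : e * (adj m F g * g) = adj m F g * g * e) :
    ∃ c : Matrix (Fin m ⊕ Fin m) (Fin m ⊕ Fin m) F, e * c = c ∧ c * e = c ∧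
      adj m F c * c = e * (adj m F g * g) := by
  classical
  let W : Submodule F (Fin m ⊕ Fin m → F) := LinearMap.range (Matrix.mulVecLin e)
  have hW : ∀ v, v ∈ W ↔ e *ᵥ v = v := by
    intro v
    constructor
    · rintro ⟨w, rfl⟩
      rw [Matrix.mulVecLin_apply, Matrix.mulVec_mulVec, hee]
    · intro h; exact ⟨v, h⟩
  have heW : ∀ v, e *ᵥ v ∈ W := fun v => ⟨v, rfl⟩
  have hselfadj : ∀ u v, sympForm m F (e *ᵥ u) v = sympForm m F u (e *ᵥ v) := by
    intro u v; rw [sympForm_adj, he]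
  obtain ⟨gu, hgu⟩ := hg
  -- two forms on `W`
  let B₁ : LinearMap.BilinForm F W := (sympBilin m F).domRestrict₁₂ W W
  let B₂ : LinearMap.BilinForm F W :=
    ((sympBilin m F).compl₁₂ (Matrix.mulVecLin g) (Matrix.mulVecLin g)).domRestrict₁₂ W W
  have hB₁ : ∀ u v : W, B₁ u v = sympForm m F u v := fun u v => sympBilin_apply _ _
  have hB₂ : ∀ u v : W, B₂ u v = sympForm m F (g *ᵥ (u : Fin m ⊕ Fin m → F)) (g *ᵥ v) :=
    fun u v => sympBilin_apply _ _
  have hB₁a : B₁.IsAlt := fun u => by rw [hB₁, sympForm_self]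
  have hB₂a : B₂.IsAlt := fun u => by rw [hB₂, sympForm_self]
  have hB₁n : ∀ u, (∀ v, B₁ u v = 0) → u = 0 := by
    intro u h
    apply Subtype.ext
    apply eq_zero_of_forall_sympForm_right
    intro w
    rw [← (hW u).mp u.2, hselfadj, ← hB₁ u ⟨_, heW w⟩]
    exact h _
  have hB₂n : ∀ u, (∀ v, B₂ u v = 0) → u = 0 := by
    intro u h
    apply Subtype.ext
    have h1 : adj m F g *ᵥ (g *ᵥ (u : Fin m ⊕ Fin m → F)) = 0 := by
      apply eq_zero_of_forall_sympForm_left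
      intro w
      rw [← (hW u).mp u.2, Matrix.mulVec_mulVec, Matrix.mulVec_mulVec, ← heh,
        ← Matrix.mulVec_mulVec, ← hselfadj, ← Matrix.mulVec_mulVec, ← sympForm_adj]
      have := h ⟨_, heW w⟩
      rw [hB₂, sympForm_swap] at this
      exact neg_eq_zero.mp this
    have h2 : (gu⁻¹ : (Matrix (Fin m ⊕ Fin m) (Fin m ⊕ Fin m) F)ˣ).1 * gu.1 = 1 := gu.inv_mul
    have h3 : adj m F (gu⁻¹ : (Matrix (Fin m ⊕ Fin m) (Fin m ⊕ Fin m) F)ˣ).1 * adj m F g = 1 := by
      rw [← adj_mul, ← hgu, gu.mul_inv, adj_one]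
    have h4 : g *ᵥ (u : Fin m ⊕ Fin m → F) = 0 := by
      have := congrArg (fun v => adj m F (gu⁻¹ : (Matrix (Fin m ⊕ Fin m) (Fin m ⊕ Fin m) F)ˣ).1 *ᵥ v)
        h1
      simp only [Matrix.mulVec_zero] at this
      rw [Matrix.mulVec_mulVec, h3, Matrix.one_mulVec] at this
      exact this
    have := congrArg (fun v => (gu⁻¹ : (Matrix (Fin m ⊕ Fin m) (Fin m ⊕ Fin m) F)ˣ).1 *ᵥ v) h4
    simp only [Matrix.mulVec_zero] at this
    rw [Matrix.mulVec_mulVec, ← hgu, h2, Matrix.one_mulVec] at this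
    simpa using this
  obtain ⟨k, l, b, -, -, -, hb⟩ := Cfsg.Agent.S0752.result B₁ hB₁a
  have hl : l = 0 := by
    by_contra hl
    have h1 := hB₁n (b (Sum.inr ⟨0, Nat.pos_of_ne_zero hl⟩)) (hb _)
    exact b.ne_zero _ h1
  have hdim : Module.finrank F W = 2 * k := by
    rw [Module.finrank_eq_card_basis b, hl]; simp; ring
  obtain ⟨e₁, he₁⟩ := Cfsg.Agent.ClassicalGeometry.SympIso.exists_linearEquiv_sympForm B₁ hB₁a
    hB₁n hdim
  obtain ⟨e₂, he₂⟩ := Cfsg.Agent.ClassicalGeometry.SympIso.exists_linearEquiv_sympForm B₂ hB₂a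
    hB₂n hdim
  -- `c = e₁ ∘ e₂⁻¹ ∘ e`
  let E : (Fin m ⊕ Fin m → F) →ₗ[F] W := (Matrix.mulVecLin e).codRestrict W heW
  let C : (Fin m ⊕ Fin m → F) →ₗ[F] (Fin m ⊕ Fin m → F) :=
    W.subtype ∘ₗ e₁.toLinearMap ∘ₗ e₂.symm.toLinearMap ∘ₗ E
  have hC : ∀ v, LinearMap.toMatrix' C *ᵥ v = (e₁ (e₂.symm (E v)) : Fin m ⊕ Fin m → F) := by
    intro v
    rw [← Matrix.toLin'_apply, Matrix.toLin'_toMatrix']
    rfl
  have hE : ∀ v, ((E v : W) : Fin m ⊕ Fin m → F) = e *ᵥ v := fun v => rfl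
  refine ⟨LinearMap.toMatrix' C, ?_, ?_, ?_⟩
  · apply Matrix.ext_of_mulVec_single
    intro i
    rw [← Matrix.mulVec_mulVec, hC]
    exact (hW _).mp (e₁ (e₂.symm (E _))).2
  · apply Matrix.ext_of_mulVec_single
    intro i
    rw [← Matrix.mulVec_mulVec, hC, hC]
    have : E (e *ᵥ Pi.single i 1) = E (Pi.single i 1) := by
      apply Subtype.ext
      rw [hE, hE, Matrix.mulVec_mulVec, hee]
    rw [this]
  · apply ext_form
    intro u v
    rw [← Matrix.mulVec_mulVec, ← sympForm_adj, hC, hC, ← hB₁, he₁, ← he₂,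
      LinearEquiv.apply_symm_apply, LinearEquiv.apply_symm_apply, hB₂, hE, hE]
    rw [sympForm_adj, Matrix.mulVec_mulVec, hselfadj, Matrix.mulVec_mulVec, Matrix.mulVec_mulVec]
    congr 2
    rw [Matrix.mul_assoc, ← heh, ← Matrix.mul_assoc, hee]

/-- The average of a finite subgroup. -/
noncomputable def avg (H : Subgroup (Matrix.symplecticGroup (Fin m) F)) [Fintype H] :
    Matrix (Fin m ⊕ Fin m) (Fin m ⊕ Fin m) F :=
  ((Fintype.card H : F))⁻¹ • ∑ y : H, ((y : Matrix.symplecticGroup (Fin m) F) :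
    Matrix (Fin m ⊕ Fin m) (Fin m ⊕ Fin m) F)

theorem mul_avg (H : Subgroup (Matrix.symplecticGroup (Fin m) F)) [Fintype H]
    (x : Matrix.symplecticGroup (Fin m) F) (hx : x ∈ H) :
    (x : Matrix (Fin m ⊕ Fin m) (Fin m ⊕ Fin m) F) * avg H = avg H := by
  rw [avg, mul_smul_comm, Finset.mul_sum]
  congr 1
  exact Fintype.sum_equiv (Equiv.mulLeft (⟨x, hx⟩ : H)) _ _ fun y => rfl

theorem avg_mul (H : Subgroup (Matrix.symplecticGroup (Fin m) F)) [Fintype H]
    (x : Matrix.symplecticGroup (Fin m) F) (hx : x ∈ H) :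
    avg H * (x : Matrix (Fin m ⊕ Fin m) (Fin m ⊕ Fin m) F) = avg H := by
  rw [avg, smul_mul_assoc, Finset.sum_mul]
  congr 1
  exact Fintype.sum_equiv (Equiv.mulRight (⟨x, hx⟩ : H)) _ _ fun y => rfl

theorem avg_mul_avg (H : Subgroup (Matrix.symplecticGroup (Fin m) F)) [Fintype H]
    (hH : (Fintype.card H : F) ≠ 0) : avg H * avg H = avg H := by
  have h1 : (∑ y : H, ((y : Matrix.symplecticGroup (Fin m) F) :
      Matrix (Fin m ⊕ Fin m) (Fin m ⊕ Fin m) F)) * avg H = (Fintype.card H : F) • avg H := by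
    rw [Finset.sum_mul,
      Finset.sum_congr rfl (fun (y : H) _ => mul_avg H (y : Matrix.symplecticGroup (Fin m) F) y.2),
      Finset.sum_const, Finset.card_univ, ← Nat.cast_smul_eq_nsmul F]
  calc avg H * avg H = ((Fintype.card H : F))⁻¹ • ((∑ y : H,
        ((y : Matrix.symplecticGroup (Fin m) F) :
          Matrix (Fin m ⊕ Fin m) (Fin m ⊕ Fin m) F)) * avg H) := smul_mul_assoc _ _ _
    _ = avg H := by rw [h1, smul_smul, inv_mul_cancel₀ hH, one_smul]

theorem adj_avg (H : Subgroup (Matrix.symplecticGroup (Fin m) F)) [Fintype H] :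
    adj m F (avg H) = avg H := by
  have hs : ∀ (c : F) X, adj m F (c • X) = c • adj m F X := by
    intro c X
    rw [adj_apply, adj_apply, Matrix.transpose_smul, mul_smul_comm, smul_mul_assoc]
  rw [avg, hs, map_sum]
  congr 1
  exact Fintype.sum_equiv (Equiv.inv H) _ _ fun y =>
    adj_eq_inv (y : Matrix.symplecticGroup (Fin m) F)

theorem commute_avg (H : Subgroup (Matrix.symplecticGroup (Fin m) F)) [Fintype H]
    (X : Matrix (Fin m ⊕ Fin m) (Fin m ⊕ Fin m) F)
    (hX : ∀ y ∈ H, X * (y : Matrix (Fin m ⊕ Fin m) (Fin m ⊕ Fin m) F) = y * X) :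
    X * avg H = avg H * X := by
  rw [avg, mul_smul_comm, smul_mul_assoc, Finset.mul_sum, Finset.sum_mul]
  congr 1
  exact Finset.sum_congr rfl fun y _ => hX y y.2

theorem avg_mulVec (H : Subgroup (Matrix.symplecticGroup (Fin m) F)) [Fintype H]
    (hH : (Fintype.card H : F) ≠ 0) (v : Fin m ⊕ Fin m → F)
    (hv : ∀ y ∈ H, (y : Matrix (Fin m ⊕ Fin m) (Fin m ⊕ Fin m) F) *ᵥ v = v) :
    avg H *ᵥ v = v := by
  rw [avg, Matrix.smul_mulVec, Matrix.sum_mulVec,
    Finset.sum_congr rfl (fun (y : H) _ => hv y y.2), Finset.sum_const, Finset.card_univ,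
    ← Nat.cast_smul_eq_nsmul F, smul_smul, inv_mul_cancel₀ hH, one_smul]

/-- What commutes with `x` commutes with its powers. -/
theorem commute_zpowers [Finite F] (x : Matrix.symplecticGroup (Fin m) F)
    (X : Matrix (Fin m ⊕ Fin m) (Fin m ⊕ Fin m) F)
    (hX : X * (x : Matrix (Fin m ⊕ Fin m) (Fin m ⊕ Fin m) F) = x * X) :
    ∀ y ∈ Subgroup.zpowers x, X * (y : Matrix (Fin m ⊕ Fin m) (Fin m ⊕ Fin m) F) = y * X := by
  intro y hy
  have hfin : Finite (Matrix.symplecticGroup (Fin m) F) := inferInstance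
  obtain ⟨k, rfl⟩ := (mem_powers_iff_mem_zpowers (x := x) (y := y)).mpr hy
  have : ∀ k : ℕ, X * ((x ^ k : Matrix.symplecticGroup (Fin m) F) :
      Matrix (Fin m ⊕ Fin m) (Fin m ⊕ Fin m) F) = (x ^ k : Matrix.symplecticGroup (Fin m) F) * X := by
    intro k
    rw [SubmonoidClass.coe_pow]
    exact ((show Commute X (x : Matrix (Fin m ⊕ Fin m) (Fin m ⊕ Fin m) F) from hX).pow_right k)
  exact this k

theorem mulVec_zpowers [Finite F] (x : Matrix.symplecticGroup (Fin m) F) (v : Fin m ⊕ Fin m → F)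
    (hv : (x : Matrix (Fin m ⊕ Fin m) (Fin m ⊕ Fin m) F) *ᵥ v = v) :
    ∀ y ∈ Subgroup.zpowers x, (y : Matrix (Fin m ⊕ Fin m) (Fin m ⊕ Fin m) F) *ᵥ v = v := by
  intro y hy
  have hfin : Finite (Matrix.symplecticGroup (Fin m) F) := inferInstance
  obtain ⟨k, rfl⟩ := (mem_powers_iff_mem_zpowers (x := x) (y := y)).mpr hy
  have : ∀ k : ℕ, ((x ^ k : Matrix.symplecticGroup (Fin m) F) :
      Matrix (Fin m ⊕ Fin m) (Fin m ⊕ Fin m) F) *ᵥ v = v := by
    intro k
    rw [SubmonoidClass.coe_pow]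
    induction k with
    | zero => rw [pow_zero, Matrix.one_mulVec]
    | succ k ih => rw [pow_succ, ← Matrix.mulVec_mulVec, hv, ih]
  exact this k

/-- Jordan blocks of size two do not occur for order prime to `p`. -/
theorem eq_zero_of_pow {ι : Type*} [Fintype ι] [DecidableEq ι] (X : Matrix ι ι F) {N : ℕ}
    (hN : (N : F) ≠ 0) (hX : X ^ N = 1) (v z : ι → F) (hz : X *ᵥ z = z) (hv : X *ᵥ v = v + z) :
    z = 0 := by
  have h1 : ∀ k : ℕ, X ^ k *ᵥ v = v + (k : F) • z := by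
    intro k
    induction k with
    | zero => simp
    | succ k ih =>
      rw [pow_succ', ← Matrix.mulVec_mulVec, ih, Matrix.mulVec_add, Matrix.mulVec_smul, hz, hv,
        add_assoc, Nat.cast_succ, add_smul, one_smul, add_comm z]
  have h2 := h1 N
  rw [hX, Matrix.one_mulVec] at h2
  have h3 : (N : F) • z = 0 := by
    have : v + 0 = v + (N : F) • z := by rw [add_zero]; exact h2
    exact (add_left_cancel this).symm
  exact (smul_eq_zero.mp h3).resolve_left hN

/-- Assembling the pieces. -/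
theorem combine (e₁ e₂ e₃ c₁ c₂ c₃ h : Matrix (Fin m ⊕ Fin m) (Fin m ⊕ Fin m) F)
    (he₁ : adj m F e₁ = e₁) (he₂ : adj m F e₂ = e₂) (he₃ : adj m F e₃ = e₃)
    (h12 : e₁ * e₂ = 0) (h13 : e₁ * e₃ = 0) (h21 : e₂ * e₁ = 0) (h23 : e₂ * e₃ = 0)
    (h31 : e₃ * e₁ = 0) (h32 : e₃ * e₂ = 0) (hsum : e₁ + e₂ + e₃ = 1)
    (hc₁ : e₁ * c₁ = c₁) (hc₂ : e₂ * c₂ = c₂) (hc₃ : e₃ * c₃ = c₃)
    (hh₁ : adj m F c₁ * c₁ = e₁ * h) (hh₂ : adj m F c₂ * c₂ = e₂ * h)
    (hh₃ : adj m F c₃ * c₃ = e₃ * h) :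
    adj m F (c₁ + c₂ + c₃) * (c₁ + c₂ + c₃) = h := by
  have aux : ∀ (e e' c c' : Matrix (Fin m ⊕ Fin m) (Fin m ⊕ Fin m) F), adj m F e = e →
      e * e' = 0 → e * c = c → e' * c' = c' → adj m F c * c' = 0 := by
    intro e e' c c' h1 h2 h3 h4
    rw [← h3, ← h4, adj_mul, h1, Matrix.mul_assoc, ← Matrix.mul_assoc e, h2, Matrix.zero_mul,
      Matrix.mul_zero]
  have a12 := aux e₁ e₂ c₁ c₂ he₁ h12 hc₁ hc₂
  have a13 := aux e₁ e₃ c₁ c₃ he₁ h13 hc₁ hc₃
  have a21 := aux e₂ e₁ c₂ c₁ he₂ h21 hc₂ hc₁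
  have a23 := aux e₂ e₃ c₂ c₃ he₂ h23 hc₂ hc₃
  have a31 := aux e₃ e₁ c₃ c₁ he₃ h31 hc₃ hc₁
  have a32 := aux e₃ e₂ c₃ c₂ he₃ h32 hc₃ hc₂
  rw [map_add, map_add]
  calc _ = (adj m F c₁ * c₁ + adj m F c₂ * c₂ + adj m F c₃ * c₃) +
        (adj m F c₁ * c₂ + adj m F c₁ * c₃ + adj m F c₂ * c₁ + adj m F c₂ * c₃ +
          adj m F c₃ * c₁ + adj m F c₃ * c₂) := by noncomm_ring
    _ = (e₁ + e₂ + e₃) * h := by
        rw [a12, a13, a21, a23, a31, a32, hh₁, hh₂, hh₃]; noncomm_ring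
    _ = h := by rw [hsum, Matrix.one_mul]

/-- The main reduction: given the idempotents. -/
theorem exists_factor [Finite F] (A : Matrix.symplecticGroup (Fin m) F)
    (g e₁ e₂ : Matrix (Fin m ⊕ Fin m) (Fin m ⊕ Fin m) F) (hg : IsUnit g)
    (hAh : (A : Matrix (Fin m ⊕ Fin m) (Fin m ⊕ Fin m) F) * (adj m F g * g) =
      adj m F g * g * A)
    (he₁ : adj m F e₁ = e₁) (he₂ : adj m F e₂ = e₂) (hee₁ : e₁ * e₁ = e₁) (hee₂ : e₂ * e₂ = e₂)
    (h12 : e₁ * e₂ = 0) (h21 : e₂ * e₁ = 0)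
    (hA₁ : (A : Matrix (Fin m ⊕ Fin m) (Fin m ⊕ Fin m) F) * e₁ = e₁)
    (hA₁' : e₁ * (A : Matrix (Fin m ⊕ Fin m) (Fin m ⊕ Fin m) F) = e₁)
    (hA₂ : (A : Matrix (Fin m ⊕ Fin m) (Fin m ⊕ Fin m) F) * e₂ = -e₂)
    (hA₂' : e₂ * (A : Matrix (Fin m ⊕ Fin m) (Fin m ⊕ Fin m) F) = -e₂)
    (hh₁ : e₁ * (adj m F g * g) = adj m F g * g * e₁)
    (hh₂ : e₂ * (adj m F g * g) = adj m F g * g * e₂)
    (hv : ∀ v : Fin m ⊕ Fin m → F, ((A : Matrix (Fin m ⊕ Fin m) (Fin m ⊕ Fin m) F) * (A : Matrix (Fin m ⊕ Fin m) (Fin m ⊕ Fin m) F) - 1) *ᵥ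
      (((A : Matrix (Fin m ⊕ Fin m) (Fin m ⊕ Fin m) F) * (A : Matrix (Fin m ⊕ Fin m) (Fin m ⊕ Fin m) F) - 1) *ᵥ v) = 0 →
      v = e₁ *ᵥ v + e₂ *ᵥ v) :
    ∃ c, adj m F c * c = adj m F g * g ∧ (A : Matrix (Fin m ⊕ Fin m) (Fin m ⊕ Fin m) F) * c = c * (A : Matrix (Fin m ⊕ Fin m) (Fin m ⊕ Fin m) F) := by
  classical
  set a : Matrix (Fin m ⊕ Fin m) (Fin m ⊕ Fin m) F := (A : Matrix (Fin m ⊕ Fin m) (Fin m ⊕ Fin m) F)
    with ha
  set a' : Matrix (Fin m ⊕ Fin m) (Fin m ⊕ Fin m) F :=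
    ((A⁻¹ : Matrix.symplecticGroup (Fin m) F) : Matrix (Fin m ⊕ Fin m) (Fin m ⊕ Fin m) F) with ha'
  have haa' : a * a' = 1 := congrArg Subtype.val (mul_inv_cancel A)
  have ha'a : a' * a = 1 := congrArg Subtype.val (inv_mul_cancel A)
  have hadja : adj m F a = a' := adj_eq_inv A
  have hadja' : adj m F a' = a := by rw [← hadja, adj_adj]
  set h := adj m F g * g with hh
  have hhs : adj m F h = h := by rw [hh, adj_mul, adj_adj]
  have hhu : IsUnit h := by
    obtain ⟨u, hu⟩ := hg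
    have h3 : adj m F (u⁻¹ : (Matrix (Fin m ⊕ Fin m) (Fin m ⊕ Fin m) F)ˣ).1 * adj m F g = 1 := by
      rw [← adj_mul, ← hu, u.mul_inv, adj_one]
    exact (IsUnit.of_mul_eq_one_right _ h3).mul ⟨u, hu⟩
  obtain ⟨e₃, he₃d⟩ : ∃ e₃, e₃ = 1 - e₁ - e₂ := ⟨_, rfl⟩
  have he₃ : adj m F e₃ = e₃ := by rw [he₃d, map_sub, map_sub, adj_one, he₁, he₂]
  have h13 : e₁ * e₃ = 0 := by
    rw [he₃d, mul_sub, mul_sub, mul_one, hee₁, h12, sub_self, sub_zero]
  have h31 : e₃ * e₁ = 0 := by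
    rw [he₃d, sub_mul, sub_mul, one_mul, hee₁, h21, sub_self, sub_zero]
  have h23 : e₂ * e₃ = 0 := by
    rw [he₃d, mul_sub, mul_sub, mul_one, hee₂, h21, sub_zero, sub_self]
  have h32 : e₃ * e₂ = 0 := by
    rw [he₃d, sub_mul, sub_mul, one_mul, hee₂, h12, sub_zero, sub_self]
  have hsum : e₁ + e₂ + e₃ = 1 := by rw [he₃d]; abel
  have hee₃ : e₃ * e₃ = e₃ := by
    conv_rhs => rw [← mul_one e₃, ← hsum, mul_add, mul_add, h31, h32, zero_add, zero_add]
  have hae₃ : a * e₃ = e₃ * a := by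
    rw [he₃d, mul_sub, mul_sub, sub_mul, sub_mul, mul_one, one_mul, hA₁, hA₁', hA₂, hA₂']
  have hhe₃ : e₃ * h = h * e₃ := by
    rw [he₃d, mul_sub, mul_sub, sub_mul, sub_mul, mul_one, one_mul, hh₁, hh₂]
  have hu : IsUnit (e₃ * (a - a') ^ 2 + (1 - e₃)) := by
    rw [← Matrix.mulVec_injective_iff_isUnit, ← Matrix.coe_mulVecLin, ← LinearMap.ker_eq_bot,
      LinearMap.ker_eq_bot']
    intro v hv0
    rw [Matrix.mulVecLin_apply] at hv0
    -- multiply by `e₃` and `1 - e₃`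
    have k1 : (1 - e₃) *ᵥ v = 0 := by
      have z1 : (1 - e₃) * e₃ = 0 := by rw [sub_mul, one_mul, hee₃, sub_self]
      have z2 : (1 - e₃) * (1 - e₃) = 1 - e₃ := by rw [mul_sub, mul_one, z1, sub_zero]
      have : (1 - e₃) * (e₃ * (a - a') ^ 2 + (1 - e₃)) = 1 - e₃ := by
        rw [mul_add, ← mul_assoc, z1, zero_mul, zero_add, z2]
      rw [← this, ← Matrix.mulVec_mulVec, hv0, Matrix.mulVec_zero]
    have k2 : (e₃ * (a - a') ^ 2) *ᵥ v = 0 := by
      rw [Matrix.add_mulVec, k1, add_zero] at hv0; exact hv0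
    have k3 : e₃ *ᵥ v = v := by
      rw [Matrix.sub_mulVec, Matrix.one_mulVec] at k1
      exact (sub_eq_zero.mp k1).symm
    have hae₃' : a' * e₃ = e₃ * a' := by
      have := congrArg (adj m F) hae₃
      rw [adj_mul, adj_mul, he₃, hadja] at this
      exact this.symm
    have k4 : (a - a') ^ 2 * e₃ = e₃ * (a - a') ^ 2 := by
      have : (a - a') * e₃ = e₃ * (a - a') := by rw [sub_mul, mul_sub, hae₃, hae₃']
      rw [sq, mul_assoc, this, ← mul_assoc, this, mul_assoc]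
    have k5 : (a - a') ^ 2 *ᵥ v = 0 := by
      rw [← k3, Matrix.mulVec_mulVec, k4, k2]
    have k6 : (a * a - 1) *ᵥ ((a * a - 1) *ᵥ v) = 0 := by
      have : (a * a - 1) * (a * a - 1) = a * a * (a - a') ^ 2 := by
        have e1 : a * a - 1 = a * (a - a') := by rw [mul_sub, haa']
        have e2 : a * a - 1 = (a - a') * a := by rw [sub_mul, ha'a]
        calc (a * a - 1) * (a * a - 1) = (a * (a - a')) * (a * (a - a')) := by rw [← e1]
          _ = a * ((a - a') * a) * (a - a') := by noncomm_ring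
          _ = a * (a * (a - a')) * (a - a') := by rw [← e2, ← e1]
          _ = _ := by rw [sq]; noncomm_ring
      rw [Matrix.mulVec_mulVec, this, ← Matrix.mulVec_mulVec, k5, Matrix.mulVec_zero]
    have k7 := hv v k6
    have k8 : e₃ *ᵥ v = 0 := by
      rw [k7, Matrix.mulVec_add, Matrix.mulVec_mulVec, Matrix.mulVec_mulVec, h31, h32,
        Matrix.zero_mulVec, add_zero]
    rw [← k3, k8]
  obtain ⟨c₃, hc₃, hc₃', hcc₃, hcom₃⟩ := exists_norm_corner (adj m F) adj_one adj_mul a a' e₃ h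
    hadja hadja' haa' ha'a he₃ hee₃ hhs hhu hAh hae₃ hhe₃ hu
  obtain ⟨c₁, hc₁, hc₁', hcc₁⟩ := exists_symp_corner e₁ g he₁ hee₁ hg hh₁
  obtain ⟨c₂, hc₂, hc₂', hcc₂⟩ := exists_symp_corner e₂ g he₂ hee₂ hg hh₂
  refine ⟨c₁ + c₂ + c₃, combine e₁ e₂ e₃ c₁ c₂ c₃ h he₁ he₂ he₃ h12 h13 h21 h23 h31 h32 hsum
    hc₁ hc₂ hc₃ hcc₁ hcc₂ hcc₃, ?_⟩
  have q1 : a * c₁ = c₁ * a := by
    rw [← hc₁, ← mul_assoc, hA₁, mul_assoc]
    conv_rhs => rw [← hc₁', mul_assoc, hA₁', hc₁']
  have q2 : a * c₂ = c₂ * a := by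
    calc a * c₂ = a * e₂ * c₂ := by rw [mul_assoc, hc₂]
      _ = - c₂ := by rw [hA₂, neg_mul, hc₂]
      _ = c₂ * (e₂ * a) := by rw [hA₂', mul_neg, hc₂']
      _ = c₂ * a := by rw [← mul_assoc, hc₂']
  have q3 : a * c₃ = c₃ * a := hcom₃ a rfl (by rw [haa', ha'a]) hAh hae₃
  rw [mul_add, mul_add, add_mul, add_mul, q1, q2, q3]

/-- **Semisimple elements of `Sp(2m, F)` conjugate in `GL` are conjugate in `Sp(2m, F)`.** -/
theorem exists_conj [Finite F] {p : ℕ} [Fact p.Prime] [CharP F p]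
    (A B : Matrix.symplecticGroup (Fin m) F) (hA : (orderOf A).Coprime p)
    (g : Matrix (Fin m ⊕ Fin m) (Fin m ⊕ Fin m) F) (hg : IsUnit g)
    (hgAB : g * (A : Matrix (Fin m ⊕ Fin m) (Fin m ⊕ Fin m) F) = B * g) : IsConj A B := by
  classical
  have hfinG : Finite (Matrix.symplecticGroup (Fin m) F) := inferInstance
  have := Fintype.ofFinite (Matrix.symplecticGroup (Fin m) F)
  set a : Matrix (Fin m ⊕ Fin m) (Fin m ⊕ Fin m) F := (A : Matrix (Fin m ⊕ Fin m) (Fin m ⊕ Fin m) F)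
    with ha
  have hB1 : adj m F (B : Matrix (Fin m ⊕ Fin m) (Fin m ⊕ Fin m) F) * B = 1 :=
    mem_symplecticGroup_iff_adj.mp B.2
  have hA1 : adj m F a * a = 1 := mem_symplecticGroup_iff_adj.mp A.2
  have hA1' : a * adj m F a = 1 := mul_eq_one_comm.mp hA1
  have haha : adj m F a * (adj m F g * g) * a = adj m F g * g := by
    calc adj m F a * (adj m F g * g) * a = adj m F (g * a) * (g * a) := by
          rw [adj_mul]; noncomm_ring
      _ = adj m F g * (adj m F (B : Matrix (Fin m ⊕ Fin m) (Fin m ⊕ Fin m) F) * B) * g := by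
          rw [hgAB, adj_mul]; noncomm_ring
      _ = adj m F g * g := by rw [hB1, mul_one]
  have hah : a * (adj m F g * g) = adj m F g * g * a := by
    calc a * (adj m F g * g) = a * (adj m F a * (adj m F g * g) * a) := by rw [haha]
      _ = (a * adj m F a) * (adj m F g * g) * a := by noncomm_ring
      _ = _ := by rw [hA1', one_mul]
  have hN : ((orderOf A : ℕ) : F) ≠ 0 := by
    rw [Ne, CharP.cast_eq_zero_iff F p]
    intro hdvd
    exact (Fact.out : p.Prime).one_lt.ne' (Nat.Coprime.eq_one_of_dvd hA.symm hdvd)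
  have haN : a ^ orderOf A = 1 := by
    have := congrArg Subtype.val (pow_orderOf_eq_one A)
    rwa [SubmonoidClass.coe_pow] at this
  have haN2 : (a * a) ^ orderOf A = 1 := by
    rw [← sq, ← pow_mul, mul_comm, pow_mul, haN, one_pow]
  have hP : ∀ v : Fin m ⊕ Fin m → F, (a * a - 1) *ᵥ ((a * a - 1) *ᵥ v) = 0 →
      (a * a) *ᵥ v = v := by
    intro v hv
    have h1 : (a * a) *ᵥ ((a * a - 1) *ᵥ v) = (a * a - 1) *ᵥ v := by
      rw [Matrix.sub_mulVec (a * a) 1 ((a * a - 1) *ᵥ v), Matrix.one_mulVec] at hv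
      exact sub_eq_zero.mp hv
    have h2 : (a * a) *ᵥ v = v + (a * a - 1) *ᵥ v := by
      rw [Matrix.sub_mulVec, Matrix.one_mulVec]; abel
    have h3 := eq_zero_of_pow (a * a) hN haN2 v _ h1 h2
    rw [h2, h3, add_zero]
  have hcard₁ : ((Fintype.card (Subgroup.zpowers A) : ℕ) : F) ≠ 0 := by
    rw [Fintype.card_zpowers]; exact hN
  have key : ∃ c, adj m F c * c = adj m F g * g ∧ a * c = c * a := by
    by_cases hp2 : p = 2
    · subst hp2
      have h2 : (2 : F) = 0 := CharTwo.two_eq_zero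
      refine exists_factor A g (avg (Subgroup.zpowers A)) 0 hg hah (adj_avg _) (map_zero _)
        (avg_mul_avg _ hcard₁) (zero_mul _) (mul_zero _) (zero_mul _)
        (mul_avg _ A (Subgroup.mem_zpowers A)) (avg_mul _ A (Subgroup.mem_zpowers A))
        (by simp) (by simp)
        (commute_avg _ _ (commute_zpowers A _ hah.symm)).symm (by simp) ?_
      intro v hv
      have h3 := hP v hv
      have h4 : a *ᵥ (a *ᵥ v - v) = a *ᵥ v - v := by
        rw [Matrix.mulVec_sub, Matrix.mulVec_mulVec, h3]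
        have : ∀ x y : Fin m ⊕ Fin m → F, x - y = y - x := by
          intro x y
          ext i
          have : (x i - y i) - (y i - x i) = 0 := by linear_combination (x i - y i) * h2
          simpa using sub_eq_zero.mp this
        exact this _ _
      have h5 : a *ᵥ v = v + (a *ᵥ v - v) := by abel
      have h6 := eq_zero_of_pow a hN haN v _ h4 h5
      have h7 : a *ᵥ v = v := sub_eq_zero.mp h6
      rw [avg_mulVec _ hcard₁ v (mulVec_zpowers A v h7), Matrix.zero_mulVec, add_zero]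
    · have h2 : (2 : F) ≠ 0 := by
        intro h
        have h' : ((2 : ℕ) : F) = 0 := by exact_mod_cast h
        rw [CharP.cast_eq_zero_iff F p] at h'
        exact hp2 ((Nat.prime_dvd_prime_iff_eq (Fact.out : p.Prime) Nat.prime_two).mp h')
      let A' : Matrix.symplecticGroup (Fin m) F := ⟨-a, SymplecticGroup.neg_mem A.2⟩
      have hA'v : (A' : Matrix (Fin m ⊕ Fin m) (Fin m ⊕ Fin m) F) = -a := rfl
      have hcard₂ : ((Fintype.card (Subgroup.zpowers A') : ℕ) : F) ≠ 0 := by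
        rw [Fintype.card_zpowers]
        have hdvd : orderOf A' ∣ 2 * orderOf A := by
          apply orderOf_dvd_of_pow_eq_one
          apply Subtype.ext
          rw [SubmonoidClass.coe_pow, hA'v, pow_mul, neg_sq, ← pow_mul, mul_comm, pow_mul, haN,
            one_pow]
          rfl
        intro h0
        obtain ⟨k, hk⟩ := hdvd
        have h3 : ((2 * orderOf A : ℕ) : F) = 0 := by rw [hk, Nat.cast_mul, h0, zero_mul]
        rw [Nat.cast_mul, mul_eq_zero] at h3
        rcases h3 with h3 | h3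
        · exact h2 (by exact_mod_cast h3)
        · exact hN h3
      set e₁ := avg (Subgroup.zpowers A) with he₁
      set e₂ := avg (Subgroup.zpowers A') with he₂
      have hA₁ : a * e₁ = e₁ := mul_avg _ A (Subgroup.mem_zpowers A)
      have hA₁' : e₁ * a = e₁ := avg_mul _ A (Subgroup.mem_zpowers A)
      have hA₂ : a * e₂ = -e₂ := by
        have : -a * e₂ = e₂ := mul_avg _ A' (Subgroup.mem_zpowers A')
        rw [neg_mul] at this
        rw [← neg_eq_iff_eq_neg]; exact this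
      have hA₂' : e₂ * a = -e₂ := by
        have : e₂ * -a = e₂ := avg_mul _ A' (Subgroup.mem_zpowers A')
        rw [mul_neg] at this
        rw [← neg_eq_iff_eq_neg]; exact this
      have h12 : e₁ * e₂ = 0 := by
        have h3 : e₁ * e₂ = -(e₁ * e₂) := by
          calc e₁ * e₂ = e₁ * a * e₂ := by rw [hA₁']
            _ = -(e₁ * e₂) := by rw [mul_assoc, hA₂, mul_neg]
        have h4 : (2 : F) • (e₁ * e₂) = 0 := by
          rw [two_smul]; nth_rewrite 1 [h3]; exact neg_add_cancel _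
        exact (smul_eq_zero.mp h4).resolve_left h2
      have h21 : e₂ * e₁ = 0 := by
        have h3 : e₂ * e₁ = -(e₂ * e₁) := by
          calc e₂ * e₁ = e₂ * (a * e₁) := by rw [hA₁]
            _ = -(e₂ * e₁) := by rw [← mul_assoc, hA₂', neg_mul]
        have h4 : (2 : F) • (e₂ * e₁) = 0 := by
          rw [two_smul]; nth_rewrite 1 [h3]; exact neg_add_cancel _
        exact (smul_eq_zero.mp h4).resolve_left h2
      refine exists_factor A g e₁ e₂ hg hah (adj_avg _) (adj_avg _)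
        (avg_mul_avg _ hcard₁) (avg_mul_avg _ hcard₂) h12 h21 hA₁ hA₁' hA₂ hA₂'
        (commute_avg _ _ (commute_zpowers A _ hah.symm)).symm
        (commute_avg _ _ (commute_zpowers A' _ (by
          rw [hA'v, mul_neg, neg_mul, hah]))).symm ?_
      intro v hv
      have h3 := hP v hv
      have h4 : (2 : F) • v = (v + a *ᵥ v) + (v - a *ᵥ v) := by rw [two_smul]; abel
      have h5 : a *ᵥ (v + a *ᵥ v) = v + a *ᵥ v := by
        rw [Matrix.mulVec_add, Matrix.mulVec_mulVec, h3, add_comm]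
      have h6 : (A' : Matrix (Fin m ⊕ Fin m) (Fin m ⊕ Fin m) F) *ᵥ (v - a *ᵥ v) = v - a *ᵥ v := by
        rw [hA'v, Matrix.neg_mulVec, Matrix.mulVec_sub, Matrix.mulVec_mulVec, h3, neg_sub]
      have h7 : e₁ *ᵥ (v + a *ᵥ v) = v + a *ᵥ v :=
        avg_mulVec _ hcard₁ _ (mulVec_zpowers A _ h5)
      have h8 : e₂ *ᵥ (v - a *ᵥ v) = v - a *ᵥ v :=
        avg_mulVec _ hcard₂ _ (mulVec_zpowers A' _ h6)
      have h9 : e₂ *ᵥ (v + a *ᵥ v) = 0 := by
        rw [← h7, Matrix.mulVec_mulVec, h21, Matrix.zero_mulVec]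
      have h10 : e₁ *ᵥ (v - a *ᵥ v) = 0 := by
        rw [← h8, Matrix.mulVec_mulVec, h12, Matrix.zero_mulVec]
      have h11 : (2 : F) • v = (2 : F) • (e₁ *ᵥ v + e₂ *ᵥ v) := by
        have k1 : e₁ *ᵥ ((2 : F) • v) = v + a *ᵥ v := by
          rw [h4, Matrix.mulVec_add e₁ (v + a *ᵥ v) (v - a *ᵥ v), h7, h10, add_zero]
        have k2 : e₂ *ᵥ ((2 : F) • v) = v - a *ᵥ v := by
          rw [h4, Matrix.mulVec_add e₂ (v + a *ᵥ v) (v - a *ᵥ v), h8, h9, zero_add]
        rw [smul_add, ← Matrix.mulVec_smul, ← Matrix.mulVec_smul, k1, k2, h4]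
      exact smul_right_injective _ h2 h11
  obtain ⟨c, hc, hac⟩ := key
  have hgg : IsUnit (adj m F g * g) := by
    obtain ⟨u, hu⟩ := hg
    have h3 : adj m F (u⁻¹ : (Matrix (Fin m ⊕ Fin m) (Fin m ⊕ Fin m) F)ˣ).1 * adj m F g = 1 := by
      rw [← adj_mul, ← hu, u.mul_inv, adj_one]
    exact (IsUnit.of_mul_eq_one_right _ h3).mul ⟨u, hu⟩
  have hcu : IsUnit c := by
    rw [← hc] at hgg
    exact isUnit_of_mul_isUnit_right hgg
  obtain ⟨C, rfl⟩ := hcu
  set ci := (C⁻¹ : (Matrix (Fin m ⊕ Fin m) (Fin m ⊕ Fin m) F)ˣ).1 with hci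
  have hcc : C.1 * ci = 1 := C.mul_inv
  have hcc' : ci * C.1 = 1 := C.inv_mul
  have hu : g * ci ∈ Matrix.symplecticGroup (Fin m) F := by
    rw [mem_symplecticGroup_iff_adj, adj_mul]
    calc adj m F ci * adj m F g * (g * ci) = adj m F ci * (adj m F g * g) * ci := by noncomm_ring
      _ = adj m F (C.1 * ci) * (C.1 * ci) := by rw [← hc, adj_mul]; noncomm_ring
      _ = 1 := by rw [hcc, adj_one, one_mul]
  refine isConj_iff.mpr ⟨⟨g * ci, hu⟩, ?_⟩
  rw [mul_inv_eq_iff_eq_mul]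
  apply Subtype.ext
  change g * ci * a = B * (g * ci)
  have hac' : ci * a = a * ci := by
    calc ci * a = ci * a * (C.1 * ci) := by rw [hcc, mul_one]
      _ = ci * (a * C.1) * ci := by noncomm_ring
      _ = (ci * C.1) * a * ci := by rw [hac]; noncomm_ring
      _ = a * ci := by rw [hcc', one_mul]
  rw [mul_assoc, hac', ← mul_assoc, hgAB, mul_assoc]

end Symp

end Cfsg.Agent.H175.SympConj
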