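import Mathlib
import Cfsg.Agent.H912.Bd5
import Cfsg.Agent.H934.IdxSL

/-!
# Cross characteristic degree bound for `SL_m(q)`, `m ≥ 3`

If `j : SL_m(K) → T` has central kernel, `|K| = q` a power of `r`, then every projective representation of `T`
(kernel prime to `r`) over a field of characteristic different from `r` has degree at least `q ^ (m - 1) - 1`.
-/

set_option autoImplicit false

namespace Cfsg.Agent.H175.BdSL

open Matrix Cfsg.Agent.ClassicalGeometry.AutPSL.Root Cfsg.Agent.H934.IdxSL Cfsg.Agent.H912.Bd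

universe u v w

section

variable {ι K : Type*} [Fintype ι] [DecidableEq ι] [Field K]

theorem inv_mulVec_mulVec (g : SpecialLinearGroup ι K) (x : ι → K) : (g⁻¹).1 *ᵥ (g.1 *ᵥ x) = x := by
  rw [← sl_mul_mulVec, inv_mul_cancel, Matrix.SpecialLinearGroup.coe_one, one_mulVec]

theorem mulVec_inv_mulVec (g : SpecialLinearGroup ι K) (x : ι → K) : g.1 *ᵥ ((g⁻¹).1 *ᵥ x) = x := by
  rw [← sl_mul_mulVec, mul_inv_cancel, Matrix.SpecialLinearGroup.coe_one, one_mulVec]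

/-- Conjugates of transvections with centre `a`. -/
theorem conj_mem {g : SpecialLinearGroup ι K} {a : ι → K} {c : K} (hg : g.1 *ᵥ a = c • a) {x : SpecialLinearGroup ι K}
    (hx : x ∈ Qs a) : g * x * g⁻¹ ∈ Qs a := by
  obtain ⟨φ, h, rfl⟩ := hx
  have h1 : (c • (φ ᵥ* (g⁻¹).1)) ⬝ᵥ a = 0 := by
    rw [smul_dotProduct, ← dotProduct_mulVec, ← dotProduct_smul, ← mulVec_smul, ← hg, inv_mulVec_mulVec, h]
  refine ⟨_, h1, ?_⟩
  apply sl_ext
  intro x
  rw [sl_mul_mulVec, sl_mul_mulVec, tr_mulVec, tr_mulVec, mulVec_add, mulVec_smul, hg, mulVec_inv_mulVec,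
    smul_dotProduct, ← dotProduct_mulVec, smul_smul, smul_eq_mul, mul_comm]

theorem Qs_comm {a : ι → K} : ∀ x ∈ Qs a, ∀ y ∈ Qs a, x * y = y * x := by
  rintro _ ⟨φ, h, rfl⟩ _ ⟨ψ, h', rfl⟩
  rw [tr_mul_same_center, tr_mul_same_center]
  congr 1
  exact add_comm _ _

theorem Qs_pow {a : ι → K} {x : SpecialLinearGroup ι K} (r : ℕ) (hr : (r : K) = 0) (hx : x ∈ Qs a) : x ^ r = 1 := by
  obtain ⟨φ, h, rfl⟩ := hx
  have h1 : ∀ n : ℕ, ∃ h', (tr a φ h) ^ n = tr a ((n : K) • φ) h' := by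
    intro n
    induction n with
    | zero =>
      refine ⟨by simp, ?_⟩
      rw [pow_zero]
      exact (by
        have : tr a (((0 : ℕ) : K) • φ) (by simp) = tr a 0 (by simp) := by
          congr 1; simp
        rw [this, tr_zero])
    | succ n ih =>
      obtain ⟨h', ih⟩ := ih
      refine ⟨by rw [smul_dotProduct, h, smul_zero], ?_⟩
      rw [pow_succ, ih, tr_mul_same_center]
      congr 1
      push_cast
      rw [add_smul, one_smul]
  obtain ⟨h', h2⟩ := h1 r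
  rw [h2]
  have : tr a ((r : K) • φ) h' = tr a 0 (by simp) := by
    congr 1; rw [hr, zero_smul]
  rw [this, tr_zero]

/-- Nontrivial transvections with the same centre are conjugate in the stabiliser of the centre. -/
theorem exists_conj (hι : 3 ≤ Fintype.card ι) {a : ι → K} (ha : a ≠ 0) {x y : SpecialLinearGroup ι K}
    (hx : x ∈ Qs a) (hy : y ∈ Qs a) (hx1 : x ≠ 1) (hy1 : y ≠ 1) :
    ∃ g : SpecialLinearGroup ι K, (∀ z ∈ Qs a, g * z * g⁻¹ ∈ Qs a) ∧ g * x * g⁻¹ = y := by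
  obtain ⟨g, hg⟩ := isConj_iff.1 (Qs_isConj hι ha x hx y hy hx1 hy1)
  refine ⟨g, ?_, hg⟩
  obtain ⟨φ, h, rfl⟩ := hx
  obtain ⟨ψ, h', rfl⟩ := hy
  have hφ : φ ≠ 0 := by
    rintro rfl
    exact hx1 (tr_zero a h)
  -- `g a` is a multiple of `a`
  obtain ⟨v, hv⟩ : ∃ v : ι → K, φ ⬝ᵥ v = 1 := by
    obtain ⟨i, hi⟩ := Function.ne_iff.1 hφ
    refine ⟨Pi.single i (φ i)⁻¹, ?_⟩
    rw [dotProduct_single]
    exact mul_inv_cancel₀ hi
  have h1 : g * tr a φ h = tr a ψ h' * g := by rw [← hg]; group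
  have h2 := congrArg (fun z : SpecialLinearGroup ι K => z.1 *ᵥ v) h1
  simp only [sl_mul_mulVec, tr_mulVec, hv, one_smul, mulVec_add] at h2
  have h3 : g.1 *ᵥ a = (ψ ⬝ᵥ (g.1 *ᵥ v)) • a := add_left_cancel h2
  intro z hz
  exact conj_mem h3 hz

theorem Qs_inf_center [Nonempty ι] {a : ι → K} {x : SpecialLinearGroup ι K} (hx : x ∈ Qs a)
    (hc : x ∈ Subgroup.center (SpecialLinearGroup ι K)) : x = 1 := by
  obtain ⟨φ, h, rfl⟩ := hx
  have h1 : pr (tr a φ h) = pr (tr a 0 (by simp)) := by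
    rw [(pr_eq_one_iff _).2 hc, tr_zero, map_one]
  rw [tr_eq_of_pr_eq h1, tr_zero]

end

/-- **Degree bound for `SL_m(q)`, `m ≥ 3`, arbitrary index type.** -/
theorem bd_of_sl' {F : Type u} [Field F] {ι : Type w} [Fintype ι] [DecidableEq ι] {K : Type*} [Field K] [Fintype K]
    {r : ℕ} (hr : r.Prime) [CharP K r]
    (hι : 3 ≤ Fintype.card ι) (hrF : (r : F) ≠ 0) {T : Type v} [Group T] (j : SpecialLinearGroup ι K →* T)
    (hj : j.ker ≤ Subgroup.center _) : Bd F r (Fintype.card K ^ (Fintype.card ι - 1) - 1) T := by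
  classical
  have hne : (Finset.univ : Finset ι).Nonempty := by
    rw [← Finset.card_pos, Finset.card_univ]; omega
  obtain ⟨i0, -⟩ := hne
  have : Nonempty ι := ⟨i0⟩
  obtain ⟨j0, hj0⟩ : ∃ j0, i0 ≠ j0 := by
    by_contra hcon
    push Not at hcon
    have : Fintype.card ι ≤ 1 := Fintype.card_le_one_iff.2 fun x y => (hcon x).symm.trans (hcon y)
    omega
  have hs : (Pi.single j0 1 : ι → K) ⬝ᵥ (Pi.single i0 1 : ι → K) = 0 := by
    rw [dotProduct_single, Pi.single_eq_of_ne hj0, zero_mul]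
  set a : ι → K := Pi.single i0 1 with ha
  have ha1 : a ≠ 0 := by simp [ha]
  have hinj : ∀ x ∈ Qs a, j x = 1 → x = 1 := fun x hx h1 => Qs_inf_center hx (hj h1)
  set E : Subgroup T := (Qs a).map j with hE
  have hfin : Finite E := Finite.of_surjective (fun x : Qs a => (⟨j x, ⟨x, x.2, rfl⟩⟩ : E)) (by
    rintro ⟨_, x, hx, rfl⟩
    exact ⟨⟨x, hx⟩, rfl⟩)
  have hcard : Nat.card (Qs a) ≤ Nat.card E := by
    refine Nat.card_le_card_of_injective (fun x : Qs a => (⟨j x, ⟨x, x.2, rfl⟩⟩ : E)) ?_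
    intro x y hxy
    have h1 : j x = j y := congrArg Subtype.val hxy
    apply Subtype.ext
    have h2 := hinj ((x : SpecialLinearGroup ι K)⁻¹ * y) ((Qs a).mul_mem ((Qs a).inv_mem x.2) y.2) (by
      rw [map_mul, map_inv, h1, inv_mul_cancel])
    exact (inv_mul_eq_one.1 h2)
  have hr0 : (r : K) = 0 := CharP.cast_eq_zero K r
  have hmem : tr a (Pi.single j0 1) hs ∈ Qs a := ⟨_, _, rfl⟩
  have hne1 : tr a (Pi.single j0 1) hs ≠ 1 := by
    intro h1
    have h2 := tr_inj (a := a) ha1 (h := hs) (h' := by simp) (h1.trans (tr_zero a (by simp)).symm)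
    simpa using congrFun h2 j0
  refine (bd_of_trans hr hrF E ?_ ?_ (e₀ := j (tr a (Pi.single j0 1) hs)) ⟨_, hmem, rfl⟩
    (fun h1 => hne1 (hinj _ hmem h1)) ?_).mono (Nat.sub_le_sub_right ((card_Qs i0).trans hcard) 1)
  · rintro _ ⟨x, hx, rfl⟩ _ ⟨y, hy, rfl⟩
    rw [← map_mul, ← map_mul, Qs_comm x hx y hy]
  · rintro ⟨_, x, hx, rfl⟩
    refine ⟨1, Subtype.ext ?_⟩
    show j x ^ r ^ 1 = 1
    rw [pow_one, ← map_pow, Qs_pow r hr0 hx, map_one]
  · rintro _ ⟨x, hx, rfl⟩ hx1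
    have hx1' : x ≠ 1 := by rintro rfl; exact hx1 (map_one j)
    obtain ⟨g, hg1, hg2⟩ := exists_conj hι ha1 hx hmem hx1' hne1
    refine ⟨j g, ?_, ?_⟩
    · rintro _ ⟨z, hz, rfl⟩
      exact ⟨g * z * g⁻¹, hg1 z hz, by rw [map_mul, map_mul, map_inv]⟩
    · rw [← map_inv, ← map_mul, ← map_mul, hg2]

/-- **Degree bound for `SL_m(q)`, `m ≥ 3`.** -/
theorem bd_of_sl {F : Type u} [Field F] {K : Type*} [Field K] [Fintype K] {r q : ℕ} (hr : r.Prime) [CharP K r]
    (hq : Fintype.card K = q) {m : ℕ} (hm : 3 ≤ m) (hrF : (r : F) ≠ 0) {T : Type v} [Group T]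
    (j : SpecialLinearGroup (Fin m) K →* T)
    (hj : j.ker ≤ Subgroup.center _) : Bd F r (q ^ (m - 1) - 1) T := by
  have h := bd_of_sl' (F := F) (ι := Fin m) (K := K) hr (by rw [Fintype.card_fin]; exact hm) hrF j hj
  rwa [Fintype.card_fin, hq] at h

/-- **Degree bound for `PSL_m(q)`, `m ≥ 3`.** -/
theorem bd_psl {F : Type u} [Field F] {K : Type*} [Field K] [Fintype K] {r q : ℕ} (hr : r.Prime) [CharP K r]
    (hq : Fintype.card K = q) {m : ℕ} (hm : 3 ≤ m) (hrF : (r : F) ≠ 0) {T : Type v} [Group T]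
    (e : T ≃* (SpecialLinearGroup (Fin m) K ⧸ Subgroup.center (SpecialLinearGroup (Fin m) K))) :
    Bd F r (q ^ (m - 1) - 1) T := by
  refine bd_of_sl hr hq hm hrF (e.symm.toMonoidHom.comp (QuotientGroup.mk' _)) ?_
  intro x hx
  have h1 : e.symm (QuotientGroup.mk' _ x) = 1 := hx
  rw [MulEquiv.map_eq_one_iff] at h1
  exact (QuotientGroup.eq_one_iff x).1 h1

end Cfsg.Agent.H175.BdSL
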