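import Mathlib
import Cfsg.Agent.H386.PslPts
import Cfsg.Agent.ClassicalGeometry.AutPSL.Frame

/-!
# Half-transitive linear actions of `SL₃(q)`, `q` even

`SL₃(F)`, `F` finite of characteristic two, acts on an elementary abelian `2`-group `V` through `PSL₃(F)`, faithfully,
such that all orbits on `V ∖ 0` have the same length. Then `|V| = q ^ 3`, the action is transitive on `V ∖ 0` and
`3 ∤ q - 1`.
-/

set_option autoImplicit false

namespace Cfsg.Agent.H175.Psl3Aff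

open Matrix Cfsg.Agent.H118.SLTrans Cfsg.Agent.H386.PslPts

section Basic

variable {ι F : Type*} [Field F] [DecidableEq ι] [Fintype ι]

local notation "SL" => SpecialLinearGroup ι F

theorem invT_Tr {w φ : ι → F} (h : φ ⬝ᵥ w = 0) : invT (Tr w φ) = (Tr φ w)⁻¹ := by
  have h' : w ⬝ᵥ φ = 0 := by rw [dotProduct_comm, h]
  apply slext
  rw [invT_apply, ← Tr_neg h, ← Tr_neg' h', Tr_val (by rw [neg_dotProduct, h, neg_zero]),
    Tr_val (by rw [dotProduct_neg, h', neg_zero])]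
  ext i j
  simp [vecMulVec_apply, Matrix.one_apply, eq_comm, mul_comm]

/-- The axes of full groups of transvections in `H`. -/
def Ax (H : Subgroup SL) : Submodule F (ι → F) := Cen (H.map invT.toMonoidHom)

theorem mem_Ax {H : Subgroup SL} {φ : ι → F} : φ ∈ Ax H ↔ ∀ w : ι → F, φ ⬝ᵥ w = 0 → Tr w φ ∈ H := by
  unfold Ax
  rw [mem_Cen]
  refine forall_congr' fun w => ?_
  rw [dotProduct_comm w φ]
  refine imp_congr_right fun h => ?_
  constructor
  · rintro ⟨g, hg, hgw⟩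
    have h1 : invT (Tr w φ) = invT g⁻¹ := by
      rw [invT_Tr h, map_inv]
      rw [← hgw]; rfl
    rw [invT.injective h1]
    exact inv_mem hg
  · intro hg
    refine ⟨(Tr w φ)⁻¹, inv_mem hg, ?_⟩
    change invT (Tr w φ)⁻¹ = _
    rw [map_inv, invT_Tr h, inv_inv]

theorem invT_invT (g : SL) : invT (invT g) = g := by
  apply slext
  rw [invT_apply]
  have h1 : (invT g)⁻¹ = g.transpose := by
    rw [inv_eq_iff_eq_inv]
    change (g⁻¹).transpose = _
    rw [transpose_inv]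
  rw [h1]
  exact Matrix.transpose_transpose _

theorem map_map_invT (H : Subgroup SL) : (H.map invT.toMonoidHom).map invT.toMonoidHom = H := by
  ext g
  constructor
  · rintro ⟨_, ⟨x, hx, rfl⟩, rfl⟩
    change invT (invT x) ∈ H
    rw [invT_invT]; exact hx
  · intro hg
    exact ⟨invT g, ⟨g, hg, rfl⟩, invT_invT g⟩

theorem Ax_map (H : Subgroup SL) : Ax (H.map invT.toMonoidHom) = Cen H := by
  unfold Ax
  rw [map_map_invT]

theorem Cen_map (H : Subgroup SL) : Cen (H.map invT.toMonoidHom) = Ax H := rfl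

theorem map_eq_top {H : Subgroup SL} (h : H.map invT.toMonoidHom = ⊤) : H = ⊤ := by
  rw [← map_map_invT H, h]
  exact Subgroup.map_top_of_surjective _ invT.surjective

theorem eq_top_of_Ax [Nontrivial ι] (H : Subgroup SL) (h : Ax H = ⊤) : H = ⊤ :=
  map_eq_top (eq_top_of_Cen _ h)

/-- If the centres form the kernel of `χ`, then `χ` is an axis. -/
theorem mem_Ax_of_Cen {H : Subgroup SL} {χ : ι → F} (h : ∀ w, w ∈ Cen H ↔ χ ⬝ᵥ w = 0) : χ ∈ Ax H := by
  rw [mem_Ax]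
  intro w hw
  exact mem_Cen.1 ((h w).2 hw) χ hw

theorem mem_Cen_of_Ax {H : Subgroup SL} {w : ι → F} (h : ∀ φ, φ ∈ Ax H ↔ φ ⬝ᵥ w = 0) : w ∈ Cen H := by
  rw [mem_Cen]
  intro φ hφ
  exact mem_Ax.1 ((h φ).2 hφ) w hφ

/-- If the centres form the kernel of `χ`, then the axes are the multiples of `χ`. -/
theorem Ax_of_Cen {H : Subgroup SL} {χ ψ : ι → F} (h : ∀ w, w ∈ Cen H ↔ χ ⬝ᵥ w = 0) (hχ : χ ≠ 0)
    (hψ : ψ ∈ Ax H) : ∃ s : F, ψ = s • χ := by
  refine not_NP hχ ?_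
  intro hn
  -- `x ∈ ker χ ∖ ker ψ` and `c ∈ ker ψ ∖ ker χ`
  obtain ⟨i, j, hij⟩ := hn
  have h1 : ψ ⬝ᵥ (ψ j • (Pi.single i 1 : ι → F) - ψ i • Pi.single j 1) = 0 := by
    rw [dotProduct_sub, dotProduct_smul, dotProduct_smul, dotProduct_single, dotProduct_single]
    simp only [smul_eq_mul]; ring
  have h2 : χ ⬝ᵥ (χ j • (Pi.single i 1 : ι → F) - χ i • Pi.single j 1) = 0 := by
    rw [dotProduct_sub, dotProduct_smul, dotProduct_smul, dotProduct_single, dotProduct_single]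
    simp only [smul_eq_mul]; ring
  have h3 := smul_mem_Cen (mem_Ax.1 hψ _ h1) ((h _).2 h2)
  rw [h, Tr_mulVec h1, dotProduct_add, h2, zero_add, dotProduct_smul] at h3
  rw [dotProduct_sub, dotProduct_smul, dotProduct_smul, dotProduct_single, dotProduct_single,
    dotProduct_sub, dotProduct_smul, dotProduct_smul, dotProduct_single, dotProduct_single] at h3
  simp only [smul_eq_mul, mul_one] at h3
  apply hij
  have h4 : (χ i * ψ j - χ j * ψ i) ^ 2 = 0 := by linear_combination -h3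
  exact pow_eq_zero_iff two_ne_zero |>.1 h4

theorem Cen_of_Ax {H : Subgroup SL} {w u : ι → F} (h : ∀ φ, φ ∈ Ax H ↔ φ ⬝ᵥ w = 0) (hw : w ≠ 0)
    (hu : u ∈ Cen H) : ∃ s : F, u = s • w := by
  refine Ax_of_Cen (H := H.map invT.toMonoidHom) (χ := w) ?_ hw ?_
  · intro φ
    rw [Cen_map, h, dotProduct_comm]
  · rw [Ax_map]; exact hu

/-- A proper subspace of codimension one is the kernel of a functional. -/
theorem exists_ker {U : Submodule F (ι → F)} (h : Module.finrank F U + 1 = Fintype.card ι) :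
    ∃ χ : ι → F, χ ≠ 0 ∧ ∀ w, w ∈ U ↔ χ ⬝ᵥ w = 0 := by
  have htop : U ≠ ⊤ := by
    rintro rfl
    rw [finrank_top, Module.finrank_fintype_fun_eq_card] at h
    omega
  obtain ⟨f, hf0, hf⟩ := Submodule.exists_le_ker_of_lt_top U (lt_top_iff_ne_top.2 htop)
  have hker : U = LinearMap.ker f := by
    refine Submodule.eq_of_le_of_finrank_le hf ?_
    have h2 : LinearMap.ker f < ⊤ := by
      rw [lt_top_iff_ne_top]
      intro h3
      exact hf0 (LinearMap.ker_eq_top.1 h3)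
    have h3 := Submodule.finrank_lt h2.ne
    rw [Module.finrank_fintype_fun_eq_card] at h3
    omega
  let ψ : ι → F := fun i => f (Pi.single i 1)
  have hψ : ∀ v, ψ ⬝ᵥ v = f v := by
    intro v
    conv_rhs => rw [← Finset.univ_sum_single v, map_sum]
    refine Finset.sum_congr rfl fun i _ => ?_
    have : (Pi.single i (v i) : ι → F) = v i • (Pi.single i 1 : ι → F) := by
      rw [← Pi.single_smul, smul_eq_mul, mul_one]
    rw [this, map_smul, smul_eq_mul, mul_comm]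
  refine ⟨ψ, ?_, fun w => ?_⟩
  · intro h0
    exact hf0 (LinearMap.ext fun v => by rw [← hψ, h0, zero_dotProduct]; rfl)
  · rw [hψ, hker, LinearMap.mem_ker]

/-! ### Conjugation -/

theorem mem_Cen_conj {H : Subgroup SL} (g : SL) {w : ι → F} :
    g.1 *ᵥ w ∈ Cen (H.map (MulAut.conj g).toMonoidHom) ↔ w ∈ Cen H := by
  have key : ∀ (H : Subgroup SL) (g : SL) (w : ι → F), w ∈ Cen H →
      g.1 *ᵥ w ∈ Cen (H.map (MulAut.conj g).toMonoidHom) := by
    intro H g w hw φ hφ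
    rw [conj_mem_iff g w φ hφ]
    exact ⟨_, hw _ (by rw [← dotProduct_mulVec]; exact hφ), rfl⟩
  refine ⟨fun h => ?_, key H g w⟩
  have h1 := key _ g⁻¹ _ h
  rw [mulVec_mulVec, coe_inv_mul, one_mulVec] at h1
  have h2 : (H.map (MulAut.conj g).toMonoidHom).map (MulAut.conj g⁻¹).toMonoidHom = H := by
    ext x
    constructor
    · rintro ⟨_, ⟨y, hy, rfl⟩, rfl⟩
      have : (MulAut.conj g⁻¹).toMonoidHom ((MulAut.conj g).toMonoidHom y) = y := by
        change g⁻¹ * (g * y * g⁻¹) * g⁻¹⁻¹ = y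
        group
      rw [this]; exact hy
    · intro hx
      refine ⟨g * x * g⁻¹, ⟨x, hx, rfl⟩, ?_⟩
      change g⁻¹ * (g * x * g⁻¹) * g⁻¹⁻¹ = x
      group
  rwa [h2] at h1

theorem mem_Ax_conj {H : Subgroup SL} (g : SL) {φ : ι → F} :
    φ ∈ Ax (H.map (MulAut.conj g).toMonoidHom) ↔ φ ᵥ* g.1 ∈ Ax H := by
  have key : (H.map (MulAut.conj g).toMonoidHom).map invT.toMonoidHom =
      (H.map invT.toMonoidHom).map (MulAut.conj (invT g)).toMonoidHom := by
    rw [Subgroup.map_map, Subgroup.map_map]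
    congr 1
    ext x : 1
    change invT (g * x * g⁻¹) = invT g * invT x * (invT g)⁻¹
    rw [map_mul, map_mul, map_inv]
  unfold Ax
  rw [key]
  have h1 : φ = (invT g).1 *ᵥ (φ ᵥ* g.1) := by
    rw [invT_apply, mulVec_transpose, vecMul_vecMul, coe_mul_inv, vecMul_one]
  conv_lhs => rw [h1]
  rw [mem_Cen_conj]

end Basic

section Three

open Module

variable {F : Type*} [Field F]

local notation "SL" => SpecialLinearGroup (Fin 3) F

/-- Point type. -/
def IsP (H : Subgroup SL) (w : Fin 3 → F) : Prop :=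
  (∀ u, u ∈ Cen H ↔ ∃ s : F, u = s • w) ∧ ∀ φ, φ ∈ Ax H ↔ φ ⬝ᵥ w = 0

/-- Line type. -/
def IsL (H : Subgroup SL) (χ : Fin 3 → F) : Prop :=
  (∀ φ, φ ∈ Ax H ↔ ∃ s : F, φ = s • χ) ∧ ∀ u, u ∈ Cen H ↔ χ ⬝ᵥ u = 0

/-- Flag type. -/
def IsZ (H : Subgroup SL) (w χ : Fin 3 → F) : Prop :=
  (∀ u, u ∈ Cen H ↔ ∃ s : F, u = s • w) ∧ (∀ φ, φ ∈ Ax H ↔ ∃ s : F, φ = s • χ) ∧ χ ⬝ᵥ w = 0

theorem eq_smul_of_finrank {U : Submodule F (Fin 3 → F)} {w : Fin 3 → F} (hw : w ≠ 0) (hwU : w ∈ U)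
    (h : finrank F U = 1) (u : Fin 3 → F) : u ∈ U ↔ ∃ s : F, u = s • w := by
  have h1 : Submodule.span F {w} = U := by
    refine Submodule.eq_of_le_of_finrank_le ?_ ?_
    · rw [Submodule.span_le, Set.singleton_subset_iff]; exact hwU
    · rw [h, finrank_span_singleton hw]
  rw [← h1, Submodule.mem_span_singleton]
  exact exists_congr fun s => eq_comm

theorem finrank_pos_of_mem {U : Submodule F (Fin 3 → F)} {w : Fin 3 → F} (hw : w ≠ 0) (hwU : w ∈ U) :
    1 ≤ finrank F U := by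
  rw [Nat.one_le_iff_ne_zero]
  intro h0
  rw [Submodule.finrank_eq_zero] at h0
  rw [h0, Submodule.mem_bot] at hwU
  exact hw hwU

theorem finrank_lt_of_ne_top {U : Submodule F (Fin 3 → F)} (h : U ≠ ⊤) : finrank F U < 3 := by
  have := Submodule.finrank_lt h
  rwa [finrank_fintype_fun_eq_card, Fintype.card_fin] at this

/-- The trichotomy. -/
theorem tri {H : Subgroup SL} (hH : H ≠ ⊤) {w χ : Fin 3 → F} (hw : w ≠ 0) (hχ : χ ≠ 0) (h : χ ⬝ᵥ w = 0)
    (hwH : w ∈ Cen H) (hχH : χ ∈ Ax H) : IsP H w ∨ IsL H χ ∨ IsZ H w χ := by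
  have h1 := finrank_pos_of_mem hw hwH
  have h2 := finrank_pos_of_mem hχ hχH
  have h3 := finrank_lt_of_ne_top (fun h0 => hH (eq_top_of_Cen H h0))
  have h4 := finrank_lt_of_ne_top (fun h0 => hH (eq_top_of_Ax H h0))
  by_cases hc : finrank F (Cen H) = 2
  · right; left
    obtain ⟨χ', hχ'0, hχ'⟩ := exists_ker (U := Cen H) (by rw [hc]; rfl)
    obtain ⟨s, hs⟩ := Ax_of_Cen hχ' hχ'0 hχH
    have hs0 : s ≠ 0 := by rintro rfl; exact hχ (by rw [hs, zero_smul])
    constructor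
    · intro φ
      constructor
      · intro hφ
        obtain ⟨t, ht⟩ := Ax_of_Cen hχ' hχ'0 hφ
        refine ⟨t * s⁻¹, ?_⟩
        rw [hs, smul_smul, mul_assoc, inv_mul_cancel₀ hs0, mul_one, ht]
      · rintro ⟨t, rfl⟩
        exact (Ax H).smul_mem t hχH
    · intro u
      rw [hχ', hs, smul_dotProduct, smul_eq_mul, mul_eq_zero]
      simp [hs0]
  by_cases ha : finrank F (Ax H) = 2
  · left
    obtain ⟨w', hw'0, hw'⟩ := exists_ker (U := Ax H) (by rw [ha]; rfl)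
    have hw'2 : ∀ φ, φ ∈ Ax H ↔ φ ⬝ᵥ w' = 0 := fun φ => by rw [hw', dotProduct_comm]
    obtain ⟨s, hs⟩ := Cen_of_Ax hw'2 hw'0 hwH
    have hs0 : s ≠ 0 := by rintro rfl; exact hw (by rw [hs, zero_smul])
    constructor
    · intro u
      constructor
      · intro hu
        obtain ⟨t, ht⟩ := Cen_of_Ax hw'2 hw'0 hu
        refine ⟨t * s⁻¹, ?_⟩
        rw [hs, smul_smul, mul_assoc, inv_mul_cancel₀ hs0, mul_one, ht]
      · rintro ⟨t, rfl⟩
        exact (Cen H).smul_mem t hwH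
    · intro φ
      rw [hw'2, hs, dotProduct_smul, smul_eq_mul, mul_eq_zero]
      simp [hs0]
  · right; right
    exact ⟨eq_smul_of_finrank hw hwH (by omega), eq_smul_of_finrank hχ hχH (by omega), h⟩

/-- Transitivity on incident pairs of vectors and functionals. -/
theorem exists_pair {w χ : Fin 3 → F} (hw : w ≠ 0) (hχ : χ ≠ 0) (h : χ ⬝ᵥ w = 0) :
    ∃ g : SL, g.1 *ᵥ (Pi.single 0 1) = w ∧ χ ᵥ* g.1 = Pi.single 1 1 := by
  obtain ⟨A, hA1, hA2⟩ := Cfsg.Agent.ClassicalGeometry.AutPSL.Frame.exists_gl hw hχ h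
    (show (0 : Fin 3) ≠ 1 by decide)
  set d : F := (A : Matrix (Fin 3) (Fin 3) F).det with hd
  have hd0 : d ≠ 0 := by
    have := A.isUnit.map (Matrix.detMonoidHom)
    exact this.ne_zero
  set D : Matrix (Fin 3) (Fin 3) F := diagonal (fun k => if k = 2 then d⁻¹ else 1) with hD
  have hdetD : D.det = d⁻¹ := by
    rw [hD, det_diagonal, Finset.prod_ite_eq' Finset.univ 2]
    simp
  have hAD : ((A : Matrix (Fin 3) (Fin 3) F) * D).det = 1 := by
    rw [det_mul, hdetD, ← hd, mul_inv_cancel₀ hd0]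
  refine ⟨⟨(A : Matrix (Fin 3) (Fin 3) F) * D, hAD⟩, ?_, ?_⟩
  · change ((A : Matrix (Fin 3) (Fin 3) F) * D) *ᵥ _ = _
    rw [← mulVec_mulVec, hD, diagonal_mulVec_single, if_neg (by decide), mul_one, hA1]
  · change _ ᵥ* ((A : Matrix (Fin 3) (Fin 3) F) * D) = _
    rw [← vecMul_vecMul, hA2, hD, single_vecMul_diagonal, if_neg (by decide), mul_one]

/-- Elements fixing a vector and a functional vanishing on it are unipotent. -/
theorem pow_four_eq_one [CharP F 2] {w χ : Fin 3 → F} (hw : w ≠ 0) (hχ : χ ≠ 0) (h : χ ⬝ᵥ w = 0) {g : SL}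
    (hg1 : g.1 *ᵥ w = w) (hg2 : χ ᵥ* g.1 = χ) : g ^ 4 = 1 := by
  obtain ⟨x, hx1, hx2⟩ := exists_pair hw hχ h
  set y := x⁻¹ * g * x with hy
  have hy1 : y.1 *ᵥ (Pi.single 0 1) = Pi.single 0 1 := by
    rw [hy, mulv, mulv, ← mulVec_mulVec, ← mulVec_mulVec, hx1, hg1, ← hx1, mulVec_mulVec, coe_inv_mul, one_mulVec]
  have hy2 : (Pi.single 1 1 : Fin 3 → F) ᵥ* y.1 = Pi.single 1 1 := by
    rw [hy, mulv, mulv, ← vecMul_vecMul, ← vecMul_vecMul, ← hx2, vecMul_vecMul χ, coe_mul_inv, vecMul_one, hg2]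
  have e00 : y.1 0 0 = 1 := by simpa using congrFun hy1 0
  have e10 : y.1 1 0 = 0 := by simpa using congrFun hy1 1
  have e20 : y.1 2 0 = 0 := by simpa using congrFun hy1 2
  have e11 : y.1 1 1 = 1 := by simpa using congrFun hy2 1
  have e12 : y.1 1 2 = 0 := by simpa using congrFun hy2 2
  have hdet : y.1.det = 1 := y.2
  rw [det_fin_three, e00, e10, e20, e11, e12] at hdet
  have e22 : y.1 2 2 = 1 := by linear_combination hdet
  have two : (2 : F) = 0 := by exact_mod_cast CharP.cast_eq_zero F 2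
  have hy4 : y ^ 4 = 1 := by
    apply slext
    have h2 : (y ^ 4).1 = (y.1 * y.1) * (y.1 * y.1) := by
      rw [show (y ^ 4) = (y * y) * (y * y) by rw [← pow_two, ← pow_two, ← pow_mul], mulv, mulv]
    rw [h2]
    have hyy : y.1 * y.1 = !![1, y.1 0 2 * y.1 2 1, 0; 0, 1, 0; 0, 0, 1] := by
      ext i j
      fin_cases i <;> fin_cases j <;>
        simp [Matrix.mul_apply, Fin.sum_univ_three, e00, e10, e20, e11, e12, e22]
      all_goals linear_combination (y.1 _ _) * two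
    rw [hyy]
    ext i j
    fin_cases i <;> fin_cases j <;>
      simp [Matrix.mul_apply, Fin.sum_univ_three]
    linear_combination (y.1 0 2 * y.1 2 1) * two
  have h3 : g = x * y * x⁻¹ := by rw [hy]; group
  rw [h3, conj_pow, hy4, mul_one, mul_inv_cancel]

/-- In line type the group is transitive on the nonzero vectors of the plane. -/
theorem IsL.exists_mem {H : Subgroup SL} {χ : Fin 3 → F} (h : IsL H χ) {w w' : Fin 3 → F} (hw : w ≠ 0)
    (hw' : w' ≠ 0) (h1 : χ ⬝ᵥ w = 0) (h2 : χ ⬝ᵥ w' = 0) : ∃ g ∈ H, g.1 *ᵥ w = w' := by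
  have key : ∀ w w' : Fin 3 → F, χ ⬝ᵥ w = 0 → χ ⬝ᵥ w' = 0 → NP w w' → ∃ g ∈ H, g.1 *ᵥ w = w' := by
    intro w w' h1 h2 hn
    obtain ⟨t, ht, ht'⟩ := hn.exists_eq_one
    have h3 : t ⬝ᵥ (w' - w) = 0 := by
      rw [dotProduct_sub, dotProduct_comm t w', dotProduct_comm t w, ht, ht', sub_self]
    refine ⟨Tr (w' - w) t, (h.2 _).2 (by rw [dotProduct_sub, h1, h2, sub_self]) t h3, ?_⟩
    rw [Tr_mulVec h3, dotProduct_comm t w, ht, one_smul]
    abel
  by_cases hn : NP w w'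
  · exact key w w' h1 h2 hn
  · obtain ⟨s, rfl⟩ := not_NP hw hn
    have hs : s ≠ 0 := by rintro rfl; exact hw' (zero_smul _ _)
    obtain ⟨u, hu, hnu⟩ := exists_NP (u := χ) (φ := w) (by rw [Fintype.card_fin]) hw
    rw [dotProduct_comm] at hu
    obtain ⟨g, hg, hgw⟩ := key w u h1 hu hnu
    obtain ⟨g', hg', hgw'⟩ := key u (s • w) hu h2 (NP_smul hs hnu).symm
    exact ⟨g' * g, mul_mem hg' hg, by rw [mulv, ← mulVec_mulVec, hgw, hgw']⟩

theorem card_ker [Finite F] {χ : Fin 3 → F} (hχ : χ ≠ 0) :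
    Nat.card {w : Fin 3 → F // w ≠ 0 ∧ χ ⬝ᵥ w = 0} = Nat.card F ^ 2 - 1 := by
  let f : (Fin 3 → F) →ₗ[F] F :=
    { toFun := fun w => χ ⬝ᵥ w
      map_add' := dotProduct_add χ
      map_smul' := fun c w => by rw [dotProduct_smul]; rfl }
  have hf : Function.Surjective f := by
    obtain ⟨i, hi⟩ := Function.ne_iff.1 hχ
    intro c
    refine ⟨Pi.single i ((χ i)⁻¹ * c), ?_⟩
    change χ ⬝ᵥ _ = c
    rw [dotProduct_single, mul_inv_cancel_left₀ hi]
  have h1 := LinearMap.finrank_range_add_finrank_ker f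
  rw [LinearMap.range_eq_top.2 hf, finrank_top, finrank_self, finrank_fintype_fun_eq_card, Fintype.card_fin] at h1
  have h2 : Nat.card (LinearMap.ker f) = Nat.card F ^ 2 := by
    rw [Module.natCard_eq_pow_finrank (K := F)]
    congr 1
    omega
  have h3 : Nat.card {w : Fin 3 → F // w ≠ 0 ∧ χ ⬝ᵥ w = 0} = Nat.card {x : LinearMap.ker f // x ≠ 0} := by
    refine Nat.card_congr ⟨fun w => ⟨⟨w.1, w.2.2⟩, fun h => w.2.1 (congrArg Subtype.val h)⟩,
      fun x => ⟨x.1.1, fun h => x.2 (Subtype.ext h), x.1.2⟩, fun _ => rfl, fun _ => rfl⟩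
  rw [h3, ← h2]
  have : Finite (LinearMap.ker f) := inferInstance
  classical
  have : Fintype (LinearMap.ker f) := Fintype.ofFinite _
  rw [Nat.card_eq_fintype_card, Nat.card_eq_fintype_card, Fintype.card_subtype_compl, Fintype.card_subtype_eq]

theorem card_span [Finite F] {w : Fin 3 → F} (hw : w ≠ 0) :
    Nat.card {u : Fin 3 → F // u ≠ 0 ∧ ∃ s : F, u = s • w} = Nat.card F - 1 := by
  have h1 : Nat.card {u : Fin 3 → F // u ≠ 0 ∧ ∃ s : F, u = s • w} = Nat.card Fˣ := by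
    symm
    refine Nat.card_congr (Equiv.ofBijective
      (fun s : Fˣ => (⟨(s : F) • w, smul_ne_zero s.ne_zero hw, s, rfl⟩ :
        {u : Fin 3 → F // u ≠ 0 ∧ ∃ s : F, u = s • w})) ⟨?_, ?_⟩)
    · intro s t hst
      have h1 : (s : F) • w = (t : F) • w := congrArg Subtype.val hst
      exact Units.ext (smul_left_injective F hw h1)
    · rintro ⟨_, hu, s, rfl⟩
      have hs : s ≠ 0 := by rintro rfl; exact hu (zero_smul _ _)
      exact ⟨Units.mk0 s hs, rfl⟩
  rw [h1, Nat.card_units]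

/-- Double counting. -/
theorem dc {α β : Type*} [Finite α] [Finite β] (r : α → β → Prop) {m n : ℕ} (h1 : ∀ a, Nat.card {b // r a b} = m)
    (h2 : ∀ b, Nat.card {a // r a b} = n) : Nat.card α * m = Nat.card β * n := by
  classical
  have : Fintype α := Fintype.ofFinite α
  have : Fintype β := Fintype.ofFinite β
  have e : (Σ a, {b // r a b}) ≃ (Σ b, {a // r a b}) :=
    ⟨fun x => ⟨x.2.1, x.1, x.2.2⟩, fun x => ⟨x.2.1, x.1, x.2.2⟩, fun _ => rfl, fun _ => rfl⟩
  have h3 := Nat.card_congr e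
  rw [Nat.card_sigma, Nat.card_sigma] at h3
  simp only [h1, h2, Finset.sum_const, Finset.card_univ, smul_eq_mul] at h3
  rw [Nat.card_eq_fintype_card, Nat.card_eq_fintype_card]
  exact h3

theorem IsL.dvd [Finite F] {H : Subgroup SL} {χ : Fin 3 → F} (h : IsL H χ) (hχ : χ ≠ 0) :
    Nat.card F ^ 2 - 1 ∣ Nat.card H := by
  have hpos : 0 < Nat.card {w : Fin 3 → F // w ≠ 0 ∧ χ ⬝ᵥ w = 0} := by
    rw [card_ker hχ]
    have h1 : 1 < Nat.card F := Finite.one_lt_card
    have h2 : Nat.card F < Nat.card F ^ 2 := by nlinarith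
    omega
  obtain ⟨⟨w, hw0, hw⟩, -⟩ := Finite.card_pos_iff.1 hpos |>.some |> fun x => (⟨x, trivial⟩ : ∃ _ : _, True)
  have h1 : (MulAction.orbit H w : Set (Fin 3 → F)) = {w : Fin 3 → F | w ≠ 0 ∧ χ ⬝ᵥ w = 0} := by
    ext u
    constructor
    · rintro ⟨g, rfl⟩
      have hg : (g : SL).1 *ᵥ w ∈ Cen H := smul_mem_Cen g.2 ((h.2 _).2 hw)
      refine ⟨?_, (h.2 _).1 hg⟩
      intro h0
      apply hw0
      have h0' : (g : SL).1 *ᵥ w = 0 := h0
      have : ((g : SL)⁻¹).1 *ᵥ ((g : SL).1 *ᵥ w) = w := by rw [mulVec_mulVec, coe_inv_mul, one_mulVec]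
      rw [← this, h0', mulVec_zero]
    · rintro ⟨hu0, hu⟩
      obtain ⟨g, hg, hgw⟩ := h.exists_mem hw0 hu0 hw hu
      exact ⟨⟨g, hg⟩, hgw⟩
  have h2 : Nat.card (MulAction.orbit H w) = Nat.card F ^ 2 - 1 := by
    rw [h1]; exact card_ker hχ
  rw [← h2]
  have h3 := Subgroup.index_dvd_card (MulAction.stabilizer H w)
  rwa [MulAction.index_stabilizer, ← Nat.card_coe_set_eq] at h3

theorem vecMul_mem_Ax {H : Subgroup SL} {g : SL} (hg : g ∈ H) {φ : Fin 3 → F} (hφ : φ ∈ Ax H) :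
    φ ᵥ* g.1 ∈ Ax H := by
  rw [mem_Ax] at hφ ⊢
  intro w hw
  have h1 : φ ⬝ᵥ (g.1 *ᵥ w) = 0 := by rw [dotProduct_mulVec]; exact hw
  have h2 := conj_mem_iff g w φ h1
  have h3 : Tr w (φ ᵥ* g.1) = g⁻¹ * Tr (g.1 *ᵥ w) φ * g := by rw [h2]; group
  rw [h3]
  exact mul_mem (mul_mem (inv_mem hg) (hφ _ h1)) hg

theorem IsP.map {H : Subgroup SL} {w : Fin 3 → F} (h : IsP H w) : IsL (H.map invT.toMonoidHom) w := by
  constructor
  · intro φ
    rw [Ax_map]; exact h.1 φ
  · intro u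
    rw [Cen_map, dotProduct_comm]; exact h.2 u

theorem IsL.map {H : Subgroup SL} {χ : Fin 3 → F} (h : IsL H χ) : IsP (H.map invT.toMonoidHom) χ := by
  constructor
  · intro φ
    rw [Cen_map]; exact h.1 φ
  · intro u
    rw [Ax_map, dotProduct_comm]; exact h.2 u

theorem IsP.dvd [Finite F] {H : Subgroup SL} {w : Fin 3 → F} (h : IsP H w) (hw : w ≠ 0) :
    Nat.card F ^ 2 - 1 ∣ Nat.card H := by
  have h1 := h.map.dvd hw
  rwa [Nat.card_congr (H.equivMapOfInjective _ invT.injective).toEquiv.symm] at h1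

/-- A group of flag type has no elements of odd prime order dividing `q + 1`. -/
theorem IsZ.not_dvd [Finite F] [CharP F 2] {H : Subgroup SL} {w χ : Fin 3 → F} (h : IsZ H w χ) (hw : w ≠ 0)
    (hχ : χ ≠ 0) : ¬ Nat.card F ^ 2 - 1 ∣ Nat.card H := by
  intro hd
  have hq1 : 1 < Nat.card F := Finite.one_lt_card
  have heven : Even (Nat.card F) := by
    have : Fintype F := Fintype.ofFinite F
    rw [Nat.card_eq_fintype_card, Nat.even_iff]
    exact FiniteField.even_card_of_char_two (ringChar.eq F 2)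
  obtain ⟨r, hr, hrd⟩ := Nat.exists_prime_and_dvd (n := Nat.card F + 1) (by omega)
  have hr2 : r ≠ 2 := by
    rintro rfl
    obtain ⟨k, hk⟩ := heven
    omega
  have hrd1 : ¬ r ∣ Nat.card F - 1 := by
    intro h1
    have h2 := Nat.dvd_sub hrd h1
    have h3 : Nat.card F + 1 - (Nat.card F - 1) = 2 := by omega
    rw [h3] at h2
    exact hr2 ((Nat.prime_dvd_prime_iff_eq hr Nat.prime_two).1 h2)
  have hrH : r ∣ Nat.card H := by
    refine hrd.trans (Dvd.dvd.trans ?_ hd)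
    have : Nat.card F ^ 2 - 1 = (Nat.card F + 1) * (Nat.card F - 1) := by
      have := Nat.sq_sub_sq (Nat.card F) 1
      rwa [one_pow] at this
    rw [this]
    exact dvd_mul_right _ _
  have : Fact r.Prime := ⟨hr⟩
  obtain ⟨g, hg⟩ := exists_prime_orderOf_dvd_card' r hrH
  -- eigenvalues have order prime to `r`
  have hunit : ∀ s : F, s ^ r = 1 → s = 1 := by
    intro s hs
    have hs0 : s ≠ 0 := by rintro rfl; rw [zero_pow hr.ne_zero] at hs; exact zero_ne_one hs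
    have h1 : (Units.mk0 s hs0) ^ r = 1 := Units.ext (by simpa using hs)
    have h2 : (Units.mk0 s hs0) ^ (Nat.card F - 1) = 1 := by
      have := pow_card_eq_one' (x := Units.mk0 s hs0)
      rwa [Nat.card_units] at this
    have h3 := Nat.dvd_gcd (orderOf_dvd_of_pow_eq_one h1) (orderOf_dvd_of_pow_eq_one h2)
    rw [(hr.coprime_iff_not_dvd).2 hrd1, Nat.dvd_one, orderOf_eq_one_iff] at h3
    exact congrArg Units.val h3
  have hgr : g ^ r = 1 := by rw [← hg]; exact pow_orderOf_eq_one g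
  have hgr' : (g : SL) ^ r = 1 := congrArg Subtype.val hgr
  obtain ⟨s, hs⟩ := (h.1 _).1 (smul_mem_Cen g.2 ((h.1 w).2 ⟨1, (one_smul _ _).symm⟩))
  obtain ⟨t, ht⟩ := (h.2.1 _).1 (vecMul_mem_Ax g.2 ((h.2.1 χ).2 ⟨1, (one_smul _ _).symm⟩))
  have hs' : ∀ n : ℕ, ((g : SL) ^ n).1 *ᵥ w = s ^ n • w := by
    intro n
    induction n with
    | zero => rw [pow_zero, pow_zero, one_smul]; exact one_mulVec w
    | succ n ih => rw [pow_succ, mulv, ← mulVec_mulVec, hs, mulVec_smul, ih, smul_smul, ← pow_succ']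
  have ht' : ∀ n : ℕ, χ ᵥ* ((g : SL) ^ n).1 = t ^ n • χ := by
    intro n
    induction n with
    | zero => rw [pow_zero, pow_zero, one_smul]; exact vecMul_one χ
    | succ n ih => rw [pow_succ, mulv, ← vecMul_vecMul, ih, smul_vecMul, ht, smul_smul, ← pow_succ]
  have hs1 : s = 1 := by
    apply hunit
    have h1 := hs' r
    rw [hgr'] at h1
    have h2 : (1 : F) • w = s ^ r • w := by rw [one_smul, ← h1]; exact (one_mulVec w).symm
    exact (smul_left_injective F hw h2).symm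
  have ht1 : t = 1 := by
    apply hunit
    have h1 := ht' r
    rw [hgr'] at h1
    have h2 : (1 : F) • χ = t ^ r • χ := by rw [one_smul, ← h1]; exact (vecMul_one χ).symm
    exact (smul_left_injective F hχ h2).symm
  rw [hs1, one_smul] at hs
  rw [ht1, one_smul] at ht
  have h4 := pow_four_eq_one hw hχ h.2.2 hs ht
  have h5 : orderOf g ∣ 2 ^ 2 := orderOf_dvd_of_pow_eq_one (Subtype.ext h4)
  rw [hg] at h5
  exact hr2 ((Nat.prime_dvd_prime_iff_eq hr Nat.prime_two).1 (hr.dvd_of_dvd_pow h5))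

end Three

end Cfsg.Agent.H175.Psl3Aff
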