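import Mathlib

/-!
# Arithmetic for `Psl3Aff`
-/

set_option autoImplicit false

namespace Cfsg.Agent.H175.Psl3Aff

theorem two_pow_even {k : ℕ} (hk : 1 ≤ k) : 2 ^ k % 2 = 0 := by
  obtain ⟨j, rfl⟩ : ∃ j, k = j + 1 := ⟨k - 1, by omega⟩
  rw [pow_succ]; omega

theorem eq_zero_of_odd {j : ℕ} (h : 2 ^ j % 2 = 1) : j = 0 := by
  by_contra hj
  have := two_pow_even (k := j) (by omega)
  omega

theorem arith1 {n f e : ℕ} (hn : 1 ≤ n) (hf : 1 ≤ f) (h : 2 ^ e - 1 = (2 ^ n + 1) * (2 ^ f - 1)) : f = n := by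
  have p1 : 1 ≤ 2 ^ e := Nat.one_le_two_pow
  have p2 : 1 ≤ 2 ^ f := Nat.one_le_two_pow
  have p3 : 1 ≤ 2 ^ n := Nat.one_le_two_pow
  have h1 : 2 ^ e + 2 ^ n = 2 ^ n * 2 ^ f + 2 ^ f := by
    obtain ⟨a, ha⟩ : ∃ a, 2 ^ f = a + 1 := ⟨2 ^ f - 1, by omega⟩
    rw [ha, Nat.add_sub_cancel] at h
    rw [ha]
    have : 2 ^ e = (2 ^ n + 1) * a + 1 := by omega
    rw [this]; ring
  by_contra hne
  rcases Nat.lt_or_gt_of_ne hne with hlt | hgt
  · obtain ⟨k, hk, rfl⟩ : ∃ k, 1 ≤ k ∧ n = f + k := ⟨n - f, by omega, by omega⟩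
    have he : f ≤ e := by
      rw [← Nat.pow_le_pow_iff_right (a := 2) (by norm_num)]
      nlinarith
    obtain ⟨j, rfl⟩ : ∃ j, e = f + j := ⟨e - f, by omega⟩
    have h2 : 2 ^ j + 2 ^ k = 2 ^ (f + k) + 1 := by
      apply Nat.eq_of_mul_eq_mul_left (show 0 < 2 ^ f by omega)
      rw [pow_add, pow_add] at h1
      rw [pow_add]
      linarith
    have e1 := two_pow_even hk
    have e2 := two_pow_even (show 1 ≤ f + k by omega)
    have hj := eq_zero_of_odd (j := j) (by omega)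
    subst hj
    have h3 : 2 ^ k = 2 ^ (f + k) := by omega
    have := Nat.pow_right_injective (le_refl 2) h3
    omega
  · obtain ⟨k, hk, rfl⟩ : ∃ k, 1 ≤ k ∧ f = n + k := ⟨f - n, by omega, by omega⟩
    have he : n ≤ e := by
      rw [← Nat.pow_le_pow_iff_right (a := 2) (by norm_num)]
      rw [pow_add] at h1
      have : 2 ≤ 2 ^ k := by
        calc 2 = 2 ^ 1 := rfl
          _ ≤ 2 ^ k := Nat.pow_le_pow_right (by norm_num) hk
      have h5 := Nat.mul_le_mul_left (2 ^ n) this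
      have h6 := Nat.zero_le (2 ^ n * (2 ^ n * 2 ^ k))
      linarith
    obtain ⟨j, rfl⟩ : ∃ j, e = n + j := ⟨e - n, by omega⟩
    have h2 : 2 ^ j + 1 = 2 ^ (n + k) + 2 ^ k := by
      apply Nat.eq_of_mul_eq_mul_left (show 0 < 2 ^ n by omega)
      rw [pow_add, pow_add] at h1
      rw [pow_add]
      linarith
    have e1 := two_pow_even hk
    have e2 := two_pow_even (show 1 ≤ n + k by omega)
    have hj := eq_zero_of_odd (j := j) (by omega)
    subst hj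
    have h3 : 2 ^ 1 ≤ 2 ^ k := Nat.pow_le_pow_right (by norm_num) hk
    have h4 : 2 ^ 1 ≤ 2 ^ (n + k) := Nat.pow_le_pow_right (by norm_num) (by omega)
    omega

theorem arith2 {n d : ℕ} (hn : 1 ≤ n) (h : 2 ^ d + 2 ^ n = 2 ^ n * (2 ^ n) ^ 3 + 2 ^ n * (2 ^ n) ^ 2) : False := by
  set q := 2 ^ n with hq
  have hq2 : 2 ≤ q := by
    calc 2 = 2 ^ 1 := rfl
      _ ≤ 2 ^ n := Nat.pow_le_pow_right (by norm_num) hn
  have he : n ≤ d := by
    rw [← Nat.pow_le_pow_iff_right (a := 2) (by norm_num), ← hq]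
    nlinarith [Nat.zero_le (q * q ^ 3), Nat.pow_le_pow_left hq2 2]
  obtain ⟨j, rfl⟩ : ∃ j, d = n + j := ⟨d - n, by omega⟩
  have h2 : 2 ^ j + 1 = q ^ 3 + q ^ 2 := by
    apply Nat.eq_of_mul_eq_mul_left (show 0 < q by omega)
    rw [pow_add, ← hq] at h
    linarith
  have e1 : q % 2 = 0 := two_pow_even hn
  have e2 : q ^ 3 % 2 = 0 := by rw [Nat.pow_mod, e1]
  have e3 : q ^ 2 % 2 = 0 := by rw [Nat.pow_mod, e1]
  have hj := eq_zero_of_odd (j := j) (by omega)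
  subst hj
  have := Nat.pow_le_pow_left hq2 2
  have := Nat.pow_le_pow_left hq2 3
  omega

theorem arith3 {n f d : ℕ} (hn : 1 ≤ n) (hf : 1 ≤ f)
    (h : 2 ^ d + (2 ^ n) ^ 2 + 2 ^ n = 2 ^ f * ((2 ^ n) ^ 2 + 2 ^ n + 1)) : f = n ∧ d = 3 * n := by
  set q := 2 ^ n with hq
  have hq2 : 2 ≤ q := by
    calc 2 = 2 ^ 1 := rfl
      _ ≤ 2 ^ n := Nat.pow_le_pow_right (by norm_num) hn
  have e1 : q % 2 = 0 := two_pow_even hn
  have e3 : q ^ 2 % 2 = 0 := by rw [Nat.pow_mod, e1]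
  have hf2 : 2 ≤ 2 ^ f := by
    calc 2 = 2 ^ 1 := rfl
      _ ≤ 2 ^ f := Nat.pow_le_pow_right (by norm_num) hf
  rcases Nat.lt_trichotomy f n with hlt | heq | hgt
  · exfalso
    obtain ⟨k, hk, rfl⟩ : ∃ k, 1 ≤ k ∧ n = f + k := ⟨n - f, by omega, by omega⟩
    have he : f ≤ d := by
      rw [← Nat.pow_le_pow_iff_right (a := 2) (by norm_num)]
      nlinarith
    obtain ⟨j, rfl⟩ : ∃ j, d = f + j := ⟨d - f, by omega⟩
    have hqq : q = 2 ^ f * 2 ^ k := by rw [hq, pow_add]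
    have h2 : 2 ^ j + 2 ^ k * q + 2 ^ k = q ^ 2 + q + 1 := by
      apply Nat.eq_of_mul_eq_mul_left (show 0 < 2 ^ f by omega)
      have h3 : q ^ 2 = 2 ^ f * (2 ^ k * q) := by rw [← mul_assoc, ← hqq]; ring
      rw [pow_add] at h
      calc 2 ^ f * (2 ^ j + 2 ^ k * q + 2 ^ k) = 2 ^ f * 2 ^ j + 2 ^ f * (2 ^ k * q) + 2 ^ f * 2 ^ k := by ring
        _ = 2 ^ f * 2 ^ j + q ^ 2 + q := by rw [← h3, ← hqq]
        _ = _ := h
    have e4 := two_pow_even hk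
    have e5 : (2 ^ k * q) % 2 = 0 := by rw [Nat.mul_mod, e4]; simp
    have hj := eq_zero_of_odd (j := j) (by omega)
    subst hj
    have h3 : 2 ^ k * (q + 1) = q * (q + 1) := by nlinarith
    have h4 := Nat.eq_of_mul_eq_mul_right (by omega) h3
    rw [hqq] at h4
    have : 1 ≤ 2 ^ k := Nat.one_le_two_pow
    nlinarith
  · subst heq
    refine ⟨rfl, ?_⟩
    have h1 : 2 ^ d = q ^ 3 := by nlinarith
    have h2 : 2 ^ d = 2 ^ (f * 3) := by rw [h1, hq, ← pow_mul]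
    have := Nat.pow_right_injective (le_refl 2) h2
    omega
  · exfalso
    obtain ⟨k, hk, rfl⟩ : ∃ k, 1 ≤ k ∧ f = n + k := ⟨f - n, by omega, by omega⟩
    have hk2 : 2 ≤ 2 ^ k := by
      calc 2 = 2 ^ 1 := rfl
        _ ≤ 2 ^ k := Nat.pow_le_pow_right (by norm_num) hk
    have he : n ≤ d := by
      rw [← Nat.pow_le_pow_iff_right (a := 2) (by norm_num), ← hq]
      rw [pow_add, ← hq] at h
      nlinarith [Nat.zero_le (q ^ 2), Nat.zero_le (q * q ^ 2)]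
    obtain ⟨j, rfl⟩ : ∃ j, d = n + j := ⟨d - n, by omega⟩
    have h2 : 2 ^ j + q + 1 = 2 ^ k * (q ^ 2 + q + 1) := by
      apply Nat.eq_of_mul_eq_mul_left (show 0 < q by omega)
      rw [pow_add, pow_add, ← hq] at h
      calc q * (2 ^ j + q + 1) = q * 2 ^ j + q ^ 2 + q := by ring
        _ = _ := by rw [h]; ring
    have e4 := two_pow_even hk
    have e5 : (2 ^ k * (q ^ 2 + q + 1)) % 2 = 0 := by rw [Nat.mul_mod, e4]; simp
    have hj := eq_zero_of_odd (j := j) (by omega)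
    subst hj
    nlinarith

end Cfsg.Agent.H175.Psl3Aff
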