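import Mathlib
import Cfsg.Agent.H175.Psl3Aff
import Cfsg.Agent.H175.Psl3Arith

/-!
# Half-transitive linear actions of `SL₃(q)`, `q` even: the action
-/

set_option autoImplicit false

namespace Cfsg.Agent.H175.Psl3Aff

open Matrix Cfsg.Agent.H118.SLTrans Cfsg.Agent.H386.PslPts MulAction

variable {F : Type*} [Field F]

local notation "SL" => SpecialLinearGroup (Fin 3) F

variable {V : Type*} [AddCommGroup V] [DistribMulAction (SpecialLinearGroup (Fin 3) F) V]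

local notation "St" => MulAction.stabilizer (SpecialLinearGroup (Fin 3) F)

/-- Common fixed points of a set of elements. -/
def Fx (V : Type*) [AddCommGroup V] [DistribMulAction (SpecialLinearGroup (Fin 3) F) V] (S : Set SL) : AddSubgroup V where
  carrier := {v | ∀ g ∈ S, g • v = v}
  zero_mem' := fun g _ => smul_zero g
  add_mem' := fun {a b} ha hb g hg => by rw [smul_add, ha g hg, hb g hg]
  neg_mem' := fun {a} ha g hg => by rw [smul_neg, ha g hg]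

theorem mem_Fx {S : Set SL} {v : V} : v ∈ Fx V S ↔ ∀ g ∈ S, g • v = v := Iff.rfl

/-- Vectors of point type with point `w`, and `0`. -/
def Lv (V : Type*) [AddCommGroup V] [DistribMulAction (SpecialLinearGroup (Fin 3) F) V] (w : Fin 3 → F) : AddSubgroup V :=
  Fx V {g | ∃ φ u : Fin 3 → F, φ ⬝ᵥ w = 0 ∧ φ ⬝ᵥ u = 0 ∧ g = Tr u φ}

/-- Vectors of line type with line `χ`, and `0`. -/
def Mv (V : Type*) [AddCommGroup V] [DistribMulAction (SpecialLinearGroup (Fin 3) F) V] (χ : Fin 3 → F) : AddSubgroup V :=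
  Fx V {g | ∃ u φ : Fin 3 → F, χ ⬝ᵥ u = 0 ∧ φ ⬝ᵥ u = 0 ∧ g = Tr u φ}

/-- Vectors fixed by the transvections with centre `w`. -/
def Cv (V : Type*) [AddCommGroup V] [DistribMulAction (SpecialLinearGroup (Fin 3) F) V] (w : Fin 3 → F) : AddSubgroup V :=
  Fx V {g | ∃ φ : Fin 3 → F, φ ⬝ᵥ w = 0 ∧ g = Tr w φ}

/-- Vectors fixed by the transvections with axis `χ`. -/
def Av (V : Type*) [AddCommGroup V] [DistribMulAction (SpecialLinearGroup (Fin 3) F) V] (χ : Fin 3 → F) : AddSubgroup V :=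
  Fx V {g | ∃ u : Fin 3 → F, χ ⬝ᵥ u = 0 ∧ g = Tr u χ}

theorem mem_Lv {w : Fin 3 → F} {v : V} : v ∈ Lv V w ↔ ∀ φ, φ ⬝ᵥ w = 0 → φ ∈ Ax (St v) := by
  constructor
  · intro h φ hφ
    rw [mem_Ax]
    intro u hu
    exact h _ ⟨φ, u, hφ, hu, rfl⟩
  · rintro h _ ⟨φ, u, hφ, hu, rfl⟩
    exact mem_Ax.1 (h φ hφ) u hu

theorem mem_Mv {χ : Fin 3 → F} {v : V} : v ∈ Mv V χ ↔ ∀ u, χ ⬝ᵥ u = 0 → u ∈ Cen (St v) := by
  constructor
  · intro h u hu φ hφ
    exact h _ ⟨u, φ, hu, hφ, rfl⟩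
  · rintro h _ ⟨u, φ, hu, hφ, rfl⟩
    exact h u hu φ hφ

theorem mem_Cv {w : Fin 3 → F} {v : V} : v ∈ Cv V w ↔ w ∈ Cen (St v) := by
  constructor
  · intro h φ hφ
    exact h _ ⟨φ, hφ, rfl⟩
  · rintro h _ ⟨φ, hφ, rfl⟩
    exact h φ hφ

theorem mem_Av {χ : Fin 3 → F} {v : V} : v ∈ Av V χ ↔ χ ∈ Ax (St v) := by
  rw [mem_Ax]
  constructor
  · intro h u hu
    exact h _ ⟨u, hu, rfl⟩
  · rintro h _ ⟨u, hu, rfl⟩
    exact h u hu

theorem St_smul (g : SL) (v : V) : St (g • v) = (St v).map (MulAut.conj g).toMonoidHom :=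
  stabilizer_smul_eq_stabilizer_map_conj g v

theorem smul_mem_Cv (g : SL) {w : Fin 3 → F} {v : V} : g • v ∈ Cv V (g.1 *ᵥ w) ↔ v ∈ Cv V w := by
  rw [mem_Cv, mem_Cv, St_smul, mem_Cen_conj]

theorem smul_mem_Av (g : SL) {χ : Fin 3 → F} {v : V} : g • v ∈ Av V χ ↔ v ∈ Av V (χ ᵥ* g.1) := by
  rw [mem_Av, mem_Av, St_smul, mem_Ax_conj]

theorem smul_mem_Lv (g : SL) {w : Fin 3 → F} {v : V} : g • v ∈ Lv V (g.1 *ᵥ w) ↔ v ∈ Lv V w := by
  rw [mem_Lv, mem_Lv, St_smul]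
  constructor
  · intro h φ hφ
    have h1 := h (φ ᵥ* (g⁻¹).1) (by rw [inv_dot, hφ])
    rw [mem_Ax_conj, vecMul_vecMul, coe_inv_mul, vecMul_one] at h1
    exact h1
  · intro h φ hφ
    rw [mem_Ax_conj]
    exact h _ (by rw [← dotProduct_mulVec, hφ])

theorem smul_mem_Mv (g : SL) {χ : Fin 3 → F} {v : V} : g • v ∈ Mv V χ ↔ v ∈ Mv V (χ ᵥ* g.1) := by
  rw [mem_Mv, mem_Mv, St_smul]
  constructor
  · intro h u hu
    have h1 := h (g.1 *ᵥ u) (by rw [dotProduct_mulVec, hu])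
    rwa [mem_Cen_conj] at h1
  · intro h u hu
    have h1 := h ((g⁻¹).1 *ᵥ u) (by rw [← dotProduct_mulVec, mulVec_mulVec, coe_mul_inv, one_mulVec, hu])
    have h2 : u = g.1 *ᵥ ((g⁻¹).1 *ᵥ u) := by rw [mulVec_mulVec, coe_mul_inv, one_mulVec]
    rw [h2, mem_Cen_conj]
    exact h1

theorem card_eq_of_smul [Finite V] (g : SL) {A B : Set V} (h : ∀ v, g • v ∈ B ↔ v ∈ A) : Nat.card A = Nat.card B := by
  refine Nat.card_congr ⟨fun v => ⟨g • v.1, (h _).2 v.2⟩, fun v => ⟨g⁻¹ • v.1, (h _).1 (by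
    rw [smul_inv_smul]; exact v.2)⟩, fun v => Subtype.ext (inv_smul_smul _ _), fun v => Subtype.ext (smul_inv_smul _ _)⟩

/-- The hypotheses. -/
structure Hyp (F : Type*) [Field F] (V : Type*) [AddCommGroup V] [DistribMulAction (SpecialLinearGroup (Fin 3) F) V] :
    Prop where
  two : ∀ v : V, v + v = 0
  ker : ∀ g : SpecialLinearGroup (Fin 3) F, (∀ v : V, g • v = v) → g ∈ Subgroup.center _
  cen : ∀ g ∈ Subgroup.center (SpecialLinearGroup (Fin 3) F), ∀ v : V, g • v = v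
  card : ∀ v w : V, v ≠ 0 → w ≠ 0 → Nat.card (MulAction.stabilizer (SpecialLinearGroup (Fin 3) F) v) =
    Nat.card (MulAction.stabilizer (SpecialLinearGroup (Fin 3) F) w)

theorem h01 : (Pi.single 1 1 : Fin 3 → F) ⬝ᵥ (Pi.single 0 1) = 0 := by
  rw [dotProduct_single, Pi.single_eq_of_ne (by decide), zero_mul]

theorem single_ne (i : Fin 3) : (Pi.single i 1 : Fin 3 → F) ≠ 0 := by simp

/-- A central element has all vectors as eigenvectors with the same eigenvalue. -/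
theorem exists_scalar {g : SL} (hg : g ∈ Subgroup.center SL) : ∃ r : F, r ^ 3 = 1 ∧ ∀ w : Fin 3 → F, g.1 *ᵥ w = r • w := by
  obtain ⟨r, hr, h⟩ := Matrix.SpecialLinearGroup.mem_center_iff.1 hg
  refine ⟨r, by simpa using hr, fun w => ?_⟩
  rw [← h, scalar_apply, ← smul_one_eq_diagonal, smul_mulVec, one_mulVec]

theorem Hyp.nontrivial (h : Hyp F V) : ∃ v : V, v ≠ 0 := by
  by_contra hcon
  push Not at hcon
  have h1 := h.ker (Tr (Pi.single 0 1) (Pi.single 1 1)) (fun v => by rw [hcon v, smul_zero])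
  obtain ⟨r, -, hr⟩ := exists_scalar h1
  have h2 := hr (Pi.single 0 1)
  have h3 := hr (Pi.single 1 1)
  rw [Tr_mulVec h01] at h2 h3
  rw [h01, zero_smul, add_zero] at h2
  have h4 : r = 1 := by
    have := congrFun h2 0
    simpa using this.symm
  rw [h4, one_smul] at h3
  have h5 := congrFun h3 0
  simp at h5

theorem Hyp.ne_top [Finite F] (h : Hyp F V) {v : V} (hv : v ≠ 0) : St v ≠ ⊤ := by
  intro htop
  have h1 : ∀ w : V, ∀ g : SL, g • w = w := by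
    intro w g
    by_cases hw : w = 0
    · rw [hw, smul_zero]
    have h2 := h.card w v hw hv
    rw [htop] at h2
    have h3 : St w = ⊤ := Subgroup.eq_top_of_card_eq _ (by rw [h2, Subgroup.card_top])
    have : g ∈ St w := by rw [h3]; trivial
    exact this
  obtain ⟨r, -, hr⟩ := exists_scalar (h.ker (Tr (Pi.single 0 1) (Pi.single 1 1)) (fun v => h1 v _))
  have h2 := hr (Pi.single 0 1)
  have h3 := hr (Pi.single 1 1)
  rw [Tr_mulVec h01] at h2 h3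
  rw [h01, zero_smul, add_zero] at h2
  have h4 : r = 1 := by
    have := congrFun h2 0
    simpa using this.symm
  rw [h4, one_smul] at h3
  have h5 := congrFun h3 0
  simp at h5

/-- The stabilisers have odd index. -/
theorem Hyp.odd_index [Finite F] [Finite V] (h : Hyp F V) {v : V} (hv : v ≠ 0) : ¬ 2 ∣ (St v).index := by
  have : Fact (Nat.Prime 2) := ⟨Nat.prime_two⟩
  obtain ⟨S⟩ := (inferInstance : Nonempty (Sylow 2 SL))
  obtain ⟨x, hx⟩ := h.nontrivial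
  have hV : 2 ∣ Nat.card V := by
    have h1 : addOrderOf x = 2 := addOrderOf_eq_prime (by rw [two_nsmul]; exact h.two x) hx
    rw [← h1]; exact addOrderOf_dvd_natCard x
  have h0 : (0 : V) ∈ MulAction.fixedPoints S V := fun g => smul_zero (g : SL)
  obtain ⟨v0, hv0, hne⟩ := S.isPGroup'.exists_fixed_point_of_prime_dvd_card_of_fixed_point V hV h0
  have hle : (S : Subgroup SL) ≤ St v0 := fun g hg => hv0 ⟨g, hg⟩
  have hcard := h.card v v0 hv (Ne.symm hne)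
  have hidx : (St v).index = (St v0).index := by
    have h1 := (St v).card_mul_index
    have h2 := (St v0).card_mul_index
    rw [← hcard] at h2
    exact Nat.eq_of_mul_eq_mul_left Nat.card_pos (h1.trans h2.symm)
  rw [hidx]
  intro h2
  exact S.not_dvd_index (h2.trans (Subgroup.index_dvd_of_le hle))

/-- Every nonzero vector is fixed by the unipotent group of a flag. -/
theorem Hyp.exists_flag [Finite F] [CharP F 2] [Finite V] (h : Hyp F V) {v : V} (hv : v ≠ 0) :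
    ∃ w χ : Fin 3 → F, w ≠ 0 ∧ χ ≠ 0 ∧ χ ⬝ᵥ w = 0 ∧ w ∈ Cen (St v) ∧ χ ∈ Ax (St v) := by
  let E : Subgroup SL :=
    { carrier := {g | g.1 *ᵥ (Pi.single 0 1) = Pi.single 0 1 ∧ (Pi.single 1 1 : Fin 3 → F) ᵥ* g.1 = Pi.single 1 1}
      one_mem' := ⟨one_mulVec _, vecMul_one _⟩
      mul_mem' := by
        rintro a b ⟨ha, ha'⟩ ⟨hb, hb'⟩
        exact ⟨by rw [mulv, ← mulVec_mulVec, hb, ha], by rw [mulv, ← vecMul_vecMul, ha', hb']⟩
      inv_mem' := by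
        rintro a ⟨ha, ha'⟩
        refine ⟨?_, ?_⟩
        · conv_lhs => rw [← ha]
          rw [mulVec_mulVec, coe_inv_mul, one_mulVec]
        · conv_lhs => rw [← ha']
          rw [vecMul_vecMul, coe_mul_inv, vecMul_one] }
  have hE : IsPGroup 2 E := by
    rintro ⟨g, hg⟩
    exact ⟨2, Subtype.ext (pow_four_eq_one (single_ne 0) (single_ne 1) h01 hg.1 hg.2)⟩
  obtain ⟨g, hg⟩ := exists_conj_mem Nat.prime_two hE (St v) (h.odd_index hv)
  refine ⟨(g⁻¹).1 *ᵥ (Pi.single 0 1), (Pi.single 1 1 : Fin 3 → F) ᵥ* g.1, ?_, ?_, ?_, ?_, ?_⟩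
  · intro h0
    have : g.1 *ᵥ ((g⁻¹).1 *ᵥ (Pi.single 0 1 : Fin 3 → F)) = 0 := by rw [h0, mulVec_zero]
    rw [mulVec_mulVec, coe_mul_inv, one_mulVec] at this
    exact single_ne 0 this
  · intro h0
    have : ((Pi.single 1 1 : Fin 3 → F) ᵥ* g.1) ᵥ* (g⁻¹).1 = 0 := by rw [h0, zero_vecMul]
    rw [vecMul_vecMul, coe_mul_inv, vecMul_one] at this
    exact single_ne 1 this
  · rw [← dotProduct_mulVec, mulVec_mulVec, coe_mul_inv, one_mulVec, h01]
  · intro φ hφ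
    rw [conj_mem_iff g⁻¹ _ φ hφ, inv_inv]
    apply hg
    have h1 : (φ ᵥ* (g⁻¹).1) ⬝ᵥ (Pi.single 0 1) = 0 := by rw [← dotProduct_mulVec]; exact hφ
    refine ⟨?_, ?_⟩
    · rw [Tr_mulVec h1, h1, zero_smul, add_zero]
    · rw [vecMul_Tr h1, h01, zero_smul, add_zero]
  · rw [mem_Ax]
    intro u hu
    have h1 : (Pi.single 1 1 : Fin 3 → F) ⬝ᵥ (g.1 *ᵥ u) = 0 := by rw [dotProduct_mulVec]; exact hu
    have h2 := conj_mem_iff g u (Pi.single 1 1) h1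
    have h3 : Tr u ((Pi.single 1 1 : Fin 3 → F) ᵥ* g.1) = g⁻¹ * Tr (g.1 *ᵥ u) (Pi.single 1 1) * g := by rw [h2]; group
    rw [h3]
    apply hg
    refine ⟨?_, ?_⟩
    · rw [Tr_mulVec h1, h01, zero_smul, add_zero]
    · rw [vecMul_Tr h1, h1, zero_smul, add_zero]

theorem Hyp.tri [Finite F] [CharP F 2] [Finite V] (h : Hyp F V) {v : V} (hv : v ≠ 0) :
    (∃ w, w ≠ 0 ∧ IsP (St v) w) ∨ (∃ χ, χ ≠ 0 ∧ IsL (St v) χ) ∨
      ∃ w χ : Fin 3 → F, w ≠ 0 ∧ χ ≠ 0 ∧ IsZ (St v) w χ := by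
  obtain ⟨w, χ, hw, hχ, h0, hwv, hχv⟩ := h.exists_flag hv
  rcases Psl3Aff.tri (h.ne_top hv) hw hχ h0 hwv hχv with h1 | h1 | h1
  · exact Or.inl ⟨w, hw, h1⟩
  · exact Or.inr (Or.inl ⟨χ, hχ, h1⟩)
  · exact Or.inr (Or.inr ⟨w, χ, hw, hχ, h1⟩)

theorem card_ne (A : AddSubgroup V) [Finite V] : Nat.card {v : V // v ≠ 0 ∧ v ∈ A} = Nat.card A - 1 := by
  have h3 : Nat.card {v : V // v ≠ 0 ∧ v ∈ A} = Nat.card {x : A // x ≠ 0} :=
    Nat.card_congr ⟨fun w => ⟨⟨w.1, w.2.2⟩, fun h => w.2.1 (congrArg Subtype.val h)⟩,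
      fun x => ⟨x.1.1, fun h => x.2 (Subtype.ext h), x.1.2⟩, fun _ => rfl, fun _ => rfl⟩
  rw [h3]
  classical
  have : Fintype A := Fintype.ofFinite _
  rw [Nat.card_eq_fintype_card, Nat.card_eq_fintype_card, Fintype.card_subtype_compl, Fintype.card_subtype_eq]

theorem card_ne' (V : Type*) [AddCommGroup V] [Finite V] : Nat.card {v : V // v ≠ 0} = Nat.card V - 1 := by
  classical
  have : Fintype V := Fintype.ofFinite _
  rw [Nat.card_eq_fintype_card, Nat.card_eq_fintype_card, Fintype.card_subtype_compl, Fintype.card_subtype_eq]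

theorem exists_card_eq {A : Type*} [AddCommGroup A] [Finite A] (h : ∀ a : A, a + a = 0) :
    ∃ k : ℕ, Nat.card A = 2 ^ k := by
  let _ : Module (ZMod 2) A := AddCommGroup.zmodModule (fun x => by rw [two_nsmul]; exact h x)
  refine ⟨Module.finrank (ZMod 2) A, ?_⟩
  rw [Module.natCard_eq_pow_finrank (K := ZMod 2), Nat.card_zmod]

theorem Hyp.card_sub (h : Hyp F V) [Finite V] (A : AddSubgroup V) : ∃ k : ℕ, Nat.card A = 2 ^ k :=
  exists_card_eq fun a => Subtype.ext (h.two a)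

theorem Hyp.card_V (h : Hyp F V) [Finite V] : ∃ k : ℕ, Nat.card V = 2 ^ k := exists_card_eq h.two

theorem card_F [Finite F] [CharP F 2] : ∃ n : ℕ, 1 ≤ n ∧ Nat.card F = 2 ^ n := by
  have : Fintype F := Fintype.ofFinite F
  obtain ⟨n, -, hn⟩ := FiniteField.card F 2
  exact ⟨n, n.pos, by rw [Nat.card_eq_fintype_card, hn]⟩

theorem card_flag [Finite V] {w χ : Fin 3 → F} (hw : w ≠ 0) (hχ : χ ≠ 0) (h : χ ⬝ᵥ w = 0) :
    Nat.card (Cv V w ⊓ Av V χ : AddSubgroup V) =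
      Nat.card (Cv V (Pi.single 0 1 : Fin 3 → F) ⊓ Av V (Pi.single 1 1 : Fin 3 → F) : AddSubgroup V) := by
  obtain ⟨g, hg1, hg2⟩ := exists_pair hw hχ h
  symm
  refine card_eq_of_smul g (A := ((Cv V (Pi.single 0 1 : Fin 3 → F) ⊓ Av V (Pi.single 1 1 : Fin 3 → F) :
    AddSubgroup V) : Set V)) (B := ((Cv V w ⊓ Av V χ : AddSubgroup V) : Set V)) fun v => ?_
  rw [SetLike.mem_coe, SetLike.mem_coe, AddSubgroup.mem_inf, AddSubgroup.mem_inf, ← hg1, smul_mem_Cv, smul_mem_Av, hg2]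

/-- Not all vectors are of flag type. -/
theorem Hyp.not_Z [Finite F] [CharP F 2] [Finite V] (h : Hyp F V)
    (hZ : ∀ v : V, v ≠ 0 → ∃ w χ : Fin 3 → F, w ≠ 0 ∧ χ ≠ 0 ∧ IsZ (St v) w χ) : False := by
  obtain ⟨n, hn, hq⟩ := card_F (F := F)
  set c := Nat.card (Cv V (Pi.single 0 1 : Fin 3 → F) ⊓ Av V (Pi.single 1 1 : Fin 3 → F) : AddSubgroup V) with hc
  -- step (a)
  have ha : ∀ w : Fin 3 → F, w ≠ 0 → (Nat.card (Cv V w) - 1) * (Nat.card F - 1) = (Nat.card F ^ 2 - 1) * (c - 1) := by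
    intro w hw
    have key := dc (α := {v : V // v ≠ 0 ∧ v ∈ Cv V w}) (β := {φ : Fin 3 → F // φ ≠ 0 ∧ w ⬝ᵥ φ = 0})
      (fun v φ => v.1 ∈ Av V φ.1) (m := Nat.card F - 1) (n := c - 1) ?_ ?_
    · rwa [card_ne, card_ker hw] at key
    · rintro ⟨v, hv0, hv⟩
      obtain ⟨w', χ', hw', hχ', hz⟩ := hZ v hv0
      obtain ⟨s, hs⟩ := (hz.1 w).1 (mem_Cv.1 hv)
      rw [← card_span hχ']
      refine Nat.card_congr ⟨fun φ => ⟨φ.1.1, φ.1.2.1, (hz.2.1 _).1 (mem_Av.1 φ.2)⟩,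
        fun φ => ⟨⟨φ.1, φ.2.1, ?_⟩, mem_Av.2 ((hz.2.1 _).2 φ.2.2)⟩, fun _ => rfl, fun _ => rfl⟩
      obtain ⟨t, ht⟩ := φ.2.2
      rw [ht, hs, dotProduct_smul, smul_dotProduct, dotProduct_comm, hz.2.2, smul_zero, smul_zero]
    · rintro ⟨φ, hφ0, hφ⟩
      rw [dotProduct_comm] at hφ
      rw [hc, ← card_flag hw hφ0 hφ, ← card_ne]
      exact Nat.card_congr ⟨fun v => ⟨v.1.1, v.1.2.1, v.1.2.2, v.2⟩,
        fun v => ⟨⟨v.1, v.2.1, v.2.2.1⟩, v.2.2.2⟩, fun _ => rfl, fun _ => rfl⟩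
  -- step (b)
  have hq1 : 1 < Nat.card F := Finite.one_lt_card
  have hCc : ∀ w : Fin 3 → F, w ≠ 0 → Nat.card (Cv V w) - 1 = (Nat.card F + 1) * (c - 1) := by
    intro w hw
    have h1 := ha w hw
    have h2 : Nat.card F ^ 2 - 1 = (Nat.card F + 1) * (Nat.card F - 1) := by
      have := Nat.sq_sub_sq (Nat.card F) 1
      rwa [one_pow] at this
    rw [h2] at h1
    apply Nat.eq_of_mul_eq_mul_right (show 0 < Nat.card F - 1 by omega)
    rw [h1]; ring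
  have hb : (Nat.card V - 1) * (Nat.card F - 1) = (Nat.card F ^ 3 - 1) * ((Nat.card F + 1) * (c - 1)) := by
    have key := dc (α := {v : V // v ≠ 0}) (β := {w : Fin 3 → F // w ≠ 0})
      (fun v w => v.1 ∈ Cv V w.1) (m := Nat.card F - 1) (n := (Nat.card F + 1) * (c - 1)) ?_ ?_
    · rwa [card_ne', card_ne', Nat.card_fun, Nat.card_eq_fintype_card (α := Fin 3), Fintype.card_fin] at key
    · rintro ⟨v, hv0⟩
      obtain ⟨w', χ', hw', hχ', hz⟩ := hZ v hv0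
      rw [← card_span hw']
      exact Nat.card_congr ⟨fun w => ⟨w.1.1, w.1.2, (hz.1 _).1 (mem_Cv.1 w.2)⟩,
        fun w => ⟨⟨w.1, w.2.1⟩, mem_Cv.2 ((hz.1 _).2 w.2.2)⟩, fun _ => rfl, fun _ => rfl⟩
    · rintro ⟨w, hw⟩
      rw [← hCc w hw, ← card_ne]
      exact Nat.card_congr ⟨fun v => ⟨v.1.1, v.1.2, v.2⟩, fun v => ⟨⟨v.1, v.2.1⟩, v.2.2⟩, fun _ => rfl, fun _ => rfl⟩
  -- `c > 1`
  obtain ⟨f, hf⟩ := h.card_sub (Cv V (Pi.single 0 1 : Fin 3 → F) ⊓ Av V (Pi.single 1 1 : Fin 3 → F))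
  obtain ⟨e, he⟩ := h.card_sub (Cv V (Pi.single 0 1 : Fin 3 → F))
  obtain ⟨d, hd⟩ := h.card_V
  rw [← hc] at hf
  have hf1 : 1 ≤ f := by
    by_contra hf0
    have hc1 : c = 1 := by rw [hf, show f = 0 by omega, pow_zero]
    obtain ⟨v, hv⟩ := h.nontrivial
    rw [hc1, Nat.sub_self, mul_zero, mul_zero] at hb
    have h1 : 1 < Nat.card V := by
      have : Nontrivial V := ⟨v, 0, hv⟩
      exact Finite.one_lt_card
    have h2 : 0 < (Nat.card V - 1) * (Nat.card F - 1) := Nat.mul_pos (by omega) (by omega)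
    omega
  have h1 := hCc _ (single_ne 0)
  rw [he, hf, hq] at h1
  have hfn := arith1 hn hf1 h1
  rw [hf, hfn, hd, hq] at hb
  apply arith2 (d := d) hn
  set q := 2 ^ n with hqdef
  have hq2 : 2 ≤ q := by omega
  obtain ⟨a, ha'⟩ : ∃ a, q = a + 1 := ⟨q - 1, by omega⟩
  have hd1 : 1 ≤ 2 ^ d := Nat.one_le_two_pow
  have hq3 : 1 ≤ q ^ 3 := Nat.one_le_pow _ _ (by omega)
  obtain ⟨b, hb'⟩ : ∃ b, 2 ^ d = b + 1 := ⟨2 ^ d - 1, by omega⟩
  have h4 : q ^ 3 - 1 = (q ^ 2 + q + 1) * a := by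
    rw [ha']
    have : (a + 1) ^ 3 = ((a + 1) ^ 2 + (a + 1) + 1) * a + 1 := by ring
    omega
  rw [h4, hb', show q - 1 = a by omega, Nat.add_sub_cancel] at hb
  have h5 : b = (q ^ 2 + q + 1) * ((q + 1) * a) := by
    apply Nat.eq_of_mul_eq_mul_right (show 0 < a by omega)
    rw [hb]; ring
  rw [hb', h5, ha']
  ring

end Cfsg.Agent.H175.Psl3Aff
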