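import Mathlib
import Cfsg.Agent.H175.Psl3AffB
import Cfsg.Agent.LieClassical.SLGen

/-!
# Half-transitive linear actions of `SL₃(q)`, `q` even: point type
-/

set_option autoImplicit false

namespace Cfsg.Agent.H175.Psl3Aff

open Matrix Cfsg.Agent.H118.SLTrans Cfsg.Agent.H386.PslPts MulAction

variable {F : Type*} [Field F]

local notation "SL" => SpecialLinearGroup (Fin 3) F

variable {V : Type*} [AddCommGroup V] [DistribMulAction (SpecialLinearGroup (Fin 3) F) V]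

local notation "St" => MulAction.stabilizer (SpecialLinearGroup (Fin 3) F)

theorem not_NP_smul {w : Fin 3 → F} {s t : F} (h : NP (s • w) (t • w)) : False := by
  obtain ⟨i, j, hij⟩ := h
  apply hij
  simp only [Pi.smul_apply, smul_eq_mul]; ring

theorem exists_two {χ : Fin 3 → F} : ∃ u u' : Fin 3 → F, χ ⬝ᵥ u = 0 ∧ χ ⬝ᵥ u' = 0 ∧ NP u u' := by
  obtain ⟨u, hu0, hu, -⟩ := exists_form (ι := Fin 3) (by rw [Fintype.card_fin]) χ χ
  obtain ⟨u', hu', hn⟩ := exists_NP (u := χ) (φ := u) (by rw [Fintype.card_fin]) hu0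
  exact ⟨u, u', by rw [dotProduct_comm, hu], by rw [dotProduct_comm, hu'], hn⟩

theorem Hyp.eq_zero [Finite F] [CharP F 2] [Finite V] (h : Hyp F V) {w χ : Fin 3 → F} {v : V}
    (hL : v ∈ Lv V w) (hM : v ∈ Mv V χ) : v = 0 := by
  by_contra hv
  rw [mem_Lv] at hL
  rw [mem_Mv] at hM
  obtain ⟨u, u', hu, hu', hn⟩ := exists_two (χ := χ)
  obtain ⟨φ, φ', hφ, hφ', hn'⟩ := exists_two (χ := w)
  rw [dotProduct_comm] at hφ hφ'
  rcases h.tri hv with ⟨w', -, h1⟩ | ⟨χ', -, h1⟩ | ⟨w', χ', -, -, h1⟩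
  · obtain ⟨s, rfl⟩ := (h1.1 _).1 (hM u hu)
    obtain ⟨t, rfl⟩ := (h1.1 _).1 (hM u' hu')
    exact not_NP_smul hn
  · obtain ⟨s, rfl⟩ := (h1.1 _).1 (hL φ hφ)
    obtain ⟨t, rfl⟩ := (h1.1 _).1 (hL φ' hφ')
    exact not_NP_smul hn'
  · obtain ⟨s, rfl⟩ := (h1.1 _).1 (hM u hu)
    obtain ⟨t, rfl⟩ := (h1.1 _).1 (hM u' hu')
    exact not_NP_smul hn

theorem exists_vec {w : Fin 3 → F} (hw : w ≠ 0) : ∃ g : SL, g.1 *ᵥ (Pi.single 0 1) = w := by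
  obtain ⟨χ, hχ0, hχ, -⟩ := exists_form (ι := Fin 3) (by rw [Fintype.card_fin]) w w
  obtain ⟨g, hg, -⟩ := exists_pair hw hχ0 hχ
  exact ⟨g, hg⟩

theorem exists_vec' {w w' : Fin 3 → F} (hw : w ≠ 0) (hw' : w' ≠ 0) : ∃ g : SL, g.1 *ᵥ w = w' := by
  obtain ⟨g, rfl⟩ := exists_vec hw
  obtain ⟨g', rfl⟩ := exists_vec hw'
  refine ⟨g' * g⁻¹, ?_⟩
  rw [mulv, ← mulVec_mulVec, mulVec_mulVec (Pi.single 0 1), coe_inv_mul, one_mulVec]

theorem exists_covec {χ χ' : Fin 3 → F} (hχ : χ ≠ 0) (hχ' : χ' ≠ 0) : ∃ g : SL, χ ᵥ* g.1 = χ' := by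
  obtain ⟨w, hw0, hw, -⟩ := exists_form (ι := Fin 3) (by rw [Fintype.card_fin]) χ χ
  obtain ⟨w', hw'0, hw', -⟩ := exists_form (ι := Fin 3) (by rw [Fintype.card_fin]) χ' χ'
  rw [dotProduct_comm] at hw hw'
  obtain ⟨g, -, hg⟩ := exists_pair hw0 hχ hw
  obtain ⟨g', -, hg'⟩ := exists_pair hw'0 hχ' hw'
  refine ⟨g * g'⁻¹, ?_⟩
  rw [mulv, ← vecMul_vecMul, hg, ← hg', vecMul_vecMul, coe_mul_inv, vecMul_one]

/-- `IsP` determines the point up to scalars. -/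
theorem IsP.congr {H : Subgroup SL} {w w' : Fin 3 → F} (h : IsP H w) (hw' : w' ≠ 0) (hm : w' ∈ Cen H) : IsP H w' := by
  obtain ⟨s, rfl⟩ := (h.1 _).1 hm
  have hs : s ≠ 0 := by rintro rfl; exact hw' (zero_smul _ _)
  constructor
  · intro u
    rw [h.1]
    constructor
    · rintro ⟨t, rfl⟩
      exact ⟨t * s⁻¹, by rw [smul_smul, mul_assoc, inv_mul_cancel₀ hs, mul_one]⟩
    · rintro ⟨t, rfl⟩
      exact ⟨t * s, by rw [smul_smul]⟩
  · intro φ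
    rw [h.2, dotProduct_smul, smul_eq_mul, mul_eq_zero]
    simp [hs]

theorem IsL.congr {H : Subgroup SL} {χ χ' : Fin 3 → F} (h : IsL H χ) (hχ' : χ' ≠ 0) (hm : χ' ∈ Ax H) : IsL H χ' := by
  obtain ⟨s, rfl⟩ := (h.1 _).1 hm
  have hs : s ≠ 0 := by rintro rfl; exact hχ' (zero_smul _ _)
  constructor
  · intro u
    rw [h.1]
    constructor
    · rintro ⟨t, rfl⟩
      exact ⟨t * s⁻¹, by rw [smul_smul, mul_assoc, inv_mul_cancel₀ hs, mul_one]⟩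
    · rintro ⟨t, rfl⟩
      exact ⟨t * s, by rw [smul_smul]⟩
  · intro φ
    rw [h.2, smul_dotProduct, smul_eq_mul, mul_eq_zero]
    simp [hs]

section P

variable [Finite F] [CharP F 2] [Finite V]

theorem Hyp.not_Z_of_P (h : Hyp F V) {v0 : V} (hv0 : v0 ≠ 0) {w0 : Fin 3 → F} (hw0 : w0 ≠ 0)
    (hP : IsP (St v0) w0) {v : V} (hv : v ≠ 0) {w χ : Fin 3 → F} (hw : w ≠ 0) (hχ : χ ≠ 0) (hz : IsZ (St v) w χ) :
    False := by
  apply hz.not_dvd hw hχ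
  rw [h.card v v0 hv hv0]
  exact hP.dvd hw0

/-- If one vector is of point type, then all are. -/
theorem Hyp.all_P (h : Hyp F V) {v0 : V} (hv0 : v0 ≠ 0) {w0 : Fin 3 → F} (hw0 : w0 ≠ 0)
    (hP : IsP (St v0) w0) {v : V} (hv : v ≠ 0) : ∃ w, w ≠ 0 ∧ IsP (St v) w := by
  rcases h.tri hv with h1 | ⟨χ1, hχ1, h1⟩ | ⟨w', χ', hw', hχ', h1⟩
  · exact h1
  · exfalso
    obtain ⟨χ, hχ0, hχ, -⟩ := exists_form (ι := Fin 3) (by rw [Fintype.card_fin]) w0 w0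
    obtain ⟨g, hg⟩ := exists_covec hχ0 hχ1
    have ha1 : v0 ∈ Lv V w0 := mem_Lv.2 fun φ hφ => (hP.2 φ).2 hφ
    have hb0 : g • v ≠ 0 := fun h0 => hv (by rw [← inv_smul_smul g v, h0, smul_zero])
    have hb1 : g • v ∈ Mv V χ := by
      rw [smul_mem_Mv, hg, mem_Mv]
      exact fun u hu => (h1.2 u).2 hu
    have haC : v0 ∈ Cv V w0 := mem_Cv.2 ((hP.1 _).2 ⟨1, (one_smul _ _).symm⟩)
    have haA : v0 ∈ Av V χ := mem_Av.2 ((hP.2 χ).2 hχ)
    have hbC : g • v ∈ Cv V w0 := mem_Cv.2 (mem_Mv.1 hb1 w0 hχ)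
    have hbA : g • v ∈ Av V χ := by
      rw [mem_Av, mem_Ax]
      intro u hu
      exact mem_Mv.1 hb1 u hu χ hu
    have hsC := mem_Cv.1 (add_mem haC hbC)
    have hsA := mem_Av.1 (add_mem haA hbA)
    have hs0 : v0 + g • v ≠ 0 := by
      intro h0
      have h2 : g • v = -v0 := by rw [eq_neg_iff_add_eq_zero, add_comm]; exact h0
      exact hb0 (h.eq_zero (w := w0) (h2 ▸ neg_mem ha1) hb1)
    rcases h.tri hs0 with ⟨w2, hw2, h2⟩ | ⟨χ2, hχ2, h2⟩ | ⟨w2, χ2, hw2, hχ2, h2⟩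
    · have h3 := h2.congr hw0 hsC
      have h4 : v0 + g • v ∈ Lv V w0 := mem_Lv.2 fun φ hφ => (h3.2 φ).2 hφ
      have h5 : g • v ∈ Lv V w0 := by
        have := sub_mem h4 ha1
        rwa [add_sub_cancel_left] at this
      exact hb0 (h.eq_zero h5 hb1)
    · have h3 := h2.congr hχ0 hsA
      have h4 : v0 + g • v ∈ Mv V χ := mem_Mv.2 fun u hu => (h3.2 u).2 hu
      have h5 : v0 ∈ Mv V χ := by
        have := sub_mem h4 hb1
        rwa [add_sub_cancel_right] at this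
      exact hv0 (h.eq_zero ha1 h5)
    · exact h.not_Z_of_P hv0 hw0 hP hs0 hw2 hχ2 h2
  · exact (h.not_Z_of_P hv0 hw0 hP hv hw' hχ' h1).elim

/-- Membership in `Lv`. -/
theorem mem_Lv_iff {v : V} {w' : Fin 3 → F} (hw' : w' ≠ 0) (h1 : IsP (St v) w') {w : Fin 3 → F} (hw : w ≠ 0) :
    v ∈ Lv V w ↔ ∃ s : F, w = s • w' := by
  rw [mem_Lv]
  constructor
  · intro h2
    have hn : ¬ NP w w' := by
      intro hn
      obtain ⟨ψ, hψ, hψ'⟩ := exists_form_of_NP hn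
      have h3 := (h1.2 ψ).1 (h2 ψ hψ)
      rw [h3] at hψ'
      exact zero_ne_one hψ'
    obtain ⟨s, hs⟩ := not_NP hw hn
    have hs0 : s ≠ 0 := by rintro rfl; exact hw' (by rw [hs, zero_smul])
    exact ⟨s⁻¹, by rw [hs, smul_smul, inv_mul_cancel₀ hs0, one_smul]⟩
  · rintro ⟨s, rfl⟩ φ hφ
    have hs : s ≠ 0 := by rintro rfl; exact hw (zero_smul _ _)
    rw [dotProduct_smul, smul_eq_mul, mul_eq_zero] at hφ
    exact (h1.2 φ).2 (hφ.resolve_left hs)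

theorem card_Lv {w : Fin 3 → F} (hw : w ≠ 0) :
    Nat.card (Lv V w) = Nat.card (Lv V (Pi.single 0 1 : Fin 3 → F)) := by
  obtain ⟨g, hg⟩ := exists_vec hw
  symm
  refine card_eq_of_smul g (A := (Lv V (Pi.single 0 1 : Fin 3 → F) : Set V)) (B := (Lv V w : Set V)) fun v => ?_
  rw [SetLike.mem_coe, SetLike.mem_coe, ← hg, smul_mem_Lv]

theorem Hyp.cards (h : Hyp F V) {v0 : V} (hv0 : v0 ≠ 0) {w0 : Fin 3 → F} (hw0 : w0 ≠ 0)
    (hP : IsP (St v0) w0) : Nat.card V = Nat.card F ^ 3 ∧ ∀ w : Fin 3 → F, w ≠ 0 → Nat.card (Lv V w) = Nat.card F := by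
  obtain ⟨n, hn, hq⟩ := card_F (F := F)
  obtain ⟨d, hd⟩ := h.card_V
  obtain ⟨f, hf⟩ := h.card_sub (Lv V (Pi.single 0 1 : Fin 3 → F))
  have key := dc (α := {v : V // v ≠ 0}) (β := {w : Fin 3 → F // w ≠ 0})
      (fun v w => v.1 ∈ Lv V w.1) (m := Nat.card F - 1) (n := 2 ^ f - 1) ?_ ?_
  · rw [card_ne', card_ne', Nat.card_fun, Nat.card_eq_fintype_card (α := Fin 3), Fintype.card_fin, hd, hq] at key
    have hf1 : 1 ≤ f := by
      by_contra hf0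
      have h1 : Nat.card (Lv V w0) = 1 := by rw [card_Lv hw0, hf, show f = 0 by omega, pow_zero]
      have h2 : v0 ∈ Lv V w0 := mem_Lv.2 fun φ hφ => (hP.2 φ).2 hφ
      rw [AddSubgroup.card_eq_one] at h1
      rw [h1, AddSubgroup.mem_bot] at h2
      exact hv0 h2
    have h3 : f = n ∧ d = 3 * n := by
      apply arith3 hn hf1
      set q := 2 ^ n with hqdef
      have hq1 : 1 < Nat.card F := Finite.one_lt_card
      rw [hq] at hq1
      obtain ⟨a, ha'⟩ : ∃ a, q = a + 1 := ⟨q - 1, by omega⟩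
      have hd1 : 1 ≤ 2 ^ d := Nat.one_le_two_pow
      have hf1' : 1 ≤ 2 ^ f := Nat.one_le_two_pow
      obtain ⟨b, hb'⟩ : ∃ b, 2 ^ d = b + 1 := ⟨2 ^ d - 1, by omega⟩
      obtain ⟨c, hc'⟩ : ∃ c, 2 ^ f = c + 1 := ⟨2 ^ f - 1, by omega⟩
      have h4 : q ^ 3 - 1 = (q ^ 2 + q + 1) * a := by
        rw [ha']
        have : (a + 1) ^ 3 = ((a + 1) ^ 2 + (a + 1) + 1) * a + 1 := by ring
        omega
      rw [h4, hb', hc', show q - 1 = a by omega, Nat.add_sub_cancel, Nat.add_sub_cancel] at key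
      have h5 : b = (q ^ 2 + q + 1) * c := by
        apply Nat.eq_of_mul_eq_mul_right (show 0 < a by omega)
        rw [key]; ring
      rw [hb', hc', h5]
      ring
    constructor
    · rw [hd, hq, h3.2, ← pow_mul, mul_comm]
    · intro w hw
      rw [card_Lv hw, hf, h3.1, hq]
  · rintro ⟨v, hv0'⟩
    obtain ⟨w', hw', h1⟩ := h.all_P hv0 hw0 hP hv0'
    rw [← card_span hw']
    exact Nat.card_congr ⟨fun w => ⟨w.1.1, w.1.2, (mem_Lv_iff hw' h1 w.1.2).1 w.2⟩,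
      fun w => ⟨⟨w.1, w.2.1⟩, (mem_Lv_iff hw' h1 w.2.1).2 w.2.2⟩, fun _ => rfl, fun _ => rfl⟩
  · rintro ⟨w, hw⟩
    rw [← hf, ← card_Lv hw, ← card_ne]
    exact Nat.card_congr ⟨fun v => ⟨v.1.1, v.1.2, v.2⟩, fun v => ⟨⟨v.1, v.2.1⟩, v.2.2⟩, fun _ => rfl, fun _ => rfl⟩

end P

end Cfsg.Agent.H175.Psl3Aff
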