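import Mathlib
import Cfsg.Agent.H175.Psl3AffC

/-!
# Half-transitive linear actions of `SL₃(q)`, `q` even: conclusion
-/

set_option autoImplicit false

namespace Cfsg.Agent.H175.Psl3Aff

open Matrix Cfsg.Agent.H118.SLTrans Cfsg.Agent.H386.PslPts MulAction

variable {F : Type*} [Field F]

local notation "SL" => SpecialLinearGroup (Fin 3) F

variable {V : Type*} [AddCommGroup V] [DistribMulAction (SpecialLinearGroup (Fin 3) F) V]

local notation "St" => MulAction.stabilizer (SpecialLinearGroup (Fin 3) F)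

/-! ### Generation of the stabiliser of a vector -/

/-- The matrix `diag (1, D)`. -/
def blk (D : SpecialLinearGroup (Fin 2) F) : SL :=
  ⟨!![1, 0, 0; 0, D.1 0 0, D.1 0 1; 0, D.1 1 0, D.1 1 1], by
    have h := D.2
    rw [det_fin_two] at h
    rw [det_fin_three]
    simp
    linear_combination h⟩

theorem blk_mul (D D' : SpecialLinearGroup (Fin 2) F) : blk (D * D') = blk D * blk D' := by
  apply slext
  rw [mulv]
  ext i j
  have : (D * D').1 = D.1 * D'.1 := rfl
  fin_cases i <;> fin_cases j <;>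
    simp [blk, Matrix.mul_apply, Fin.sum_univ_three, Fin.sum_univ_two]

theorem mem_of_fix_aux {H : Subgroup SL} (hH : ∀ φ : Fin 3 → F, φ ⬝ᵥ (Pi.single 0 1) = 0 → φ ∈ Ax H) {g : SL}
    (hg : g.1 *ᵥ (Pi.single 0 1) = Pi.single 0 1) : g ∈ H := by
  have h1 : ∀ D : SpecialLinearGroup (Fin 2) F, blk D ∈ H := by
    intro D
    refine LieClassical.SLGen.transvection_induction (fun D => blk D ∈ H) ?_ ?_ D
    · intro i j hij c
      have h0 : (Pi.single j.succ c : Fin 3 → F) ⬝ᵥ (Pi.single i.succ 1) = 0 := by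
        rw [dotProduct_single, Pi.single_eq_of_ne (by simpa using hij), zero_mul]
      have h2 : blk (SpecialLinearGroup.transvection hij c) = Tr (Pi.single i.succ 1) (Pi.single j.succ c) := by
        apply slext
        rw [Tr_val h0]
        fin_cases i <;> fin_cases j
        · exact absurd rfl hij
        · ext k l
          fin_cases k <;> fin_cases l <;>
            simp [blk, SpecialLinearGroup.transvection_coe, vecMulVec_apply]
        · ext k l
          fin_cases k <;> fin_cases l <;>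
            simp [blk, SpecialLinearGroup.transvection_coe, vecMulVec_apply]
        · exact absurd rfl hij
      show blk (SpecialLinearGroup.transvection hij c) ∈ H
      rw [h2]
      refine mem_Ax.1 (hH _ ?_) _ h0
      rw [dotProduct_single, Pi.single_eq_of_ne (by exact (Fin.succ_ne_zero j).symm), zero_mul]
    · intro A B hA hB
      show blk (A * B) ∈ H
      rw [blk_mul]
      exact mul_mem hA hB
  have e00 : g.1 0 0 = 1 := by simpa using congrFun hg 0
  have e10 : g.1 1 0 = 0 := by simpa using congrFun hg 1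
  have e20 : g.1 2 0 = 0 := by simpa using congrFun hg 2
  have hdet : g.1.det = 1 := g.2
  rw [det_fin_three, e00, e10, e20] at hdet
  let D : SpecialLinearGroup (Fin 2) F := ⟨!![g.1 1 1, g.1 1 2; g.1 2 1, g.1 2 2], by
    rw [det_fin_two]; simp; linear_combination hdet⟩
  have h0 : (![0, g.1 0 1, g.1 0 2] : Fin 3 → F) ⬝ᵥ (Pi.single 0 1) = 0 := by
    rw [dotProduct_single]; simp
  have h2 : g = blk D * Tr (Pi.single 0 1) ![0, g.1 0 1, g.1 0 2] := by
    apply slext
    rw [mulv, Tr_val h0]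
    ext i j
    fin_cases i <;> fin_cases j <;>
      simp [blk, D, Matrix.mul_apply, Fin.sum_univ_three, e00, e10, e20]
  rw [h2]
  exact mul_mem (h1 D) (mem_Ax.1 (hH _ h0) _ h0)

/-- The stabiliser of `w` acts trivially on `Lv w`. -/
theorem smul_eq_of_fix {w : Fin 3 → F} (hw : w ≠ 0) {v : V} (hv : v ∈ Lv V w) {g : SL} (hg : g.1 *ᵥ w = w) :
    g • v = v := by
  obtain ⟨x, hx⟩ := exists_vec hw
  have h1 : x⁻¹ • v ∈ Lv V (Pi.single 0 1 : Fin 3 → F) := by
    rw [← smul_mem_Lv x, smul_inv_smul, hx]; exact hv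
  have h2 : (x⁻¹ * g * x) ∈ St (x⁻¹ • v) := by
    apply mem_of_fix_aux (mem_Lv.1 h1)
    rw [mulv, mulv, ← mulVec_mulVec, ← mulVec_mulVec, hx, hg, ← hx, mulVec_mulVec, coe_inv_mul, one_mulVec]
  have h3 : (x⁻¹ * g * x) • x⁻¹ • v = x⁻¹ • v := h2
  rw [mul_smul, mul_smul, smul_inv_smul] at h3
  exact smul_left_cancel _ h3

/-! ### The sum of three lines -/

theorem card_mul_le_card_sup [Finite V] {A B : AddSubgroup V} (h : ∀ v ∈ A, v ∈ B → v = 0) :
    Nat.card A * Nat.card B ≤ Nat.card (A ⊔ B : AddSubgroup V) := by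
  rw [← Nat.card_prod]
  refine Nat.card_le_card_of_injective (fun x : A × B =>
    (⟨x.1 + x.2, add_mem (AddSubgroup.mem_sup_left x.1.2) (AddSubgroup.mem_sup_right x.2.2)⟩ :
      (A ⊔ B : AddSubgroup V))) ?_
  rintro ⟨a, b⟩ ⟨a', b'⟩ hab
  have h1 : (a : V) + b = a' + b' := congrArg Subtype.val hab
  have h2 : (a : V) - a' = b' - b := by rw [sub_eq_sub_iff_add_eq_add, h1, add_comm]
  have h3 : (a : V) - a' = 0 := h _ (sub_mem a.2 a'.2) (by rw [h2]; exact sub_mem b'.2 b.2)
  have h4 : (a : V) = a' := sub_eq_zero.1 h3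
  have h5 : (b : V) = b' := by rw [h3] at h2; exact (sub_eq_zero.1 h2.symm).symm
  exact Prod.ext (Subtype.ext h4) (Subtype.ext h5)

section P

variable [Finite F] [CharP F 2] [Finite V]

/-- An element acting trivially on the three coordinate lines acts trivially. -/
theorem Hyp.trivial_of_lines (h : Hyp F V) {v0 : V} (hv0 : v0 ≠ 0) {w0 : Fin 3 → F} (hw0 : w0 ≠ 0)
    (hP : IsP (St v0) w0) {g : SL} (hg : ∀ i : Fin 3, ∀ v ∈ Lv V (Pi.single i 1 : Fin 3 → F), g • v = v) (v : V) :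
    g • v = v := by
  obtain ⟨hV, hL⟩ := h.cards hv0 hw0 hP
  set A : Fin 3 → AddSubgroup V := fun i => Lv V (Pi.single i 1 : Fin 3 → F) with hA
  have hq1 : 1 < Nat.card F := Finite.one_lt_card
  -- `A 0 ∩ A 1 = 0`
  have h01 : ∀ v ∈ A 0, v ∈ A 1 → v = 0 := by
    intro v hv0' hv1
    by_contra hv
    obtain ⟨w', hw', h1⟩ := h.all_P hv0 hw0 hP hv
    obtain ⟨s, hs⟩ := (mem_Lv_iff hw' h1 (single_ne 0)).1 hv0'
    obtain ⟨t, ht⟩ := (mem_Lv_iff hw' h1 (single_ne 1)).1 hv1
    have e0 := congrFun hs 0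
    have e1 := congrFun ht 1
    have e2 := congrFun hs 1
    simp at e0 e1 e2
    rcases e2 with h2 | h2
    · rw [h2, zero_mul] at e0; exact one_ne_zero e0
    · rw [h2, mul_zero] at e1; exact one_ne_zero e1
  have h012 : ∀ v ∈ A 0 ⊔ A 1, v ∈ A 2 → v = 0 := by
    intro v hv01 hv2
    by_contra hv
    obtain ⟨w', hw', h1⟩ := h.all_P hv0 hw0 hP hv
    obtain ⟨s, hs⟩ := (mem_Lv_iff hw' h1 (single_ne 2)).1 hv2
    have hle : A 0 ⊔ A 1 ≤ Av V (Pi.single 2 1 : Fin 3 → F) := by
      refine sup_le ?_ ?_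
      · intro v hv
        refine mem_Av.2 (mem_Lv.1 hv _ ?_)
        rw [dotProduct_single, Pi.single_eq_of_ne (by decide), zero_mul]
      · intro v hv
        refine mem_Av.2 (mem_Lv.1 hv _ ?_)
        rw [dotProduct_single, Pi.single_eq_of_ne (by decide), zero_mul]
    have h2 := (h1.2 _).1 (mem_Av.1 (hle hv01))
    have h3 : (Pi.single 2 1 : Fin 3 → F) ⬝ᵥ (Pi.single 2 1) = 0 := by
      rw [hs, dotProduct_smul, ← hs, h2, smul_zero]
    rw [dotProduct_single, Pi.single_eq_same, mul_one] at h3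
    exact one_ne_zero h3
  have hc1 := card_mul_le_card_sup h01
  have hc2 := card_mul_le_card_sup h012
  have hc3 : Nat.card V ≤ Nat.card (A 0 ⊔ A 1 ⊔ A 2 : AddSubgroup V) := by
    have e : ∀ i, Nat.card (A i) = Nat.card F := fun i => hL _ (single_ne i)
    rw [e 0, e 1] at hc1
    rw [e 2] at hc2
    calc Nat.card V = Nat.card F * Nat.card F * Nat.card F := by rw [hV]; ring
      _ ≤ Nat.card (A 0 ⊔ A 1 : AddSubgroup V) * Nat.card F := Nat.mul_le_mul_right _ hc1
      _ ≤ _ := hc2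
  have htop : A 0 ⊔ A 1 ⊔ A 2 = ⊤ := by
    refine AddSubgroup.eq_top_of_card_eq _ (le_antisymm ?_ hc3)
    exact AddSubgroup.card_le_card_addGroup _
  have hle : A 0 ⊔ A 1 ⊔ A 2 ≤ Fx V {g} := by
    refine sup_le (sup_le ?_ ?_) ?_
    · rintro v hv _ rfl; exact hg 0 v hv
    · rintro v hv _ rfl; exact hg 1 v hv
    · rintro v hv _ rfl; exact hg 2 v hv
  exact hle (htop ▸ AddSubgroup.mem_top v) g rfl

/-- The eigenvalue of the elements of the stabiliser. -/
noncomputable def ev {H : Subgroup SL} {w ψ : Fin 3 → F} (hψ : ψ ⬝ᵥ w = 1) (hH : ∀ g ∈ H, ∃ s : F, g.1 *ᵥ w = s • w) :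
    H →* Fˣ :=
  MonoidHom.toHomUnits
    { toFun := fun g => ψ ⬝ᵥ (g.1.1 *ᵥ w)
      map_one' := by
        show ψ ⬝ᵥ ((1 : Matrix (Fin 3) (Fin 3) F) *ᵥ w) = 1
        rw [one_mulVec, hψ]
      map_mul' := by
        intro a b
        obtain ⟨s, hs⟩ := hH a a.2
        obtain ⟨t, ht⟩ := hH b b.2
        show ψ ⬝ᵥ ((a.1 * b.1 : SL).1 *ᵥ w) = _
        rw [mulv, ← mulVec_mulVec, ht, mulVec_smul, hs, dotProduct_smul, dotProduct_smul, dotProduct_smul, hψ]
        simp [mul_comm] }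

omit [Finite F] [CharP F 2] in
theorem ev_spec {H : Subgroup SL} {w ψ : Fin 3 → F} (hψ : ψ ⬝ᵥ w = 1) (hH : ∀ g ∈ H, ∃ s : F, g.1 *ᵥ w = s • w)
    (g : H) : g.1.1 *ᵥ w = (ev hψ hH g : F) • w := by
  obtain ⟨s, hs⟩ := hH g g.2
  have h1 : (ev hψ hH g : F) = ψ ⬝ᵥ (g.1.1 *ᵥ w) := rfl
  rw [h1, hs, dotProduct_smul, hψ]
  simp

omit [Finite F] [CharP F 2] [Finite V] in
theorem exists_dual {w : Fin 3 → F} (hw : w ≠ 0) : ∃ ψ : Fin 3 → F, ψ ⬝ᵥ w = 1 := by
  obtain ⟨i, hi⟩ := Function.ne_iff.1 hw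
  refine ⟨Pi.single i (w i)⁻¹, ?_⟩
  rw [single_dotProduct]
  exact inv_mul_cancel₀ hi

omit [CharP F 2] in
theorem eq_of_card_units {K K' : Subgroup Fˣ} (h : Nat.card K = Nat.card K') : K = K' := by
  have key : ∀ K : Subgroup Fˣ, K = rootsOfUnity (Nat.card K) F := by
    intro K
    have hk : 0 < Nat.card K := Nat.card_pos
    have : NeZero (Nat.card K) := ⟨hk.ne'⟩
    refine Subgroup.eq_of_le_of_card_ge ?_ ?_
    · intro x hx
      rw [mem_rootsOfUnity]
      exact congrArg Subtype.val (pow_card_eq_one' (x := (⟨x, hx⟩ : K)))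
    · exact card_rootsOfUnity F (Nat.card K)
  rw [key K, h, ← key K']

/-- The stabiliser of a vector of point type is the stabiliser of a vector. -/
theorem Hyp.fix (h : Hyp F V) {v0 : V} (hv0 : v0 ≠ 0) {w0 : Fin 3 → F} (hw0 : w0 ≠ 0)
    (hP : IsP (St v0) w0) {v : V} (hv : v ≠ 0) {w : Fin 3 → F} (hw : w ≠ 0) (h1 : IsP (St v) w) {g : SL}
    (hg : g ∈ St v) : g.1 *ᵥ w = w := by
  obtain ⟨ψ, hψ⟩ := exists_dual hw
  have hH : ∀ v : V, IsP (St v) w → ∀ g ∈ St v, ∃ s : F, g.1 *ᵥ w = s • w := fun v h1 g hg =>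
    (h1.1 _).1 (smul_mem_Cen hg ((h1.1 _).2 ⟨1, (one_smul _ _).symm⟩))
  have hmem : ∀ v : V, IsP (St v) w → v ∈ Lv V w := fun v h1 => mem_Lv.2 fun φ hφ => (h1.2 φ).2 hφ
  have hcard : ∀ v : V, ∀ h1 : IsP (St v) w,
      Nat.card (stabilizer SL w) * Nat.card (ev hψ (hH v h1)).range = Nat.card (St v) := by
    intro v h1
    rw [← (ev hψ (hH v h1)).ker.card_mul_index, Subgroup.index_ker]
    congr 1
    refine Nat.card_congr ⟨fun x => ⟨⟨x.1, smul_eq_of_fix hw (hmem v h1) x.2⟩, ?_⟩, fun x => ⟨x.1.1, ?_⟩,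
      fun _ => rfl, fun _ => rfl⟩
    · rw [MonoidHom.mem_ker]
      apply Units.ext
      have h2 := ev_spec hψ (hH v h1) ⟨x.1, smul_eq_of_fix hw (hmem v h1) x.2⟩
      have h3 : (x.1 : SL).1 *ᵥ w = w := x.2
      have h4 : (1 : F) • w = (ev hψ (hH v h1) ⟨x.1, smul_eq_of_fix hw (hmem v h1) x.2⟩ : F) • w := by
        rw [← h2, h3, one_smul]
      exact (smul_left_injective F hw h4).symm
    · have h2 := ev_spec hψ (hH v h1) x.1
      have h3 : ev hψ (hH v h1) x.1 = 1 := x.2
      rw [h3, Units.val_one, one_smul] at h2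
      exact h2
  have hP' : ∀ v' : V, v' ∈ Lv V w → v' ≠ 0 → IsP (St v') w := by
    intro v' hv' hv'0
    obtain ⟨w', hw', h2⟩ := h.all_P hv0 hw0 hP hv'0
    exact h2.congr hw ((h2.1 _).2 ((mem_Lv_iff hw' h2 hw).1 hv'))
  have hrange : ∀ v' : V, ∀ h' : IsP (St v') w, v' ≠ 0 →
      (ev hψ (hH v' h')).range = (ev hψ (hH v h1)).range := by
    intro v' h' hv'
    apply eq_of_card_units
    have e1 := hcard v h1
    have e2 := hcard v' h'
    rw [h.card v' v hv' hv, ← e1] at e2
    exact Nat.eq_of_mul_eq_mul_left Nat.card_pos e2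
  -- elements with an eigenvalue from the range act trivially
  have htriv : ∀ μ ∈ (ev hψ (hH v h1)).range, ∀ g : SL, g.1 *ᵥ w = (μ : F) • w → ∀ v' ∈ Lv V w, g • v' = v' := by
    intro μ hμ g hg v' hv'
    by_cases hv'0 : v' = 0
    · rw [hv'0, smul_zero]
    have h' := hP' v' hv' hv'0
    rw [← hrange v' h' hv'0] at hμ
    obtain ⟨x, hx⟩ := hμ
    have h2 := ev_spec hψ (hH v' h') x
    rw [hx] at h2
    have h3 : (x.1⁻¹ * g).1 *ᵥ w = w := by
      rw [mulv, ← mulVec_mulVec, hg, ← h2, mulVec_mulVec, coe_inv_mul, one_mulVec]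
    have h4 := smul_eq_of_fix hw hv' h3
    rw [mul_smul, inv_smul_eq_iff] at h4
    rw [h4]
    exact x.2
  have htriv' : ∀ μ ∈ (ev hψ (hH v h1)).range, ∀ u : Fin 3 → F, u ≠ 0 → ∀ g : SL, g.1 *ᵥ u = (μ : F) • u →
      ∀ v' ∈ Lv V u, g • v' = v' := by
    intro μ hμ u hu g hg v' hv'
    obtain ⟨x, hx⟩ := exists_vec' hw hu
    have h2 : x⁻¹ • v' ∈ Lv V w := by
      rw [← smul_mem_Lv x, smul_inv_smul, hx]; exact hv'
    have h3 := htriv μ hμ (x⁻¹ * g * x) (by
      rw [mulv, mulv, ← mulVec_mulVec, ← mulVec_mulVec, hx, hg, mulVec_smul, ← hx, mulVec_mulVec, coe_inv_mul,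
        one_mulVec]) _ h2
    rw [mul_smul, mul_smul, smul_inv_smul] at h3
    exact smul_left_cancel _ h3
  set μ := ev hψ (hH v h1) ⟨g, hg⟩ with hμ
  have hμr : μ ∈ (ev hψ (hH v h1)).range := ⟨_, rfl⟩
  have hgw : g.1 *ᵥ w = (μ : F) • w := ev_spec hψ (hH v h1) ⟨g, hg⟩
  let D : SL := ⟨diagonal ![(μ : F), ((μ⁻¹ : Fˣ) : F), 1], by
    rw [det_diagonal, Fin.prod_univ_three]; simp⟩
  have hD : ∀ i, D.1 *ᵥ (Pi.single i 1 : Fin 3 → F) = (![(μ : F), ((μ⁻¹ : Fˣ) : F), 1] i) • Pi.single i 1 := by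
    intro i
    show diagonal _ *ᵥ _ = _
    rw [diagonal_mulVec_single, mul_one, ← Pi.single_smul, smul_eq_mul, mul_one]
  have hDV : ∀ v : V, D • v = v := by
    apply h.trivial_of_lines hv0 hw0 hP
    intro i v' hv'
    fin_cases i
    · exact htriv' μ hμr _ (single_ne 0) D (hD 0) v' hv'
    · exact htriv' μ⁻¹ (inv_mem hμr) _ (single_ne 1) D (hD 1) v' hv'
    · exact htriv' 1 (one_mem _) _ (single_ne 2) D (hD 2) v' hv'
  obtain ⟨r, -, hr⟩ := exists_scalar (h.ker D hDV)
  have h2 := hr (Pi.single 0 1)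
  have h3 := hr (Pi.single 2 1)
  rw [hD] at h2 h3
  have e2 := smul_left_injective F (single_ne 0) h2
  have e3 := smul_left_injective F (single_ne 2) h3
  simp at e2 e3
  rw [hgw, e2, ← e3, one_smul]

/-- The conclusion. -/
def Concl (F : Type*) [Field F] (V : Type*) [AddCommGroup V] [DistribMulAction (SpecialLinearGroup (Fin 3) F) V] : Prop :=
  Nat.card V = Nat.card F ^ 3 ∧ (∀ v v' : V, v ≠ 0 → v' ≠ 0 → ∃ g : SpecialLinearGroup (Fin 3) F, g • v = v') ∧
    ∀ x : F, x ^ 3 = 1 → x = 1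

theorem Hyp.concl_of_P (h : Hyp F V) {v0 : V} (hv0 : v0 ≠ 0) {w0 : Fin 3 → F} (hw0 : w0 ≠ 0)
    (hP : IsP (St v0) w0) : Concl F V := by
  obtain ⟨hV, hL⟩ := h.cards hv0 hw0 hP
  refine ⟨hV, ?_, ?_⟩
  · intro v v' hv hv'
    obtain ⟨w, hw, h1⟩ := h.all_P hv0 hw0 hP hv
    have hmem : v ∈ Lv V w := mem_Lv.2 fun φ hφ => (h1.2 φ).2 hφ
    have hSt : St v = stabilizer SL w := by
      ext g
      constructor
      · intro hg
        exact h.fix hv0 hw0 hP hv hw h1 hg
      · intro hg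
        exact smul_eq_of_fix hw hmem hg
    have horb : (orbit SL v : Set V) = {x | x ≠ 0} := by
      have hsub : (orbit SL v : Set V) ⊆ {x | x ≠ 0} := by
        rintro _ ⟨g, rfl⟩ h0
        exact hv (by rw [← inv_smul_smul g v, show g • v = 0 from h0, smul_zero])
      refine Set.eq_of_subset_of_ncard_le hsub ?_ (Set.toFinite _)
      rw [← MulAction.index_stabilizer, hSt, MulAction.index_stabilizer]
      have h2 : (orbit SL w : Set (Fin 3 → F)) = {x | x ≠ 0} := by
        ext u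
        constructor
        · rintro ⟨g, rfl⟩ h0
          exact hw (by
            have h0' : g • w = 0 := h0
            rw [← inv_smul_smul g w, h0', smul_zero])
        · intro hu
          obtain ⟨g, hg⟩ := exists_vec' hw hu
          exact ⟨g, hg⟩
      rw [h2, ← Nat.card_coe_set_eq, ← Nat.card_coe_set_eq]
      have e1 : Nat.card {x : V | x ≠ 0} = Nat.card V - 1 := card_ne' V
      have e2 : Nat.card {x : Fin 3 → F | x ≠ 0} = Nat.card (Fin 3 → F) - 1 := card_ne' _
      rw [e1, e2, hV, Nat.card_fun, Nat.card_eq_fintype_card (α := Fin 3), Fintype.card_fin]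
    have : v' ∈ orbit SL v := by rw [horb]; exact hv'
    exact this
  · intro x hx
    let g : SL := ⟨diagonal fun _ => x, by rw [det_diagonal]; simpa using hx⟩
    have hg : ∀ w : Fin 3 → F, g.1 *ᵥ w = x • w := by
      intro w
      show diagonal _ *ᵥ w = _
      ext i
      rw [mulVec_diagonal]; rfl
    have hc : g ∈ Subgroup.center SL := by
      rw [Subgroup.mem_center_iff]
      intro y
      apply slext
      rw [mulv, mulv]
      show y.1 * diagonal _ = diagonal _ * y.1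
      ext i j
      simp [mul_comm]
    have h1 := h.fix hv0 hw0 hP hv0 hw0 hP (g := g) (h.cen g hc v0)
    rw [hg] at h1
    have h2 : x • w0 = (1 : F) • w0 := by rw [h1, one_smul]
    exact smul_left_injective F hw0 h2

end P

/-! ### The dual action -/

/-- `V` with the action twisted by the inverse transpose. -/
def Tw (V : Type*) := V

instance instTwAdd (V : Type*) [i : AddCommGroup V] : AddCommGroup (Tw V) := i

instance instTwFin (V : Type*) [i : Finite V] : Finite (Tw V) := i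

noncomputable instance instTwAct (V : Type*) [AddCommGroup V] [i : DistribMulAction (SpecialLinearGroup (Fin 3) F) V] :
    DistribMulAction (SpecialLinearGroup (Fin 3) F) (Tw V) where
  smul g v := (i.smul (invT g) v : V)
  one_smul v := by
    show i.smul (invT 1) v = v
    rw [map_one]; exact i.one_smul v
  mul_smul g g' v := by
    show i.smul (invT (g * g')) v = _
    rw [map_mul]; exact i.mul_smul _ _ v
  smul_zero g := i.smul_zero _
  smul_add g v v' := i.smul_add _ v v'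

theorem tw_smul (g : SL) (v : V) : (g • (show Tw V from v) : Tw V) = (invT g • v : V) := rfl

theorem stab_tw (v : V) : stabilizer SL (show Tw V from v) = (St v).map invT.toMonoidHom := by
  ext g
  constructor
  · intro hg
    exact ⟨invT g, hg, invT_invT g⟩
  · rintro ⟨x, hx, rfl⟩
    show invT (invT x) • v = v
    rw [invT_invT]; exact hx

theorem invT_center {g : SL} (hg : g ∈ Subgroup.center SL) : invT g ∈ Subgroup.center SL := by
  rw [Subgroup.mem_center_iff] at hg ⊢
  intro y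
  have h1 := congrArg invT (hg (invT y))
  rwa [map_mul, map_mul, invT_invT] at h1

theorem Hyp.tw (h : Hyp F V) : Hyp F (Tw V) where
  two := h.two
  ker := fun g hg => by
    have h1 := invT_center (h.ker (invT g) (fun v => hg v))
    rwa [invT_invT] at h1
  cen := fun g hg v => h.cen (invT g) (invT_center hg) v
  card := fun v w hv hw => by
    have e1 := stab_tw (F := F) (V := V) v
    have e2 := stab_tw (F := F) (V := V) w
    have e3 : Nat.card (stabilizer SL v) = Nat.card (St (show V from v)) := by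
      rw [show stabilizer SL v = _ from e1]
      exact (Nat.card_congr ((St (show V from v)).equivMapOfInjective _ invT.injective).toEquiv).symm
    have e4 : Nat.card (stabilizer SL w) = Nat.card (St (show V from w)) := by
      rw [show stabilizer SL w = _ from e2]
      exact (Nat.card_congr ((St (show V from w)).equivMapOfInjective _ invT.injective).toEquiv).symm
    rw [e3, e4]
    exact h.card v w hv hw

/-- **Main theorem.** -/
theorem Hyp.concl [Finite F] [CharP F 2] [Finite V] (h : Hyp F V) : Concl F V := by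
  by_contra hcon
  refine h.not_Z fun v hv => ?_
  rcases h.tri hv with ⟨w, hw, h1⟩ | ⟨χ, hχ, h1⟩ | h1
  · exact (hcon (h.concl_of_P hv hw h1)).elim
  · exfalso
    have h2 := h.tw.concl_of_P (v0 := (show Tw V from v)) hv hχ (by rw [stab_tw]; exact h1.map)
    refine hcon ⟨h2.1, fun v v' hv hv' => ?_, h2.2.2⟩
    obtain ⟨g, hg⟩ := h2.2.1 v v' hv hv'
    exact ⟨invT g, hg⟩
  · exact h1

end Cfsg.Agent.H175.Psl3Aff
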