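import Mathlib
import Cfsg.Agent.H175.Psl3AffD

/-!
# The index of a proper subgroup of odd index of `SL₃(q)`, `q` even, is divisible by `q² + q + 1`
-/

set_option autoImplicit false
set_option linter.unusedSectionVars false

namespace Cfsg.Agent.H175.Psl3Aff

open Matrix Cfsg.Agent.H118.SLTrans Cfsg.Agent.H386.PslPts MulAction

variable {F : Type*} [Field F]

local notation "SL" => SpecialLinearGroup (Fin 3) F

theorem exists_flag' [Finite F] [CharP F 2] (H : Subgroup SL) (hodd : ¬ 2 ∣ H.index) :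
    ∃ w χ : Fin 3 → F, w ≠ 0 ∧ χ ≠ 0 ∧ χ ⬝ᵥ w = 0 ∧ w ∈ Cen H ∧ χ ∈ Ax H := by
  let E : Subgroup SL :=
    { carrier := {g | g.1 *ᵥ (Pi.single 0 1) = Pi.single 0 1 ∧ (Pi.single 1 1 : Fin 3 → F) ᵥ* g.1 = Pi.single 1 1}
      one_mem' := ⟨one_mulVec _, vecMul_one _⟩
      mul_mem' := by
        rintro a b ⟨ha, ha'⟩ ⟨hb, hb'⟩
        exact ⟨by rw [mulv, ← mulVec_mulVec, hb, ha], by rw [mulv, ← vecMul_vecMul, ha', hb']⟩
      inv_mem' := by
        rintro a ⟨ha, ha'⟩
        refine ⟨?_, ?_⟩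
        · conv_lhs => rw [← ha]
          rw [mulVec_mulVec, coe_inv_mul, one_mulVec]
        · conv_lhs => rw [← ha']
          rw [vecMul_vecMul, coe_mul_inv, vecMul_one] }
  have hE : IsPGroup 2 E := by
    rintro ⟨g, hg⟩
    exact ⟨2, Subtype.ext (pow_four_eq_one (single_ne 0) (single_ne 1) h01 hg.1 hg.2)⟩
  obtain ⟨g, hg⟩ := exists_conj_mem Nat.prime_two hE H hodd
  refine ⟨(g⁻¹).1 *ᵥ (Pi.single 0 1), (Pi.single 1 1 : Fin 3 → F) ᵥ* g.1, ?_, ?_, ?_, ?_, ?_⟩
  · intro h0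
    have : g.1 *ᵥ ((g⁻¹).1 *ᵥ (Pi.single 0 1 : Fin 3 → F)) = 0 := by rw [h0, mulVec_zero]
    rw [mulVec_mulVec, coe_mul_inv, one_mulVec] at this
    exact single_ne 0 this
  · intro h0
    have : ((Pi.single 1 1 : Fin 3 → F) ᵥ* g.1) ᵥ* (g⁻¹).1 = 0 := by rw [h0, zero_vecMul]
    rw [vecMul_vecMul, coe_mul_inv, vecMul_one] at this
    exact single_ne 1 this
  · rw [← dotProduct_mulVec, mulVec_mulVec, coe_mul_inv, one_mulVec, h01]
  · intro φ hφ
    rw [conj_mem_iff g⁻¹ _ φ hφ, inv_inv]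
    apply hg
    have h1 : (φ ᵥ* (g⁻¹).1) ⬝ᵥ (Pi.single 0 1) = 0 := by rw [← dotProduct_mulVec]; exact hφ
    refine ⟨?_, ?_⟩
    · rw [Tr_mulVec h1, h1, zero_smul, add_zero]
    · rw [vecMul_Tr h1, h01, zero_smul, add_zero]
  · rw [mem_Ax]
    intro u hu
    have h1 : (Pi.single 1 1 : Fin 3 → F) ⬝ᵥ (g.1 *ᵥ u) = 0 := by rw [dotProduct_mulVec]; exact hu
    have h2 := conj_mem_iff g u (Pi.single 1 1) h1
    have h3 : Tr u ((Pi.single 1 1 : Fin 3 → F) ᵥ* g.1) = g⁻¹ * Tr (g.1 *ᵥ u) (Pi.single 1 1) * g := by rw [h2]; group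
    rw [h3]
    apply hg
    refine ⟨?_, ?_⟩
    · rw [Tr_mulVec h1, h01, zero_smul, add_zero]
    · rw [vecMul_Tr h1, h1, zero_smul, add_zero]

/-- The stabilizer of the point `⟨w⟩`. -/
def Kw (w : Fin 3 → F) (hw : w ≠ 0) : Subgroup SL where
  carrier := {g | ∃ s : F, g.1 *ᵥ w = s • w}
  one_mem' := ⟨1, by rw [one_smul]; exact one_mulVec w⟩
  mul_mem' := by
    rintro a b ⟨s, hs⟩ ⟨t, ht⟩
    exact ⟨t * s, by rw [mulv, ← mulVec_mulVec, ht, mulVec_smul, hs, smul_smul]⟩
  inv_mem' := by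
    rintro a ⟨s, hs⟩
    have hs0 : s ≠ 0 := by
      rintro rfl
      rw [zero_smul] at hs
      have : (a⁻¹).1 *ᵥ (a.1 *ᵥ w) = w := by rw [mulVec_mulVec, coe_inv_mul, one_mulVec]
      rw [hs, mulVec_zero] at this
      exact hw this.symm
    refine ⟨s⁻¹, ?_⟩
    have : (a⁻¹).1 *ᵥ (a.1 *ᵥ w) = w := by rw [mulVec_mulVec, coe_inv_mul, one_mulVec]
    rw [hs, mulVec_smul] at this
    rw [← this, smul_smul, inv_mul_cancel₀ hs0, one_smul, this]

theorem index_Kw [Finite F] {w : Fin 3 → F} (hw : w ≠ 0) : (Kw w hw).index = Nat.card F ^ 2 + Nat.card F + 1 := by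
  classical
  have : Fintype F := Fintype.ofFinite F
  obtain ⟨ψ, hψ⟩ := exists_dual hw
  let f := ev (H := Kw w hw) hψ (fun g hg => hg)
  -- the kernel of `f` and the stabilizer of `w`
  have hspec : ∀ g : Kw w hw, (g : SL).1 *ᵥ w = (f g : F) • w := fun g => ev_spec hψ (fun g hg => hg) g
  have hsurj : Function.Surjective f := by
    intro s
    obtain ⟨g, hg⟩ := exists_vec' hw (smul_ne_zero s.ne_zero hw : (s : F) • w ≠ 0)
    refine ⟨⟨g, (s : F), hg⟩, ?_⟩
    apply Units.ext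
    have h1 := hspec ⟨g, (s : F), hg⟩
    exact (smul_left_injective F hw (hg.symm.trans h1)).symm
  let St : Subgroup SL := stabilizer SL w
  have hker : f.ker.map (Kw w hw).subtype = St := by
    ext g
    constructor
    · rintro ⟨g', hg', rfl⟩
      have h1 := hspec g'
      rw [MonoidHom.mem_ker.1 hg', Units.val_one, one_smul] at h1
      exact h1
    · intro hg
      have hg1 : g.1 *ᵥ w = w := hg
      have hgK : g ∈ Kw w hw := ⟨1, hg1.trans (one_smul F w).symm⟩
      refine ⟨⟨g, hgK⟩, ?_, rfl⟩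
      apply MonoidHom.mem_ker.2
      apply Units.ext
      have h1 : g.1 *ᵥ w = (f ⟨g, hgK⟩ : F) • w := hspec ⟨g, hgK⟩
      have h2 : (1 : F) • w = (f ⟨g, hgK⟩ : F) • w := ((one_smul F w).trans hg1.symm).trans h1
      exact (smul_left_injective F hw h2).symm
  have hcardker : Nat.card f.ker = Nat.card St := by
    rw [← hker]
    exact Nat.card_congr (f.ker.equivMapOfInjective _ (Kw w hw).subtype_injective).toEquiv
  have h1 : Nat.card (Kw w hw) = (Nat.card F - 1) * Nat.card St := by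
    have h2 := f.ker.card_mul_index
    rw [Subgroup.index_ker, MonoidHom.range_eq_top.2 hsurj, Subgroup.card_top, hcardker] at h2
    rw [← h2, Nat.card_units, mul_comm]
  have h2 : Nat.card SL = (Nat.card F ^ 3 - 1) * Nat.card St := by
    have h3 := St.card_mul_index
    have h4 : St.index = Nat.card F ^ 3 - 1 := by
      rw [show St.index = (orbit SL w).ncard from index_stabilizer SL w]
      have h5 : (orbit SL w : Set (Fin 3 → F)) = {0}ᶜ := by
        ext v
        constructor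
        · rintro ⟨g, rfl⟩ h0
          have h0' : g.1 *ᵥ w = 0 := h0
          have : (g⁻¹).1 *ᵥ (g.1 *ᵥ w) = w := by rw [mulVec_mulVec, coe_inv_mul, one_mulVec]
          rw [h0', mulVec_zero] at this
          exact hw this.symm
        · intro hv
          obtain ⟨g, hg⟩ := exists_vec' hw hv
          exact ⟨g, hg⟩
      rw [h5, Set.ncard_compl, Set.ncard_singleton, Nat.card_fun, Nat.card_fin]
    rw [← h3, h4, mul_comm]
  have h3 := (Kw w hw).card_mul_index
  rw [h1, h2] at h3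
  have hq : 1 < Nat.card F := Finite.one_lt_card
  have hSt : 0 < Nat.card St := Nat.card_pos
  have h4 : (Nat.card F - 1) * (Kw w hw).index = Nat.card F ^ 3 - 1 := by
    apply Nat.eq_of_mul_eq_mul_right hSt
    rw [← h3]; ring
  apply Nat.eq_of_mul_eq_mul_left (show 0 < Nat.card F - 1 by omega)
  rw [h4]
  obtain ⟨r, hr⟩ : ∃ r, Nat.card F = r + 1 := ⟨Nat.card F - 1, by omega⟩
  rw [hr, Nat.add_sub_cancel]
  have : (r + 1) ^ 3 = r * ((r + 1) ^ 2 + (r + 1) + 1) + 1 := by ring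
  rw [this, Nat.add_sub_cancel]

theorem dvd_index_of_le [Finite F] {H : Subgroup SL} {w : Fin 3 → F} (hw : w ≠ 0)
    (h : ∀ u, u ∈ Cen H ↔ ∃ s : F, u = s • w) : Nat.card F ^ 2 + Nat.card F + 1 ∣ H.index := by
  rw [← index_Kw hw]
  apply Subgroup.index_dvd_of_le
  intro g hg
  exact (h _).1 (smul_mem_Cen hg ((h w).2 ⟨1, (one_smul _ _).symm⟩))

theorem index_map_invT (H : Subgroup SL) : (H.map invT.toMonoidHom).index = H.index := by
  have := Subgroup.index_comap_of_surjective H (f := invT.symm.toMonoidHom) invT.symm.surjective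
  rw [← this]
  congr 1
  ext x
  constructor
  · rintro ⟨y, hy, rfl⟩
    change invT.symm (invT y) ∈ H
    rwa [invT.symm_apply_apply]
  · intro hx
    exact ⟨_, hx, invT.apply_symm_apply x⟩

/-- A proper subgroup of odd index has index divisible by `q² + q + 1`. -/
theorem dvd_index [Finite F] [CharP F 2] {H : Subgroup SL} (hH : H ≠ ⊤) (hodd : ¬ 2 ∣ H.index) :
    Nat.card F ^ 2 + Nat.card F + 1 ∣ H.index := by
  obtain ⟨w, χ, hw, hχ, h0, hwv, hχv⟩ := exists_flag' H hodd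
  rcases Psl3Aff.tri hH hw hχ h0 hwv hχv with h1 | h1 | h1
  · exact dvd_index_of_le hw h1.1
  · rw [← index_map_invT]
    exact dvd_index_of_le hχ h1.map.1
  · exact dvd_index_of_le hw h1.1

open scoped Pointwise in
/-- The orbits of odd length `≠ 1` of `PSL₃(q)`, `q` even, have length divisible by `q² + q + 1`. -/
theorem dvd_orbit [Finite F] [CharP F 2] {N Ω : Type*} [Group N] [MulAction N Ω]
    (e : N ≃* Matrix.ProjectiveSpecialLinearGroup (Fin 3) F) (b : Ω) (h1 : Nat.card (orbit N b) ≠ 1)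
    (hodd : ¬ 2 ∣ Nat.card (orbit N b)) :
    Nat.card F ^ 2 + Nat.card F + 1 ∣ Nat.card (orbit N b) := by
  let π : Matrix.SpecialLinearGroup (Fin 3) F →* N :=
    e.symm.toMonoidHom.comp (QuotientGroup.mk' (Subgroup.center (Matrix.SpecialLinearGroup (Fin 3) F)))
  have hπs : Function.Surjective π := e.symm.surjective.comp (QuotientGroup.mk'_surjective _)
  have h2 : ((stabilizer N b).comap π).index = Nat.card (orbit N b) := by
    rw [Subgroup.index_comap_of_surjective _ hπs, index_stabilizer, Nat.card_coe_set_eq]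
  rw [← h2]
  apply dvd_index
  · intro h
    rw [h, Subgroup.index_top] at h2
    exact h1 h2.symm
  · rw [h2]; exact hodd

end Cfsg.Agent.H175.Psl3Aff
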