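import Mathlib
import Cfsg.Agent.ClassicalGeometry.SympSiegel
import Cfsg.Agent.H175.Psl3AffB

/-!
# Point stabilizers of the 2-transitive actions of `Sp_{2m}(2)` (helper175)

`cent_eq_bot`: two commuting normal subgroups `N`, `C` of the point stabilizer, `N` simple of order divisible by 7;
then `C = 1`.
-/

set_option autoImplicit false
set_option linter.unusedSectionVars false

namespace Cfsg.Agent.H175.SpStab

open Cfsg Cfsg.Agent.ClassicalGeometry.SympBasic Cfsg.Agent.ClassicalGeometry.SympSiegel MulAction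

variable {F : Type*} [Field F] [Fintype F] {m : ℕ}

local notation "V" => (Fin m ⊕ Fin m → F)
local notation "X" => Matrix.symplecticGroup (Fin m) F
local notation "f" => sympForm m F

theorem zero_or_one (hF : Fintype.card F = 2) (a : F) : a = 0 ∨ a = 1 := by
  classical
  by_contra h
  push Not at h
  have h1 : ({0, 1, a} : Finset F).card ≤ 2 := by
    rw [← hF]; exact Finset.card_le_univ _
  have h2 : ({0, 1, a} : Finset F).card = 3 := by
    rw [Finset.card_eq_three]
    exact ⟨0, 1, a, zero_ne_one, h.1.symm, h.2.symm, rfl⟩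
  omega

theorem two_zero (hF : Fintype.card F = 2) : (2 : F) = 0 := by
  have h := Nat.cast_card_eq_zero F
  rw [hF] at h
  exact_mod_cast h

theorem add_self (hF : Fintype.card F = 2) (v : V) : v + v = 0 := by
  rw [← two_smul F v, two_zero hF, zero_smul]

/-- Separation of two vectors. -/
theorem exists_sep (hF : Fintype.card F = 2) {u u' : V} (hu : u ≠ 0) (huu : u ≠ u') :
    ∃ x : V, f x u' = 0 ∧ f x u = 1 := by
  by_contra hcon
  push Not at hcon
  have h0 : ∀ x : V, f x u' = 0 → f x u = 0 := by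
    intro x hx
    rcases zero_or_one hF (f x u) with h | h
    · exact h
    · exact absurd h (hcon x hx)
  by_cases hex : ∃ x₀ : V, f x₀ u' = 1
  · obtain ⟨x₀, hx₀⟩ := hex
    have h1 : u = f x₀ u • u' := by
      apply eq_of_forall_sympForm_left
      intro x
      have h2 := h0 (x - f x u' • x₀) (by
        rw [sympForm_sub_left, sympForm_smul_left, hx₀, mul_one, sub_self])
      rw [sympForm_sub_left, sympForm_smul_left, sub_eq_zero] at h2
      rw [h2, sympForm_smul_right, mul_comm]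
    rcases zero_or_one hF (f x₀ u) with h | h
    · rw [h, zero_smul] at h1; exact hu h1
    · rw [h, one_smul] at h1; exact huu h1
  · push Not at hex
    apply hu
    apply eq_zero_of_forall_sympForm_left
    intro x
    apply h0
    rcases zero_or_one hF (f x u') with h | h
    · exact h
    · exact absurd h (hex x)

theorem exists_smul_eq_vec {v w : V} (hv : v ≠ 0) (hw : w ≠ 0) : ∃ g : X, g • v = w := by
  obtain ⟨A, -, hA⟩ := exists_transvGroup_mulVec_eq hv hw
  exact ⟨A, hA⟩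

/-- the transvection of `v` -/
local notation "τ" => fun v : V => transv v (1 : F)

theorem tau_conj (g : X) (v : V) : g * transv v (1 : F) * g⁻¹ = transv (g • v) 1 := conj_transv g v 1

theorem tau_smul (v x : V) : transv v (1 : F) • x = x + f x v • v := by rw [transv_smul, one_mul]

theorem tau_sq (hF : Fintype.card F = 2) (v : V) : transv v (1 : F) * transv v 1 = 1 := by
  rw [transv_mul, one_add_one_eq_two, two_zero hF, transv_zero]

theorem tau_inv (hF : Fintype.card F = 2) (v : V) : (transv v (1 : F))⁻¹ = transv v 1 :=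
  inv_eq_of_mul_eq_one_left (tau_sq hF v)

theorem tau_ne_one {v : V} (hv : v ≠ 0) : transv v (1 : F) ≠ 1 := by
  intro h
  apply hv
  apply eq_zero_of_forall_sympForm_left
  intro x
  have h1 : x + f x v • v = x := by rw [← tau_smul, h, one_smul]
  have h2 : f x v • v = 0 := by simpa using h1
  rcases smul_eq_zero.1 h2 with h3 | h3
  · exact h3
  · exact absurd h3 hv

/-- if `x` moves `v` and `y` commutes with `N ∋ x`, `N` normalised by the transvection of `v`, then `y • v` lies in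
`⟨v, x • v⟩` -/
theorem comm_aux (hF : Fintype.card F = 2) {N : Subgroup X} {v : V} (hv : v ≠ 0)
    (hd : ∀ x ∈ N, transv v (1 : F) * x * (transv v (1 : F))⁻¹ ∈ N) {x : X} (hx : x ∈ N) (hxv : x • v ≠ v) {y : X}
    (hy : ∀ z ∈ N, z * y = y * z) : ∃ α β : F, y • v = α • (x • v) + β • v := by
  set g : X := transv v (1 : F) * transv (x • v) 1 with hg
  have hgN : g ∈ N := by
    have h1 := N.mul_mem (hd x hx) (N.inv_mem hx)
    have h2 : transv v (1 : F) * x * (transv v (1 : F))⁻¹ * x⁻¹ = g := by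
      rw [tau_inv hF, hg, ← tau_conj]; group
    rwa [h2] at h1
  obtain ⟨z, hz1, hz2⟩ := exists_sep hF hv (Ne.symm hxv)
  have h1 : g • z = z + v := by
    rw [hg, mul_smul, tau_smul (x • v) z, hz1, zero_smul, add_zero, tau_smul, hz2, one_smul]
  have h2 : y • (g • z) = g • (y • z) := by rw [← mul_smul, ← hy g hgN, mul_smul]
  rw [h1, smul_add'] at h2
  set w := y • z with hw
  rw [hg, mul_smul, tau_smul, tau_smul] at h2
  refine ⟨f w (x • v), f (w + f w (x • v) • (x • v)) v, ?_⟩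
  rw [add_assoc] at h2
  exact add_left_cancel h2

/-- fixed vectors -/
def Fx (N : Subgroup X) : AddSubgroup V where
  carrier := {v | ∀ x ∈ N, x • v = v}
  zero_mem' := fun x _ => smul_zero' x
  add_mem' := fun {a b} ha hb x hx => by rw [smul_add', ha x hx, hb x hx]
  neg_mem' := fun {a} ha x hx => by rw [smul_neg', ha x hx]

theorem mem_Fx {N : Subgroup X} {v : V} : v ∈ Fx N ↔ ∀ x ∈ N, x • v = v := Iff.rfl

theorem Fx_ne_top {N : Subgroup X} (hN : N ≠ ⊥) : Fx N ≠ ⊤ := by
  intro h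
  apply hN
  rw [eq_bot_iff]
  intro x hx
  rw [Subgroup.mem_bot]
  apply ext_smul
  intro v
  have : v ∈ Fx N := by rw [h]; trivial
  rw [this x hx, one_smul]

theorem card_eq_pow (hF : Fintype.card F = 2) (W : AddSubgroup V) : ∃ i : ℕ, Nat.card W = 2 ^ i :=
  Cfsg.Agent.H175.Psl3Aff.exists_card_eq (A := W) (fun a => Subtype.ext (add_self hF a.1))

theorem one_or_four {W : AddSubgroup V} (hF : Fintype.card F = 2)
    (h2 : Nat.card W ≠ 2) : Nat.card W = 1 ∨ 4 ∣ Nat.card W := by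
  obtain ⟨i, hi⟩ := card_eq_pow hF W
  rcases i with _ | _ | i
  · left; rw [hi, pow_zero]
  · exact absurd (by rw [hi]; norm_num) h2
  · right; rw [hi]; exact ⟨2 ^ i, by ring⟩

section act

variable {Ω : Type*} [MulAction (Matrix.symplecticGroup (Fin m) F) Ω] [Finite Ω]

/-- the point stabilizer fixes no vector -/
theorem noFix (hF : Fintype.card F = 2) (hm : 3 ≤ m) [IsPretransitive X Ω]
    (hn : Nat.card Ω ≤ 2 ^ (m - 1) * (2 ^ m + 1)) (a : Ω) {h : V} (hh : h ≠ 0)
    (hfix : ∀ g ∈ stabilizer X a, g • h = h) : False := by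
  have h1 : stabilizer X a ≤ stabilizer X h := fun g hg => hfix g hg
  have h2 := Subgroup.index_antitone h1
  have h3 : (stabilizer X a).index = Nat.card Ω := by
    rw [index_stabilizer, orbit_eq_univ, Set.ncard_univ]
  have h4 : (stabilizer X h).index = 2 ^ (2 * m) - 1 := by
    rw [index_stabilizer]
    have h5 : (orbit X h : Set V) = {0}ᶜ := by
      ext v
      constructor
      · rintro ⟨g, rfl⟩ h0
        exact smul_ne_zero' g hh h0
      · intro hv
        obtain ⟨g, hg⟩ := exists_smul_eq_vec hh hv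
        exact ⟨g, hg⟩
    rw [h5, Set.ncard_compl, Set.ncard_singleton, Nat.card_fun, Nat.card_eq_fintype_card (α := F), hF,
      Nat.card_eq_fintype_card, Fintype.card_sum, Fintype.card_fin, two_mul]
  rw [h3, h4] at h2
  obtain ⟨j, rfl⟩ : ∃ j, m = j + 1 := ⟨m - 1, by omega⟩
  rw [Nat.add_sub_cancel] at hn
  have e1 : 2 ^ (2 * (j + 1)) = 4 * (2 ^ j * 2 ^ j) := by rw [← pow_add]; rw [show 2 * (j + 1) = j + j + 2 by ring, pow_add]; ring
  have e2 : 2 ^ (j + 1) = 2 * 2 ^ j := by rw [pow_succ]; ring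
  have e3 : 4 ≤ 2 ^ j := by
    calc 4 = 2 ^ 2 := rfl
      _ ≤ 2 ^ j := Nat.pow_le_pow_right (by norm_num) (by omega)
  rw [e1] at h2
  rw [e2] at hn
  set y := 2 ^ j
  have : y * (2 * y + 1) = 2 * (y * y) + y := by ring
  have : 4 * y ≤ y * y := Nat.mul_le_mul_right _ e3
  omega

/-- The map from the points `≠ a` to an invariant subgroup that contains a transvection vector moving `a`. -/
theorem card_le (two : ∀ a b c d : Ω, a ≠ b → c ≠ d → ∃ g : X, g • a = c ∧ g • b = d) {a : Ω} {W : AddSubgroup V}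
    (hW : ∀ g ∈ stabilizer X a, ∀ w ∈ W, g • w ∈ W) {v : V} (hv : v ∈ W) (hva : transv v (1 : F) • a ≠ a) :
    Nat.card Ω ≤ Nat.card W := by
  classical
  have h1 : ∀ b : Ω, ∃ w : V, w ∈ W ∧ (b ≠ a → transv w (1 : F) • a = b) ∧ (b = a → w = 0) := by
    intro b
    by_cases hb : b = a
    · exact ⟨0, W.zero_mem, fun h => absurd hb h, fun _ => rfl⟩
    · obtain ⟨g, hga, hgb⟩ := two a (transv v (1 : F) • a) a b hva.symm (Ne.symm hb)
      refine ⟨g • v, hW g hga v hv, fun _ => ?_, fun h => absurd h hb⟩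
      rw [← tau_conj, mul_smul, mul_smul, inv_smul_eq_iff.2 hga.symm, hgb]
  choose w hwW hw1 hw2 using h1
  refine Nat.card_le_card_of_injective (fun b => (⟨w b, hwW b⟩ : W)) ?_
  intro b c hbc
  have hbc' : w b = w c := congrArg Subtype.val hbc
  by_cases hb : b = a
  · by_cases hc : c = a
    · rw [hb, hc]
    · exfalso
      have h2 := hw1 c hc
      rw [← hbc', hw2 b hb, show transv (0 : V) (1 : F) = 1 from ext_smul fun x => by
        rw [tau_smul, smul_zero, add_zero, one_smul], one_smul] at h2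
      exact hc h2.symm
  · by_cases hc : c = a
    · exfalso
      have h2 := hw1 b hb
      rw [hbc', hw2 c hc, show transv (0 : V) (1 : F) = 1 from ext_smul fun x => by
        rw [tau_smul, smul_zero, add_zero, one_smul], one_smul] at h2
      exact hb h2.symm
    · rw [← hw1 b hb, ← hw1 c hc, hbc']

/-- the orthogonal complement of a subgroup contains a non-zero vector -/
theorem exists_perp (hF : Fintype.card F = 2) {W : AddSubgroup V} (hW : W ≠ ⊤) :
    ∃ h : V, h ≠ 0 ∧ ∀ w ∈ W, f h w = 0 := by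
  have hsm : ∀ (c : F) {x : V}, x ∈ W → c • x ∈ W := by
    intro c x hx
    rcases zero_or_one hF c with h | h
    · rw [h, zero_smul]; exact W.zero_mem
    · rw [h, one_smul]; exact hx
  let W' : Submodule F V := { W.toAddSubmonoid with smul_mem' := fun c _ hx => hsm c hx }
  have hW' : W' ≠ ⊤ := by
    intro h
    apply hW
    rw [eq_top_iff]
    intro x _
    have : x ∈ W' := by rw [h]; trivial
    exact this
  obtain ⟨φ, hφ0, hφ⟩ := Submodule.exists_le_ker_of_lt_top W' (lt_top_iff_ne_top.2 hW')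
  -- `φ` is `f h`
  have hnd : (sympBilin m F).SeparatingLeft := sympBilin_nondegenerate.1
  have hinj : Function.Injective (sympBilin m F) := LinearMap.separatingLeft_iff_ker_eq_bot.1 hnd |> LinearMap.ker_eq_bot.1
  have hsurj : Function.Surjective (sympBilin m F) := by
    have h1 : Module.finrank F V = Module.finrank F (V →ₗ[F] F) := Subspace.dual_finrank_eq.symm
    exact (LinearMap.injective_iff_surjective_of_finrank_eq_finrank h1).1 hinj
  obtain ⟨h, hh⟩ := hsurj φ
  refine ⟨h, ?_, ?_⟩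
  · rintro rfl
    apply hφ0
    rw [← hh, map_zero]
  · intro w hw
    have h1 : φ w = 0 := hφ hw
    rw [← hh] at h1
    exact h1

theorem card_perp (hF : Fintype.card F = 2) {h : V} (hh : h ≠ 0) :
    2 * Nat.card {w : V // f h w = 0} = 2 ^ (2 * m) := by
  have hV : Nat.card V = 2 ^ (2 * m) := by
    rw [Nat.card_fun, Nat.card_eq_fintype_card (α := F), hF, Nat.card_eq_fintype_card, Fintype.card_sum,
      Fintype.card_fin, two_mul]
  let φ : V →+ F := (sympBilin m F h).toAddMonoidHom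
  have hφ : Function.Surjective φ := by
    obtain ⟨v, hv⟩ := exists_form_eq_one hh
    intro c
    refine ⟨c • v, ?_⟩
    change f h (c • v) = c
    rw [sympForm_smul_right, hv, mul_one]
  have h1 := φ.ker.card_mul_index
  rw [AddSubgroup.index_ker, AddMonoidHom.range_eq_top.2 hφ, AddSubgroup.card_top, Nat.card_eq_fintype_card (α := F), hF,
    hV] at h1
  rw [mul_comm]
  exact h1

/-- an invariant subgroup that contains a moving vector is everything -/
theorem eq_top_of_mem (hF : Fintype.card F = 2) (hm : 3 ≤ m) [IsPretransitive X Ω]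
    (two : ∀ a b c d : Ω, a ≠ b → c ≠ d → ∃ g : X, g • a = c ∧ g • b = d)
    (hn : Nat.card Ω ≤ 2 ^ (m - 1) * (2 ^ m + 1)) (hn' : 2 ^ (m - 1) * (2 ^ m - 1) ≤ Nat.card Ω) {a : Ω}
    {W : AddSubgroup V}
    (hW : ∀ g ∈ stabilizer X a, ∀ w ∈ W, g • w ∈ W) {v : V} (hv : v ∈ W) (hva : transv v (1 : F) • a ≠ a) :
    W = ⊤ := by
  by_contra hWt
  obtain ⟨h, hh, hhW⟩ := exists_perp hF hWt
  have h1 := card_le two hW hv hva
  have h2 := card_perp hF hh
  let H : AddSubgroup V := (sympBilin m F h).toAddMonoidHom.ker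
  have hH : ∀ w, w ∈ H ↔ f h w = 0 := fun w => Iff.rfl
  have hWH : W ≤ H := fun w hw => hhW w hw
  have hHcard : 2 * Nat.card H = 2 ^ (2 * m) := h2
  obtain ⟨k, hk⟩ : Nat.card W ∣ Nat.card H := AddSubgroup.card_dvd_of_le hWH
  have hWeq : W = H := by
    apply AddSubgroup.eq_of_le_of_card_ge hWH
    by_contra hlt
    have hk2 : 2 ≤ k := by
      rcases k with _ | _ | k
      · rw [mul_zero] at hk
        have : 0 < Nat.card H := Nat.card_pos
        omega
      · rw [zero_add, mul_one] at hk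
        omega
      · omega
    have h3 : Nat.card W * 2 ≤ Nat.card H := by rw [hk]; exact Nat.mul_le_mul_left _ hk2
    obtain ⟨j, rfl⟩ : ∃ j, m = j + 1 := ⟨m - 1, by omega⟩
    rw [Nat.add_sub_cancel] at hn'
    have e1 : 2 ^ (2 * (j + 1)) = 4 * (2 ^ j * 2 ^ j) := by
      rw [show 2 * (j + 1) = j + j + 2 by ring, pow_add, pow_add]; ring
    have e2 : 2 ^ (j + 1) = 2 * 2 ^ j := by rw [pow_succ]; ring
    have e3 : 4 ≤ 2 ^ j := by
      calc 4 = 2 ^ 2 := rfl
        _ ≤ 2 ^ j := Nat.pow_le_pow_right (by norm_num) (by omega)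
    rw [e1] at hHcard
    rw [e2, Nat.mul_sub, mul_one] at hn'
    set y := 2 ^ j
    have e4 : y * (2 * y) = 2 * (y * y) := by ring
    have e5 : 4 * y ≤ y * y := Nat.mul_le_mul_right _ e3
    rw [e4] at hn'
    omega
  -- the stabilizer fixes `h`
  refine noFix hF hm hn a hh ?_
  intro g hg
  by_contra hne
  obtain ⟨x, hx1, hx2⟩ := exists_sep hF (smul_ne_zero' g hh) hne
  have hxW : x ∈ W := by
    rw [hWeq, hH, sympForm_swap, hx1, neg_zero]
  have h3 := hhW _ (hW g⁻¹ ((stabilizer X a).inv_mem hg) x hxW)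
  rw [← form_smul g, smul_inv_smul, sympForm_swap, hx2] at h3
  exact one_ne_zero (neg_eq_zero.1 h3)

theorem card_V (hF : Fintype.card F = 2) : Nat.card V = 2 ^ (2 * m) := by
  rw [Nat.card_fun, Nat.card_eq_fintype_card (α := F), hF, Nat.card_eq_fintype_card, Fintype.card_sum,
    Fintype.card_fin, two_mul]

theorem tau_zero : transv (0 : V) (1 : F) = 1 := ext_smul fun x => by
  rw [tau_smul, smul_zero, add_zero, one_smul]

/-- the number of the transvection vectors moving `a` -/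
theorem card_moved (hF : Fintype.card F = 2) (hm : 3 ≤ m) [FaithfulSMul X Ω] [IsPretransitive X Ω]
    (two : ∀ a b c d : Ω, a ≠ b → c ≠ d → ∃ g : X, g • a = c ∧ g • b = d)
    (hn' : 2 ^ (m - 1) * (2 ^ m - 1) ≤ Nat.card Ω) (a : Ω) :
    ∃ k, (k = 1 ∨ k = 2) ∧ Nat.card {v : V // transv v (1 : F) • a ≠ a} = k * (Nat.card Ω - 1) := by
  classical
  have : Fintype Ω := Fintype.ofFinite Ω
  obtain ⟨j, rfl⟩ : ∃ j, m = j + 1 := ⟨m - 1, by omega⟩
  rw [Nat.add_sub_cancel] at hn'
  have e1 : 2 ^ (2 * (j + 1)) = 4 * (2 ^ j * 2 ^ j) := by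
    rw [show 2 * (j + 1) = j + j + 2 by ring, pow_add, pow_add]; ring
  have e2 : 2 ^ (j + 1) = 2 * 2 ^ j := by rw [pow_succ]; ring
  have e3 : 4 ≤ 2 ^ j := by
    calc 4 = 2 ^ 2 := rfl
      _ ≤ 2 ^ j := Nat.pow_le_pow_right (by norm_num) (by omega)
  have e4 : 2 ^ j * (2 * 2 ^ j) = 2 * (2 ^ j * 2 ^ j) := by ring
  have e5 : 4 * 2 ^ j ≤ 2 ^ j * 2 ^ j := Nat.mul_le_mul_right _ e3
  rw [e2, Nat.mul_sub, mul_one, e4] at hn'
  obtain ⟨b₀, hb₀⟩ : ∃ b₀ : Ω, b₀ ≠ a := by
    by_contra hcon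
    push Not at hcon
    have : Nat.card Ω ≤ 1 := by
      rw [Finite.card_le_one_iff_subsingleton]
      exact ⟨fun x y => by rw [hcon x, hcon y]⟩
    omega
  set k := Nat.card {v : Fin (j + 1) ⊕ Fin (j + 1) → F // transv v (1 : F) • a = b₀} with hk
  have hk' : ∀ b : Ω, b ≠ a → Nat.card {v : Fin (j + 1) ⊕ Fin (j + 1) → F // transv v (1 : F) • a = b} = k := by
    intro b hb
    obtain ⟨g, hga, hgb⟩ := two a b a b₀ hb.symm hb₀.symm
    refine Nat.card_congr ⟨fun v => ⟨g • v.1, ?_⟩, fun v => ⟨g⁻¹ • v.1, ?_⟩, fun v => ?_, fun v => ?_⟩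
    · rw [← tau_conj, mul_smul, mul_smul, inv_smul_eq_iff.2 hga.symm, v.2, hgb]
    · rw [← tau_conj, mul_smul, mul_smul, inv_inv, hga, v.2, inv_smul_eq_iff, hgb]
    · exact Subtype.ext (inv_smul_smul g _)
    · exact Subtype.ext (smul_inv_smul g _)
  have hsum : Nat.card {v : Fin (j + 1) ⊕ Fin (j + 1) → F // transv v (1 : F) • a ≠ a} = k * (Nat.card Ω - 1) := by
    have h1 : Nat.card {v : Fin (j + 1) ⊕ Fin (j + 1) → F // transv v (1 : F) • a ≠ a} =
        Nat.card (Σ b : {b : Ω // b ≠ a}, {v : Fin (j + 1) ⊕ Fin (j + 1) → F // transv v (1 : F) • a = b}) := by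
      refine Nat.card_congr ⟨fun v => ⟨⟨_, v.2⟩, ⟨v.1, rfl⟩⟩, fun x => ⟨x.2.1, ?_⟩, fun v => rfl, ?_⟩
      · rw [x.2.2]; exact x.1.2
      · rintro ⟨⟨b, hb⟩, ⟨v, hv⟩⟩
        have hv' : transv v (1 : F) • a = b := hv
        subst hv'
        rfl
    rw [h1, Nat.card_sigma, Finset.sum_congr rfl (fun b _ => hk' b.1 b.2), Finset.sum_const, Finset.card_univ,
      smul_eq_mul, mul_comm]
    congr 1
    rw [Fintype.card_subtype_compl, Fintype.card_subtype_eq, Nat.card_eq_fintype_card]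
  refine ⟨k, ?_, hsum⟩
  have hk0 : k ≠ 0 := by
    intro h0
    rw [h0, zero_mul, Finite.card_eq_zero_iff] at hsum
    have h1 : ∀ v : Fin (j + 1) ⊕ Fin (j + 1) → F, transv v (1 : F) • a = a := by
      intro v
      by_contra hne
      exact hsum.false ⟨v, hne⟩
    have h2 : (fun _ => 1 : Fin (j + 1) ⊕ Fin (j + 1) → F) ≠ 0 := by
      intro h
      exact one_ne_zero (congrFun h (Sum.inl 0))
    apply tau_ne_one h2
    apply FaithfulSMul.eq_of_smul_eq_smul (α := Ω)
    intro b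
    obtain ⟨g, hg⟩ := IsPretransitive.exists_smul_eq (M := Matrix.symplecticGroup (Fin (j + 1)) F) a b
    rw [← hg]
    have h3 := h1 (g⁻¹ • (fun _ => 1 : Fin (j + 1) ⊕ Fin (j + 1) → F))
    rw [← tau_conj, mul_smul, mul_smul, inv_inv, inv_smul_eq_iff] at h3
    rw [h3, one_smul]
  have hk3 : k < 3 := by
    by_contra hge
    have h1 : 3 * (Nat.card Ω - 1) ≤ k * (Nat.card Ω - 1) := Nat.mul_le_mul_right _ (by omega)
    rw [← hsum] at h1
    have h2 : Nat.card {v : Fin (j + 1) ⊕ Fin (j + 1) → F // transv v (1 : F) • a ≠ a} ≤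
        Nat.card (Fin (j + 1) ⊕ Fin (j + 1) → F) := Nat.card_le_card_of_injective _ Subtype.val_injective
    rw [card_V hF, e1] at h2
    omega
  omega

theorem arith {k n A B D U Y : ℕ} (hk : k = 1 ∨ k = 2) (hn4 : 4 ∣ n) (hlt : n < Y) (hpos : 4 ≤ n) (hY : 4 ∣ Y)
    (hA : A = 1 ∨ 4 ∣ A) (hB : B = 1 ∨ 4 ∣ B) (hD : D = 1 ∨ 4 ∣ D) (hDA : D ≤ A) (hDB : D ≤ B) (hDpos : 0 < D)
    (h6 : U + k * (n - 1) = Y) (h7 : U + D = A + B) : False := by
  rcases hk with rfl | rfl <;> rcases hD with h | h <;> rcases hA with h' | h' <;> rcases hB with h'' | h'' <;> omega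

/-- **The centralizer of a simple normal subgroup of the point stabilizer.** -/
theorem cent_eq_bot (hF : Fintype.card F = 2) (hm : 3 ≤ m) [FaithfulSMul X Ω]
    (two : ∀ a b c d : Ω, a ≠ b → c ≠ d → ∃ g : X, g • a = c ∧ g • b = d)
    (hn : Nat.card Ω = 2 ^ (m - 1) * (2 ^ m + 1) ∨ Nat.card Ω = 2 ^ (m - 1) * (2 ^ m - 1)) (a : Ω)
    (N C : Subgroup X) (hNS : N ≤ stabilizer X a) (hCS : C ≤ stabilizer X a)
    (hNn : ∀ g ∈ stabilizer X a, ∀ x ∈ N, g * x * g⁻¹ ∈ N) (hCn : ∀ g ∈ stabilizer X a, ∀ x ∈ C, g * x * g⁻¹ ∈ C)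
    (hNC : ∀ x ∈ N, ∀ y ∈ C, x * y = y * x) (hN1 : N ≠ ⊥)
    (h4 : ∀ v : V, Nat.card (orbit N v) ≠ 1 → 4 < Nat.card (orbit N v)) : C = ⊥ := by
  classical
  by_contra hC1
  have hle : Nat.card Ω ≤ 2 ^ (m - 1) * (2 ^ m + 1) := by
    rcases hn with h | h <;> rw [h]
    exact Nat.mul_le_mul_left _ ((Nat.sub_le _ _).trans (Nat.le_add_right _ _))
  have hge : 2 ^ (m - 1) * (2 ^ m - 1) ≤ Nat.card Ω := by
    rcases hn with h | h <;> rw [h]
    exact Nat.mul_le_mul_left _ ((Nat.sub_le _ _).trans (Nat.le_add_right _ _))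
  have hpt : IsPretransitive X Ω := by
    refine ⟨fun x y => ?_⟩
    by_cases hxy : x = y
    · exact ⟨1, by rw [one_smul, hxy]⟩
    · obtain ⟨g, hg, -⟩ := two x y y x hxy (Ne.symm hxy)
      exact ⟨g, hg⟩
  have hinv : ∀ M : Subgroup X, (∀ g ∈ stabilizer X a, ∀ x ∈ M, g * x * g⁻¹ ∈ M) →
      ∀ g ∈ stabilizer X a, ∀ w ∈ Fx M, g • w ∈ Fx M := by
    intro M hM g hg w hw x hx
    have h1 := hM g⁻¹ ((stabilizer X a).inv_mem hg) x hx
    rw [inv_inv] at h1
    have h2 := hw _ h1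
    rw [mul_smul, mul_smul, inv_smul_eq_iff] at h2
    exact h2
  set WN := Fx N with hWN
  set WC := Fx C with hWC
  have hiN := hinv N hNn
  have hiC := hinv C hCn
  -- no moving vector in `WN`, `WC`
  have hmN : ∀ v ∈ WN, transv v (1 : F) • a = a := by
    intro v hv
    by_contra hne
    exact Fx_ne_top hN1 (eq_top_of_mem hF hm two hle hge hiN hv hne)
  have hmC : ∀ v ∈ WC, transv v (1 : F) • a = a := by
    intro v hv
    by_contra hne
    exact Fx_ne_top hC1 (eq_top_of_mem hF hm two hle hge hiC hv hne)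
  -- fixed transvections
  have hfix : ∀ v : V, transv v (1 : F) • a = a → v ∈ WN ∨ v ∈ WC := by
    intro v hva
    by_contra hcon
    push Not at hcon
    obtain ⟨h1, h2⟩ := hcon
    rw [hWN, mem_Fx] at h1
    rw [hWC, mem_Fx] at h2
    push Not at h1 h2
    obtain ⟨x, hx, hxv⟩ := h1
    obtain ⟨y, hy, hyv⟩ := h2
    have hv0 : v ≠ 0 := by
      rintro rfl
      exact hxv (smul_zero' x)
    -- the orbit of `v` under `N`
    have key : ∀ z ∈ N, ∃ α β : F, z • v = α • (y • v) + β • v := by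
      intro z hz
      exact comm_aux hF (N := C) hv0 (fun w hw => hCn _ hva w hw) hy hyv (fun w hw => (hNC z hz w hw).symm)
    have h5 := h4 v (by
      intro h6
      rw [Nat.card_eq_one_iff_unique] at h6
      have := h6.1
      have h7 := Subsingleton.elim (⟨x • v, ⟨x, hx⟩, rfl⟩ : orbit N v) ⟨v, mem_orbit_self v⟩
      exact hxv (congrArg Subtype.val h7))
    have h6 : (orbit N v : Set V) ⊆ Set.range (fun p : F × F => p.1 • (y • v) + p.2 • v) := by
      rintro _ ⟨z, rfl⟩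
      obtain ⟨α, β, h⟩ := key z z.2
      exact ⟨(α, β), h.symm⟩
    have h7 := Set.ncard_le_ncard h6 (Set.toFinite _)
    have h8 : (Set.range (fun p : F × F => p.1 • (y • v) + p.2 • v)).ncard ≤ 4 := by
      rw [← Set.image_univ]
      refine (Set.ncard_image_le (Set.toFinite _)).trans ?_
      rw [Set.ncard_univ, Nat.card_prod, Nat.card_eq_fintype_card, hF]
    rw [Nat.card_coe_set_eq] at h5
    omega
  -- numbers
  obtain ⟨k, hk, hcard⟩ := card_moved hF hm two hge a
  have hset : {v : V | transv v (1 : F) • a ≠ a} = ((WN : Set V) ∪ (WC : Set V))ᶜ := by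
    ext v
    constructor
    · intro hv hv'
      rcases hv' with h | h
      · exact hv (hmN v h)
      · exact hv (hmC v h)
    · intro hv hva
      exact hv (hfix v hva)
  have h5 : Nat.card {v : V // transv v (1 : F) • a ≠ a} = ((WN : Set V) ∪ (WC : Set V))ᶜ.ncard := by
    rw [← hset]; rfl
  rw [hcard] at h5
  have h6 := Set.ncard_add_ncard_compl ((WN : Set V) ∪ (WC : Set V))
  rw [← h5, card_V hF] at h6
  have h7 := Set.ncard_union_add_ncard_inter (WN : Set V) (WC : Set V)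
  have hD : ((WN : Set V) ∩ (WC : Set V)) = ((WN ⊓ WC : AddSubgroup V) : Set V) := rfl
  rw [hD] at h7
  have c1 : ∀ W : AddSubgroup V, (W : Set V).ncard = Nat.card W := fun W => rfl
  rw [c1, c1, c1] at h7
  -- no invariant subgroup of order two
  have hno2 : ∀ W : AddSubgroup V, (∀ g ∈ stabilizer X a, ∀ w ∈ W, g • w ∈ W) → Nat.card W ≠ 2 := by
    intro W hW h2
    obtain ⟨x, y, hxy, hu⟩ := Nat.card_eq_two_iff.1 h2
    obtain ⟨h, hh⟩ : ∃ h : W, h ≠ 0 := by
      by_cases hx : x = 0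
      · exact ⟨y, fun hy => hxy (hx.trans hy.symm)⟩
      · exact ⟨x, hx⟩
    have hall : ∀ w : W, w = 0 ∨ w = h := by
      intro w
      by_contra hcon
      push Not at hcon
      have h3 : ({0, h, w} : Set W).ncard = 3 := Set.ncard_eq_three.2 ⟨0, h, w, hh.symm, hcon.1.symm, hcon.2.symm, rfl⟩
      have h4 := Set.ncard_le_ncard (Set.subset_univ ({0, h, w} : Set W)) (Set.toFinite _)
      rw [h3, Set.ncard_univ, h2] at h4
      omega
    have hh' : (h : V) ≠ 0 := fun h0 => hh (Subtype.ext h0)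
    refine noFix hF hm hle a hh' ?_
    intro g hg
    rcases hall ⟨_, hW g hg h h.2⟩ with h3 | h3
    · exact absurd (congrArg Subtype.val h3) (smul_ne_zero' g hh')
    · exact congrArg Subtype.val h3
  have hiD : ∀ g ∈ stabilizer X a, ∀ w ∈ (WN ⊓ WC : AddSubgroup V), g • w ∈ (WN ⊓ WC : AddSubgroup V) :=
    fun g hg w hw => ⟨hiN g hg w hw.1, hiC g hg w hw.2⟩
  have hA := one_or_four hF (hno2 WN hiN)
  have hB := one_or_four hF (hno2 WC hiC)
  have hDD := one_or_four hF (hno2 _ hiD)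
  have hDA : Nat.card (WN ⊓ WC : AddSubgroup V) ≤ Nat.card WN :=
    Nat.le_of_dvd Nat.card_pos (AddSubgroup.card_dvd_of_le inf_le_left)
  have hDB : Nat.card (WN ⊓ WC : AddSubgroup V) ≤ Nat.card WC :=
    Nat.le_of_dvd Nat.card_pos (AddSubgroup.card_dvd_of_le inf_le_right)
  have hDpos : 0 < Nat.card (WN ⊓ WC : AddSubgroup V) := Nat.card_pos
  -- `|Ω|`
  obtain ⟨j, rfl⟩ : ∃ j, m = j + 3 := ⟨m - 3, by omega⟩
  have e1 : 2 ^ (2 * (j + 3)) = 64 * (2 ^ j * 2 ^ j) := by
    rw [show 2 * (j + 3) = j + j + 6 by ring, pow_add, pow_add]; ring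
  have e2 : 2 ^ (j + 3) = 8 * 2 ^ j := by rw [pow_add]; ring
  have e3 : 2 ^ (j + 3 - 1) = 4 * 2 ^ j := by rw [show j + 3 - 1 = j + 2 by omega, pow_add]; ring
  have e0 : 1 ≤ 2 ^ j := Nat.one_le_two_pow
  rw [e2, e3] at hn
  rw [e1] at h6
  set y := 2 ^ j
  have hyy : y ≤ y * y := Nat.le_mul_of_pos_left y e0
  have hn4 : 4 ∣ Nat.card Ω := by
    rcases hn with h | h <;> rw [h, mul_assoc] <;> exact dvd_mul_right _ _
  have hlt : Nat.card Ω < 64 * (y * y) := by
    have h9 : 4 * y * (8 * y + 1) = 32 * (y * y) + 4 * y := by ring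
    have h10 : 4 * y * (8 * y - 1) ≤ 4 * y * (8 * y + 1) := Nat.mul_le_mul_left _ (by omega)
    rcases hn with h | h <;> rw [h] <;> omega
  have hpos : 4 ≤ Nat.card Ω := by
    have h11 : 0 < Nat.card Ω := by
      have : Nonempty Ω := ⟨a⟩
      exact Nat.card_pos
    exact Nat.le_of_dvd h11 hn4
  have hYdiv : 4 ∣ 64 * (y * y) := ⟨16 * (y * y), by ring⟩
  exact arith hk hn4 hlt hpos hYdiv hA hB hDD hDA hDB hDpos h6 h7

end act

end Cfsg.Agent.H175.SpStab
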