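import Cfsg.Agent.H175.TTPsl3Ctx
import Cfsg.Agent.H175.SpStab
import Cfsg.Agent.H499.TTSp
import Cfsg.Agent.OddHalf.Orders.PSpFi23
import Cfsg.Agent.ClassicalGeometry.Sp4GraphAut

/-!
# S3727, the row `Sp_{2m}(2)` (helper175)
-/

set_option autoImplicit false

namespace Cfsg.Agent.H175.TTPsl3AS

open MulAction Cfsg.Agent.H384.TwoTrans

universe u v

theorem m_eq {m k : ℕ} (hm : 3 ≤ m) (hk : k < m) (h : 2 ^ (m ^ 2 - (m - 1)) ≤ 2 * k * 2 ^ (3 * k)) : m = 3 := by
  by_contra hne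
  have h1 : k < 2 ^ (m - 1) := lt_of_le_of_lt (by omega : k ≤ m - 1) Nat.lt_two_pow_self
  have h2 : 2 ^ (3 * k) ≤ 2 ^ (3 * (m - 1)) := Nat.pow_le_pow_right (by norm_num) (by omega)
  have h3 : 2 * k * 2 ^ (3 * k) < 2 * 2 ^ (m - 1) * 2 ^ (3 * (m - 1)) := by
    calc 2 * k * 2 ^ (3 * k) ≤ 2 * k * 2 ^ (3 * (m - 1)) := Nat.mul_le_mul_left _ h2
      _ < 2 * 2 ^ (m - 1) * 2 ^ (3 * (m - 1)) := Nat.mul_lt_mul_of_pos_right (by omega) (by positivity)
  have h4 : 2 * 2 ^ (m - 1) * 2 ^ (3 * (m - 1)) = 2 ^ (4 * (m - 1) + 1) := by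
    rw [← pow_succ', ← pow_add]; congr 1; omega
  rw [h4] at h3
  have h5 : 2 ^ (4 * (m - 1) + 1) ≤ 2 ^ (m ^ 2 - (m - 1)) := by
    apply Nat.pow_le_pow_right (by norm_num)
    obtain ⟨j, rfl⟩ : ∃ j, m = j + 4 := ⟨m - 4, by omega⟩
    have h6 : (j + 4) ^ 2 = j * j + 8 * j + 16 := by ring
    rw [h6]
    have := Nat.zero_le (j * j)
    omega
  omega

variable {G : Type u} {Ω : Type v} [Group G] [MulAction G Ω] {T : Subgroup G} {a : Ω} {N : Subgroup G}
  {F : Type} [Field F] [Fintype F] {k : ℕ}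

/-- `PSp_{2m}(2) = Sp_{2m}(2)` -/
theorem exists_iso_sp {F' : Type} [Field F'] [Fintype F'] {m : ℕ} (hF' : Fintype.card F' = 2) (hm : 1 ≤ m) :
    Nonempty (Matrix.symplecticGroup (Fin m) F' ≃* Cfsg.PSp m F') := by
  have hch : CharP F' 2 := by
    obtain ⟨p, hp⟩ := CharP.exists F'
    obtain ⟨n, hpp, hn⟩ := FiniteField.card F' p
    have h1 : p ∣ 2 := by rw [← hF', hn]; exact dvd_pow_self p n.ne_zero
    have h2 : p = 2 := (Nat.prime_dvd_prime_iff_eq hpp Nat.prime_two).1 h1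
    subst h2
    exact hp
  refine ⟨MulEquiv.ofBijective (QuotientGroup.mk' (Subgroup.center (Matrix.symplecticGroup (Fin m) F'))) ⟨?_, ?_⟩⟩
  · intro x y hxy
    exact Cfsg.Agent.ClassicalGeometry.Sp4GraphAut.mk_injective hm hxy
  · exact QuotientGroup.mk'_surjective _

theorem Ctx.cen_eq_bot_sp (C : Ctx G Ω T a N F k) {F' : Type} [Field F'] [Fintype F'] {m : ℕ}
    (hF' : Fintype.card F' = 2) (hm : 3 ≤ m) (e : T ≃* Cfsg.PSp m F')
    (hn : Nat.card Ω = 2 ^ (m - 1) * (2 ^ m + 1) ∨ Nat.card Ω = 2 ^ (m - 1) * (2 ^ m - 1)) : cen T a N = ⊥ := by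
  have := C.A.finG
  have := C.A.finΩ
  have := C.A.faithful
  have hT : T = ⊤ := Cfsg.Agent.H499.TT.sp_index C.A hF' hm e
  obtain ⟨e0⟩ := exists_iso_sp (F' := F') hF' (m := m) (by omega)
  let E : T ≃* Matrix.symplecticGroup (Fin m) F' := e.trans e0.symm
  letI : MulAction (Matrix.symplecticGroup (Fin m) F') Ω := MulAction.compHom Ω (E.symm.toMonoidHom)
  have hsm : ∀ (x : Matrix.symplecticGroup (Fin m) F') (b : Ω), x • b = (E.symm x : T) • b := fun _ _ => rfl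
  have hf : FaithfulSMul (Matrix.symplecticGroup (Fin m) F') Ω := by
    refine ⟨fun {x y} h => ?_⟩
    apply E.symm.injective
    apply Subtype.ext
    apply FaithfulSMul.eq_of_smul_eq_smul (α := Ω)
    intro b
    exact h b
  have two : ∀ a b c d : Ω, a ≠ b → c ≠ d → ∃ g : Matrix.symplecticGroup (Fin m) F', g • a = c ∧ g • b = d := by
    intro a b c d hab hcd
    obtain ⟨g, h1, h2⟩ := C.A.two' a b c d hab hcd
    have hg : g ∈ T := by rw [hT]; trivial
    refine ⟨E ⟨g, hg⟩, ?_, ?_⟩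
    · rw [hsm, E.symm_apply_apply]; exact h1
    · rw [hsm, E.symm_apply_apply]; exact h2
  have hstab : ∀ x : Matrix.symplecticGroup (Fin m) F',
      x ∈ stabilizer (Matrix.symplecticGroup (Fin m) F') a ↔ E.symm x ∈ stabilizer T a := fun x => Iff.rfl
  have hmap : ∀ (K : Subgroup T) (x : Matrix.symplecticGroup (Fin m) F'),
      x ∈ K.map E.toMonoidHom ↔ E.symm x ∈ K := by
    intro K x
    constructor
    · rintro ⟨y, hy, rfl⟩
      change E.symm (E y) ∈ K
      rwa [E.symm_apply_apply]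
    · intro hx
      exact ⟨E.symm x, hx, E.apply_symm_apply x⟩
  have hs := C.simple'
  obtain ⟨eN⟩ := C.iso'
  let φ : N.subgroupOf T ≃* (N.subgroupOf T).map E.toMonoidHom :=
    (N.subgroupOf T).equivMapOfInjective E.toMonoidHom E.injective
  have hs' : IsSimpleGroup ((N.subgroupOf T).map E.toMonoidHom) := φ.symm.isSimpleGroup
  have h7 : 7 ∣ Nat.card ((N.subgroupOf T).map E.toMonoidHom) := by
    rw [← Nat.card_congr φ.toEquiv]
    exact seven_dvd C.hk C.hF eN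
  have key := Cfsg.Agent.H175.SpStab.cent_eq_bot hF' hm two hn a ((N.subgroupOf T).map E.toMonoidHom)
    ((cen T a N).map E.toMonoidHom) ?_ ?_ ?_ ?_ ?_ ?_ ?_
  · rw [eq_bot_iff]
    intro g hg
    have h1 : E g ∈ (cen T a N).map E.toMonoidHom := ⟨g, hg, rfl⟩
    rw [key, Subgroup.mem_bot, E.map_eq_one_iff] at h1
    exact h1
  · intro x hx
    rw [hmap] at hx
    exact C.le' hx
  · intro x hx
    rw [hmap] at hx
    exact hx.1
  · intro g hg x hx
    rw [hmap] at hx ⊢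
    rw [hstab] at hg
    rw [map_mul, map_mul, map_inv]
    exact C.nrm' _ hg _ hx
  · intro g hg x hx
    rw [hmap] at hx ⊢
    rw [hstab] at hg
    rw [map_mul, map_mul, map_inv]
    refine ⟨mul_mem (mul_mem hg hx.1) (inv_mem hg), ?_⟩
    intro y hy
    have h1 := C.nrm _ ((stabilizer G a).inv_mem (show ((E.symm g : T) : G) ∈ stabilizer G a from hg)) y hy
    rw [inv_inv] at h1
    have h2 := hx.2 _ h1
    rw [Subgroup.coe_mul, Subgroup.coe_mul, Subgroup.coe_inv]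
    have h3 : ((E.symm g : T) : G) * (E.symm x : T) * ((E.symm g : T) : G)⁻¹ * y =
        ((E.symm g : T) : G) * ((E.symm x : T) * (((E.symm g : T) : G)⁻¹ * y * (E.symm g : T))) *
          ((E.symm g : T) : G)⁻¹ := by group
    rw [h3, h2]
    group
  · intro x hx y hy
    rw [hmap] at hx hy
    apply E.symm.injective
    rw [map_mul, map_mul]
    apply Subtype.ext
    exact (hy.2 _ hx).symm
  · intro h
    have : Nontrivial ((N.subgroupOf T).map E.toMonoidHom) := inferInstance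
    rw [Subgroup.nontrivial_iff_ne_bot] at this
    exact this h
  · intro v hv
    have := seven_le h7 v hv
    omega

theorem Ctx.row_sp (C : Ctx G Ω T a N F k) {F' : Type} [Field F'] [Fintype F'] {m : ℕ}
    (hF' : Fintype.card F' = 2) (hm : 3 ≤ m) (e : T ≃* Cfsg.PSp m F')
    (hn : Nat.card Ω = 2 ^ (m - 1) * (2 ^ m + 1) ∨ Nat.card Ω = 2 ^ (m - 1) * (2 ^ m - 1)) : False := by
  have h1 := C.card_dvd_of_cen (C.cen_eq_bot_sp hF' hm e hn)
  have h2 := C.A.card_mul a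
  have h3 : Nat.card T = Cfsg.Agent.OddHalf.Orders.sp m 2 := by
    have h := Cfsg.Agent.OddHalf.Orders.card_psp (F := F') m (by omega)
    rw [hF'] at h
    have h' : Cfsg.Agent.OddHalf.Orders.spDen 2 = 1 := rfl
    rw [h', one_mul] at h
    rw [Nat.card_congr e.toEquiv, h]
  have h4 := C.dvd
  have hk := C.hk
  -- `k < m`
  have hn0 : 0 < Nat.card Ω - 1 := by have := C.A.five_le; omega
  have h5 := Nat.le_of_dvd hn0 h4
  have hkm : k < m := by
    by_contra hcon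
    have h6 : 2 ^ m ≤ 2 ^ k := Nat.pow_le_pow_right (by norm_num) (by omega)
    have h7 : 2 ^ (m - 1) ≤ 2 ^ m := Nat.pow_le_pow_right (by norm_num) (by omega)
    have h8 : Nat.card Ω ≤ 2 ^ m * (2 ^ m + 1) := by
      rcases hn with h | h <;> rw [h]
      · exact Nat.mul_le_mul_right _ h7
      · exact Nat.mul_le_mul h7 ((Nat.sub_le _ _).trans (Nat.le_add_right _ _))
    have h9 : 2 ^ m * (2 ^ m + 1) ≤ (2 ^ k) ^ 2 + 2 ^ k := by
      calc 2 ^ m * (2 ^ m + 1) ≤ 2 ^ k * (2 ^ k + 1) := Nat.mul_le_mul h6 (by omega)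
        _ = (2 ^ k) ^ 2 + 2 ^ k := by ring
    omega
  have hodd1 : ∀ j, 1 ≤ j → Odd (2 ^ j - 1) := fun j hj => by
    rw [Nat.odd_sub' Nat.one_le_two_pow]
    exact ⟨fun _ => by rw [Nat.even_pow]; exact ⟨even_two, by omega⟩, fun _ => odd_one⟩
  have hle : 2 ^ (m ^ 2 - (m - 1)) ≤ 2 * k * 2 ^ (3 * k) := by
    -- the 2-part of the order of the stabilizer
    have hodd : ∃ u, Odd u ∧ Nat.card Ω = 2 ^ (m - 1) * u := by
      rcases hn with h | h
      · exact ⟨2 ^ m + 1, by rw [Nat.odd_add_one, Nat.not_odd_iff_even, Nat.even_pow]; exact ⟨even_two, by omega⟩, h⟩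
      · exact ⟨2 ^ m - 1, hodd1 m (by omega), h⟩
    obtain ⟨u, hu, hnu⟩ := hodd
    have h6 : 2 ^ (m ^ 2) ∣ 2 ^ (m - 1) * (u * Nat.card (stabilizer T a)) := by
      rw [← mul_assoc, ← hnu, h2, h3]
      unfold Cfsg.Agent.OddHalf.Orders.sp
      exact dvd_mul_right _ _
    have h7 : m ^ 2 = (m - 1) + (m ^ 2 - (m - 1)) := by
      have : m ≤ m ^ 2 := Nat.le_self_pow (by norm_num) m
      omega
    rw [h7, pow_add] at h6
    have h8 := Nat.dvd_of_mul_dvd_mul_left (by positivity) h6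
    have h9 : 2 ^ (m ^ 2 - (m - 1)) ∣ Nat.card (stabilizer T a) :=
      Nat.Coprime.dvd_of_dvd_mul_left (Nat.Coprime.pow_left _ (Nat.coprime_two_left.2 hu)) h8
    have h10 := h9.trans h1
    have hc1 : Nat.Coprime (2 ^ (m ^ 2 - (m - 1))) ((2 ^ k) ^ 2 - 1) :=
      Nat.Coprime.pow_left _ (Nat.coprime_two_left.2 (by rw [← pow_mul]; exact hodd1 _ (by omega)))
    have hc2 : Nat.Coprime (2 ^ (m ^ 2 - (m - 1))) ((2 ^ k) ^ 3 - 1) :=
      Nat.Coprime.pow_left _ (Nat.coprime_two_left.2 (by rw [← pow_mul]; exact hodd1 _ (by omega)))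
    have h11 : 2 * k * (2 ^ (3 * k) * ((2 ^ k) ^ 2 - 1) * ((2 ^ k) ^ 3 - 1)) =
        2 * k * 2 ^ (3 * k) * ((2 ^ k) ^ 2 - 1) * ((2 ^ k) ^ 3 - 1) := by ring
    rw [h11] at h10
    have h12 := hc1.dvd_of_dvd_mul_right (hc2.dvd_of_dvd_mul_right h10)
    exact Nat.le_of_dvd (by positivity) h12
  have hm3 := m_eq hm hkm hle
  subst hm3
  norm_num at hn
  have hk2 : k = 1 ∨ k = 2 := by omega
  have hsp : Cfsg.Agent.OddHalf.Orders.sp 3 2 = 1451520 := by decide
  rw [hsp] at h3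
  rcases hk2 with rfl | rfl
  · rcases hn with h | h
    · have h6 : Nat.card (stabilizer T a) = 40320 := by rw [h, h3] at h2; omega
      rw [h6] at h1
      norm_num at h1
    · rw [h] at h4
      norm_num at h4
  · rcases hn with h | h
    · rw [h] at h4
      norm_num at h4
    · rw [h] at h4
      norm_num at h4

end Cfsg.Agent.H175.TTPsl3AS
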