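import Cfsg.Agent.H175.TTPsl3Rows
import Cfsg.Agent.H175.TTPsl3Sp
import Cfsg.Agent.H499.TTSpor
import Cfsg.Agent.H499.TTSmall

/-!
# S3727, the almost simple case (helper175)
-/

set_option autoImplicit false

namespace Cfsg.Agent.H175.TTPsl3AS

open MulAction Cfsg.Agent.H384.TwoTrans

universe u v

section HS

open Subgroup Cfsg Cfsg.Agent.H729.PairBase Cfsg.Agent.H729.PairHS
open Cfsg.Agent.HN Cfsg.Agent.HN.Pres Cfsg.Agent.HN.HS100 Cfsg.Agent.HN.P1408 Cfsg.Agent.HN.H0Basic
open Cfsg.Agent.KFacts.HS Cfsg.Agent.KFacts.HS.DFour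

theorem hs_not_mod {L : Type*} [Group L] (D : KFacts.HS.Mod L) (u : L) (hu : orderOf u = 2) :
    ¬ 125 ∣ Nat.card (centralizer ({u} : Set L)) := by
  have hfin := D.finite
  have hB : ¬ 125 ∣ Nat.card (centralizer ({wB D} : Set L)) := by
    have h1 : 720 ∣ Nat.card (centralizer ({wB D} : Set L)) := dvd_720 D
    have h2 := card_C D
    have h3 : 0 < Nat.card (centralizer ({wB D} : Set L)) := Nat.card_pos
    obtain ⟨m, hm⟩ := h1
    rw [hm] at h2 h3 ⊢
    intro h7
    have h8 : m ≤ 4 := by omega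
    have h9 : 0 < m := by omega
    interval_cases m <;> omega
  have hA : ¬ 125 ∣ Nat.card (centralizer ({zA D} : Set L)) := by
    rcases D.inv2 (zA D) (zA_sq D) (zA_ne D) with ⟨c, hc⟩ | ⟨c, hc⟩
    · rw [card_conj hc.symm, D.card_centralizer]
      norm_num
    · rcases inv_cases D D.z D.zz D.z1 with ⟨e, he⟩ | ⟨e, he⟩
      · rw [← card_conj he, D.card_centralizer]
        norm_num
      · exfalso
        have h1 := card_conj he
        rw [D.card_centralizer] at h1
        have h2 := card_C D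
        omega
  have hu2 : u * u = 1 := by rw [← pow_two, ← hu, pow_orderOf_eq_one]
  have hu1 : u ≠ 1 := by
    rintro rfl
    rw [orderOf_one] at hu
    omega
  rcases inv_cases D u hu2 hu1 with ⟨c, hc⟩ | ⟨c, hc⟩
  · rw [card_conj hc]; exact hA
  · rw [card_conj hc]; exact hB

end HS

variable {G : Type u} {Ω : Type v} [Group G] [MulAction G Ω] {T : Subgroup G} {a : Ω} {N : Subgroup G}
  {F : Type} [Field F] [Fintype F] {k : ℕ}

/-- `q² + q + 1` and the degree -/
theorem k_eq_one_or_two {k n : ℕ} (hk : 1 ≤ k) (h : (2 ^ k) ^ 2 + 2 ^ k + 1 ∣ n) (hn : 0 < n) (hle : n < 273) :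
    k = 1 ∨ k = 2 ∨ k = 3 := by
  by_contra hcon
  have h1 := Nat.le_of_dvd hn h
  have h2 : 2 ^ 4 ≤ 2 ^ k := Nat.pow_le_pow_right (by norm_num) (by omega)
  have h3 : (2 ^ 4) ^ 2 ≤ (2 ^ k) ^ 2 := Nat.pow_le_pow_left h2 2
  norm_num at h2 h3
  omega

namespace Ctx

theorem row_hs (C : Ctx G Ω T a N F k) (h : Cfsg.Spor.IsoHS T) (hn : Nat.card Ω = 176)
    (hc : Nat.card T = 44352000) : False := by
  have := C.A.finG
  have hd := C.dvd
  rw [hn] at hd
  have hk : k = 1 := by
    rcases k_eq_one_or_two C.hk hd (by norm_num) (by norm_num) with rfl | rfl | rfl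
    · rfl
    · norm_num at hd
    · norm_num at hd
  subst hk
  have h1 := C.A.card_mul a
  rw [hn, hc] at h1
  have h2 : Nat.card (stabilizer T a) = 252000 := by omega
  have h3 := C.card_mod
  rw [h2, C.card_mulAut] at h3
  have h4 : 125 ∣ Nat.card (cen T a N) := by
    have h5 : 125 ∣ 2 * 1 * (2 ^ (3 * 1) * ((2 ^ 1) ^ 2 - 1) * ((2 ^ 1) ^ 3 - 1)) * Nat.card (cen T a N) :=
      (by norm_num : 125 ∣ 252000).trans h3
    exact (Nat.Coprime.dvd_of_dvd_mul_left (by norm_num) h5)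
  -- an involution of `N`
  obtain ⟨e⟩ := C.iso
  have h5 : 2 ∣ Nat.card N := (dvd_pow_self 2 (by norm_num)).trans (two_pow_dvd C.hF e)
  have : Fact (Nat.Prime 2) := ⟨Nat.prime_two⟩
  obtain ⟨t, ht⟩ := exists_prime_orderOf_dvd_card' 2 h5
  set u : T := ⟨t, C.leT t.2⟩ with hu
  have hu2 : orderOf u = 2 := by
    rw [hu, Subgroup.orderOf_mk, Subgroup.orderOf_coe, ht]
  obtain ⟨D⟩ := Cfsg.Agent.KFacts.HS.exists_mod h
  refine hs_not_mod D u hu2 (h4.trans ?_)
  apply Subgroup.card_dvd_of_le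
  intro x hx
  rw [Subgroup.mem_centralizer_iff]
  rintro _ rfl
  exact Subtype.ext (hx.2 t t.2).symm

theorem row_psl42 (C : Ctx G Ω T a N F k) (hn : Nat.card Ω = 8) (hc : Nat.card T = 20160) : False := by
  have hd := C.dvd
  rw [hn] at hd
  have hk : k = 1 := by
    rcases k_eq_one_or_two C.hk hd (by norm_num) (by norm_num) with rfl | rfl | rfl
    · rfl
    · norm_num at hd
    · norm_num at hd
  subst hk
  have h1 := C.A.card_mul a
  rw [hn, hc] at h1
  have h2 : Nat.card (stabilizer T a) = 2520 := by omega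
  have h3 := C.five (by rw [h2]; norm_num)
  omega

theorem row_m22 (C : Ctx G Ω T a N F k) (h : Cfsg.Spor.IsoM22 T) (hn : Nat.card Ω = 22) :
    (∀ x y : Ω, x ≠ a → y ≠ a → ∃ g ∈ N, g • x = y) ∧ k = 2 ∧
      (Cfsg.Spor.IsoM22 G ∨ ∃ H : Subgroup G, H.index = 2 ∧ Cfsg.Spor.IsoM22 ↥H) := by
  have := C.A.finG
  have := C.A.finΩ
  obtain ⟨e⟩ := h
  have hc : Nat.card T = 443520 := by
    rw [Nat.card_congr e.toEquiv]
    exact Cfsg.Agent.SporadicA.MathieuRecog.card_M22
  obtain ⟨f, hf, hfn, hfN, -, hdf⟩ := C.orbits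
  have hd := C.dvd
  rw [hn] at hd hfn
  have h1 := C.A.card_mul a
  rw [hn, hc] at h1
  have h2 : Nat.card (stabilizer T a) = 20160 := by omega
  have hk : k = 2 := by
    rcases k_eq_one_or_two C.hk hd (by norm_num) (by norm_num) with rfl | rfl | rfl
    · exfalso
      have h3 := C.five (by rw [h2]; norm_num)
      omega
    · rfl
    · norm_num at hd
  subst hk
  refine ⟨?_, rfl, ?_⟩
  · have hf21 : f = 21 := by
      have h3 : 21 ∣ f := by norm_num at hdf; exact hdf
      exact Nat.dvd_antisymm hfn h3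
    intro x y hx hy
    have h3 := hf x hx
    rw [hf21, Nat.card_coe_set_eq] at h3
    have h4 : orbit N x ⊆ {a}ᶜ := by
      rintro _ ⟨g, rfl⟩ h
      have h5 : (g : G) • x = a := h
      have h6 : (g : G) • a = a := C.le g.2
      exact hx (smul_left_cancel (g : G) (h5.trans h6.symm))
    have h5 : orbit N x = {a}ᶜ := by
      apply Set.eq_of_subset_of_ncard_le h4 _ (Set.toFinite _)
      rw [Set.ncard_compl, Set.ncard_singleton, hn, h3]
    have h6 : y ∈ orbit N x := by rw [h5]; exact hy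
    obtain ⟨g, hg⟩ := h6
    exact ⟨g, g.2, hg⟩
  · have h3 := Cfsg.Agent.H499.TT.index_dvd_out C.A e
    rw [Cfsg.Agent.S2062.result] at h3
    rcases (Nat.dvd_prime Nat.prime_two).1 h3 with h4 | h4
    · left
      have hT : T = ⊤ := Subgroup.index_eq_one.1 h4
      exact ⟨((Subgroup.topEquiv.symm).trans (MulEquiv.subgroupCongr hT.symm)).trans e⟩
    · right
      exact ⟨T, h4, ⟨e⟩⟩

/-- **S3727, the almost simple case.** -/
theorem almost (C : Ctx G Ω T a N F k) (hK : Known2 T (Nat.card Ω))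
    (ohs : Cfsg.Spor.IsoHS T → Nat.card T = 44352000) :
    (∀ x y : Ω, x ≠ a → y ≠ a → ∃ g ∈ N, g • x = y) ∧ Nat.card Ω = 22 ∧ k = 2 ∧
      (Cfsg.Spor.IsoM22 G ∨ ∃ H : Subgroup G, H.index = 2 ∧ Cfsg.Spor.IsoM22 ↥H) := by
  have hev := C.ev
  have hd := C.dvd
  have hk := C.hk
  generalize hn : Nat.card Ω = n at hK hev hd
  cases hK with
  | alt n hn5 e =>
    exfalso
    obtain ⟨e⟩ := e
    refine C.row_alt ?_
    rw [hn, Nat.card_congr e.toEquiv, Nat.card_eq_fintype_card]
    have : Nontrivial (Fin n) := Fin.nontrivial_iff_two_le.2 (by omega)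
    rw [two_mul_card_alternatingGroup, Fintype.card_perm, Fintype.card_fin]
  | psl F d n hd' hd2 e hn' =>
    exfalso
    subst hn
    exact C.row_psl d hd' hd2 e hn'
  | sp F m n hF hm e hn' =>
    exfalso
    obtain ⟨e⟩ := e
    subst hn
    exact C.row_sp hF hm e hn'
  | psu F q n hq hF e hn' =>
    exfalso
    subst hn
    exact C.row_psu hq hF e hn'
  | sz F m n hm hF e hn' =>
    exfalso
    rw [hn', hF, ← pow_mul, Nat.even_add_one] at hev
    apply hev
    rw [Nat.even_pow]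
    exact ⟨even_two, by omega⟩
  | ree K m n hm hK e hn' =>
    exfalso
    refine C.row_ree (i := (2 * m + 1) * 3) ?_
    rw [hn, hn', hK, ← pow_mul]
  | psl2_8 F hF e =>
    exfalso
    rcases k_eq_one_or_two hk hd (by norm_num) (by norm_num) with rfl | rfl | rfl <;> norm_num at hd
  | psl2_9 F hF e =>
    exfalso
    rcases k_eq_one_or_two hk hd (by norm_num) (by norm_num) with rfl | rfl | rfl <;> norm_num at hd
  | psl2_11 F hF e => exfalso; revert hev; decide
  | psl4_2 F hF e =>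
    exfalso
    obtain ⟨e⟩ := e
    exact C.row_psl42 hn (by rw [Nat.card_congr e.toEquiv]; exact Cfsg.Agent.H499.TT.card_psl4_2 hF)
  | a7 e => exfalso; revert hev; decide
  | m11 h => exfalso; revert hev; decide
  | m11' h =>
    exfalso
    rcases k_eq_one_or_two hk hd (by norm_num) (by norm_num) with rfl | rfl | rfl <;> norm_num at hd
  | m12 h =>
    exfalso
    rcases k_eq_one_or_two hk hd (by norm_num) (by norm_num) with rfl | rfl | rfl <;> norm_num at hd
  | m22 h =>
    obtain ⟨h1, h2, h3⟩ := C.row_m22 h hn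
    exact ⟨h1, rfl, h2, h3⟩
  | m23 h => exfalso; revert hev; decide
  | m24 h =>
    exfalso
    rcases k_eq_one_or_two hk hd (by norm_num) (by norm_num) with rfl | rfl | rfl <;> norm_num at hd
  | hs h => exfalso; exact C.row_hs h hn (ohs h)
  | co3 h =>
    exfalso
    have h1 : (2 ^ k) ^ 2 + 2 ^ k + 1 ∣ 275 := hd
    have h2 : k = 1 ∨ k = 2 ∨ k = 3 ∨ k = 4 := by
      by_contra hcon
      have h1 := Nat.le_of_dvd (by norm_num) h1
      have h2 : 2 ^ 5 ≤ 2 ^ k := Nat.pow_le_pow_right (by norm_num) (by omega)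
      have h3 : (2 ^ 5) ^ 2 ≤ (2 ^ k) ^ 2 := Nat.pow_le_pow_left h2 2
      norm_num at h2 h3
      omega
    rcases h2 with rfl | rfl | rfl | rfl <;> norm_num at h1

end Ctx

end Cfsg.Agent.H175.TTPsl3AS
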