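import Mathlib
import Cfsg.Agent.H175.Psl3AffD
import Cfsg.Agent.H57.TTAffine

/-!
# S3727, the affine case
-/

set_option autoImplicit false

namespace Cfsg.Agent.H175.TTPsl3

open MulAction Cfsg.Agent.H57.TTAffine Cfsg.Agent.H175.Psl3Aff

universe u v

variable {G : Type u} {Ω : Type v} [Group G] [Finite G] [MulAction G Ω] [Finite Ω] [FaithfulSMul G Ω]

theorem odd_of_cube {F : Type*} [Field F] [Fintype F] {n : ℕ} (hF : Fintype.card F = 2 ^ n)
    (h : ∀ x : F, x ^ 3 = 1 → x = 1) : Odd n := by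
  by_contra hodd
  rw [Nat.not_odd_iff_even] at hodd
  obtain ⟨m, hm⟩ := hodd
  have h3 : 3 ∣ Nat.card Fˣ := by
    rw [Nat.card_units, Nat.card_eq_fintype_card, hF, hm, ← two_mul, pow_mul]
    have := Nat.sub_dvd_pow_sub_pow 4 1 m
    rwa [one_pow] at this
  obtain ⟨x, hx⟩ := exists_prime_orderOf_dvd_card' 3 h3
  have h1 : x ^ 3 = 1 := by rw [← hx]; exact pow_orderOf_eq_one x
  have h2 : x = 1 := Units.ext (h x (by rw [← Units.val_pow_eq_pow_val, h1, Units.val_one]))
  rw [h2, orderOf_one] at hx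
  omega

theorem affine (two : ∀ a b c d : Ω, a ≠ b → c ≠ d → ∃ g : G, g • a = c ∧ g • b = d)
    (hev : Even (Nat.card Ω)) (a : Ω) (N : Subgroup G)
    (hNle : N ≤ stabilizer G a) (hNn : ∀ g ∈ stabilizer G a, ∀ x ∈ N, g * x * g⁻¹ ∈ N)
    {F : Type*} [Field F] [Fintype F] {n : ℕ} (hn : 1 ≤ n) (hF : Fintype.card F = 2 ^ n)
    (e : N ≃* Matrix.ProjectiveSpecialLinearGroup (Fin 3) F) {E : Subgroup G} (R : Reg G Ω E) {p : ℕ}
    (hp : p.Prime) (hexp : ∀ x ∈ E, x ^ p = 1) :
    (∀ x y : Ω, x ≠ a → y ≠ a → ∃ g ∈ N, g • x = y) ∧ Odd n ∧ Nat.card E = (2 ^ n) ^ 3 := by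
  have hEcard := R.card_eq a
  -- `p = 2`
  have hp2 : p = 2 := by
    have h2 : 2 ∣ Nat.card E := by rw [hEcard]; exact hev.two_dvd
    have : Fact (Nat.Prime 2) := ⟨Nat.prime_two⟩
    obtain ⟨x, hx⟩ := exists_prime_orderOf_dvd_card' 2 h2
    have h1 : x ^ p = 1 := Subtype.ext (hexp x x.2)
    have h3 := orderOf_dvd_of_pow_eq_one h1
    rw [hx] at h3
    exact ((Nat.prime_dvd_prime_iff_eq Nat.prime_two hp).1 h3).symm
  subst hp2
  have hEn : E.Normal := R.normal
  letI instC : CommGroup E := { (inferInstance : Group E) with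
    mul_comm := fun x y => Subtype.ext (R.comm x x.2 y y.2) }
  let π : Matrix.SpecialLinearGroup (Fin 3) F →* N :=
    e.symm.toMonoidHom.comp (QuotientGroup.mk' (Subgroup.center (Matrix.SpecialLinearGroup (Fin 3) F)))
  have hπs : Function.Surjective π := e.symm.surjective.comp (QuotientGroup.mk'_surjective _)
  have hπk : ∀ g, π g = 1 ↔ g ∈ Subgroup.center (Matrix.SpecialLinearGroup (Fin 3) F) := by
    intro g
    change e.symm (QuotientGroup.mk' _ g) = 1 ↔ _
    rw [MulEquiv.map_eq_one_iff]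
    exact QuotientGroup.eq_one_iff g
  let ρ : Matrix.SpecialLinearGroup (Fin 3) F →* MulAut E :=
    (MulAut.conjNormal (H := E)).comp (N.subtype.comp π)
  have hρ : ∀ g (v : E), ((ρ g v : E) : G) = (π g : G) * v * (π g : G)⁻¹ := fun g v => rfl
  letI act : DistribMulAction (Matrix.SpecialLinearGroup (Fin 3) F) (Additive E) :=
    { smul := fun g v => Additive.ofMul (ρ g v.toMul)
      one_smul := fun v => by
        change Additive.ofMul (ρ 1 v.toMul) = v
        rw [map_one]; rfl
      mul_smul := fun g g' v => by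
        change Additive.ofMul (ρ (g * g') v.toMul) = _
        rw [map_mul]; rfl
      smul_zero := fun g => by
        change Additive.ofMul (ρ g 1) = _
        rw [map_one]; rfl
      smul_add := fun g v w => by
        change Additive.ofMul (ρ g (v.toMul * w.toMul)) = _
        rw [map_mul]; rfl }
  have hsm : ∀ (g : Matrix.SpecialLinearGroup (Fin 3) F) (v w : Additive E),
      g • v = w ↔ (π g : G) * (v.toMul : E) * (π g : G)⁻¹ = (w.toMul : E) := by
    intro g v w
    constructor
    · intro h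
      rw [← h]; rfl
    · intro h
      have : ρ g v.toMul = w.toMul := Subtype.ext h
      change Additive.ofMul (ρ g v.toMul) = w
      rw [this]; rfl
  have hchar : CharP F 2 := by
    obtain ⟨q, hq⟩ := CharP.exists F
    obtain ⟨k, hqp, hk⟩ := FiniteField.card F q
    have h1 : q ∣ 2 ^ n := by rw [← hF, hk]; exact dvd_pow_self q k.pos.ne'
    have h2 := (Nat.prime_dvd_prime_iff_eq hqp Nat.prime_two).1 (hqp.dvd_of_dvd_pow h1)
    rwa [h2] at hq
  have hyp : Hyp F (Additive E) := by
    refine ⟨?_, ?_, ?_, ?_⟩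
    · intro v
      have : (v.toMul : E) * v.toMul = 1 := Subtype.ext (by
        have := hexp _ (v.toMul).2
        rw [pow_two] at this
        exact this)
      exact this
    · intro g hg
      rw [← hπk]
      apply Subtype.ext
      refine R.eq_one (o := a) (hNle (π g).2) fun v hv => ?_
      exact (hsm g (Additive.ofMul ⟨v, hv⟩) _).1 (hg _)
    · intro g hg v
      rw [hsm, (hπk g).2 hg]
      simp
    · intro v w hv hw
      have hv' : ((v.toMul : E) : G) ≠ 1 := fun h => hv (Subtype.ext h : v.toMul = 1)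
      have hw' : ((w.toMul : E) : G) ≠ 1 := fun h => hw (Subtype.ext h : w.toMul = 1)
      obtain ⟨x, hxa, hx⟩ := R.exists_conj two a (v.toMul).2 (w.toMul).2 hv' hw'
      let K : Additive E → Subgroup N := fun v =>
        { carrier := {m | (m : G) * (v.toMul : E) * (m : G)⁻¹ = (v.toMul : E)}
          one_mem' := by simp
          mul_mem' := by
            intro m m' hm hm'
            have h1 : (m : G) * (v.toMul : E) * (m : G)⁻¹ = (v.toMul : E) := hm
            have h2 : (m' : G) * (v.toMul : E) * (m' : G)⁻¹ = (v.toMul : E) := hm'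
            change ((m * m' : N) : G) * (v.toMul : E) * ((m * m' : N) : G)⁻¹ = (v.toMul : E)
            calc ((m * m' : N) : G) * (v.toMul : E) * ((m * m' : N) : G)⁻¹
                = (m : G) * ((m' : G) * (v.toMul : E) * (m' : G)⁻¹) * (m : G)⁻¹ := by
                  rw [Subgroup.coe_mul]; group
              _ = _ := by rw [h2, h1]
          inv_mem' := by
            intro m hm
            have h1 : (m : G) * (v.toMul : E) * (m : G)⁻¹ = (v.toMul : E) := hm
            change ((m⁻¹ : N) : G) * (v.toMul : E) * ((m⁻¹ : N) : G)⁻¹ = (v.toMul : E)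
            conv_lhs => rw [← h1]
            rw [Subgroup.coe_inv]; group }
      have hK : ∀ v : Additive E, stabilizer (Matrix.SpecialLinearGroup (Fin 3) F) v = (K v).comap π := by
        intro v
        ext g
        exact hsm g v v
      have hxN : ∀ m : N, x * m * x⁻¹ ∈ N := fun m => hNn x hxa m m.2
      have hxN' : ∀ m : N, x⁻¹ * m * x ∈ N := fun m => by
        have := hNn x⁻¹ ((stabilizer G a).inv_mem hxa) m m.2
        rwa [inv_inv] at this
      have hcard : Nat.card (K v) = Nat.card (K w) := by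
        refine Nat.card_congr ⟨fun m => ⟨⟨x * m.1 * x⁻¹, hxN m.1⟩, ?_⟩, fun m => ⟨⟨x⁻¹ * m.1 * x, hxN' m.1⟩, ?_⟩, ?_, ?_⟩
        · change (x * m.1 * x⁻¹) * (w.toMul : E) * (x * m.1 * x⁻¹)⁻¹ = (w.toMul : E)
          have h1 : (m.1 : G) * (v.toMul : E) * (m.1 : G)⁻¹ = (v.toMul : E) := m.2
          rw [← hx]
          calc (x * m.1 * x⁻¹) * (x * (v.toMul : E) * x⁻¹) * (x * m.1 * x⁻¹)⁻¹
              = x * ((m.1 : G) * (v.toMul : E) * (m.1 : G)⁻¹) * x⁻¹ := by group
            _ = _ := by rw [h1]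
        · change (x⁻¹ * m.1 * x) * (v.toMul : E) * (x⁻¹ * m.1 * x)⁻¹ = (v.toMul : E)
          have h1 : (m.1 : G) * (w.toMul : E) * (m.1 : G)⁻¹ = (w.toMul : E) := m.2
          rw [← hx] at h1
          calc (x⁻¹ * m.1 * x) * (v.toMul : E) * (x⁻¹ * m.1 * x)⁻¹
              = x⁻¹ * ((m.1 : G) * (x * (v.toMul : E) * x⁻¹) * (m.1 : G)⁻¹) * x := by group
            _ = _ := by rw [h1]; group
        · intro m
          apply Subtype.ext; apply Subtype.ext
          change x⁻¹ * (x * m.1 * x⁻¹) * x = m.1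
          group
        · intro m
          apply Subtype.ext; apply Subtype.ext
          change x * (x⁻¹ * m.1 * x) * x⁻¹ = m.1
          group
      have hidx : (K v).index = (K w).index := by
        have h1 := (K v).card_mul_index
        have h2 := (K w).card_mul_index
        rw [← hcard] at h2
        exact Nat.eq_of_mul_eq_mul_left Nat.card_pos (h1.trans h2.symm)
      have h1 := (stabilizer (Matrix.SpecialLinearGroup (Fin 3) F) v).card_mul_index
      have h2 := (stabilizer (Matrix.SpecialLinearGroup (Fin 3) F) w).card_mul_index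
      rw [hK v, Subgroup.index_comap_of_surjective _ hπs] at h1
      rw [hK w, Subgroup.index_comap_of_surjective _ hπs, ← hidx] at h2
      rw [hK v, hK w]
      exact Nat.eq_of_mul_eq_mul_right (Nat.pos_of_ne_zero Subgroup.index_ne_zero_of_finite) (h1.trans h2.symm)
  have hfinV : Finite (Additive E) := inferInstanceAs (Finite E)
  obtain ⟨hc1, hc2, hc3⟩ := hyp.concl
  refine ⟨?_, odd_of_cube hF hc3, ?_⟩
  · intro x y hx hy
    obtain ⟨v, hv, rfl⟩ := R.tr a x
    obtain ⟨w, hw, rfl⟩ := R.tr a y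
    have hv1 : (Additive.ofMul (⟨v, hv⟩ : E)) ≠ 0 := by
      intro h
      have : (⟨v, hv⟩ : E) = 1 := h
      exact hx (by rw [show v = 1 from congrArg Subtype.val this, one_smul])
    have hw1 : (Additive.ofMul (⟨w, hw⟩ : E)) ≠ 0 := by
      intro h
      have : (⟨w, hw⟩ : E) = 1 := h
      exact hy (by rw [show w = 1 from congrArg Subtype.val this, one_smul])
    obtain ⟨g, hg⟩ := hc2 _ _ hv1 hw1
    refine ⟨π g, (π g).2, ?_⟩
    have h1 : (π g : G) * v * (π g : G)⁻¹ = w := (hsm g _ _).1 hg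
    rw [Reg.smul_conj (hNle (π g).2), h1]
  · have h1 : Nat.card (Additive E) = Nat.card E := rfl
    rw [← h1, hc1, Nat.card_eq_fintype_card, hF]

end Cfsg.Agent.H175.TTPsl3
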