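import Cfsg.Agent.H175.TTPsl3AS
import Cfsg.Agent.H175.TTPsl3Aff

/-!
# S3727 from the classification of the 2-transitive groups (helper175)
-/

set_option autoImplicit false

namespace Cfsg.Agent.H175.TTPsl3Main

open MulAction Cfsg.Agent.H384.TwoTrans

theorem main {G Ω : Type*} [Group G] [Finite G] [Fintype Ω] [MulAction G Ω] [FaithfulSMul G Ω]
    (hK : ∀ T : Subgroup G, AS G Ω T → Known2 T (Nat.card Ω))
    (hO : ∀ T : Subgroup G, IsSimpleGroup T → Group.IsSolvable (Cfsg.Out T))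
    (ohs : ∀ T : Subgroup G, Cfsg.Spor.IsoHS T → Nat.card T = 44352000)
    (h2 : MulAction.IsMultiplyPretransitive G Ω 2) (hev : Even (Fintype.card Ω)) (a : Ω) (N : Subgroup G)
    (hNle : N ≤ MulAction.stabilizer G a) (hNnormal : ∀ g ∈ MulAction.stabilizer G a, ∀ x ∈ N, g * x * g⁻¹ ∈ N)
    (n : ℕ) (hn : 1 ≤ n)
    (hN : ∃ (F : Type) (_ : Field F) (_ : Fintype F), Fintype.card F = 2 ^ n ∧
      Nonempty (↥N ≃* Matrix.ProjectiveSpecialLinearGroup (Fin 3) F)) :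
    (∀ x y : Ω, x ≠ a → y ≠ a → ∃ g ∈ N, g • x = y) ∧
    ((Odd n ∧ ∃ E : Subgroup G, E.Normal ∧ Nat.card E = (2 ^ n) ^ 3 ∧ (∀ x y : Ω, ∃ r ∈ E, r • x = y) ∧
        ∀ x : Ω, ∀ r ∈ E, r • x = x → r = 1) ∨
     (Fintype.card Ω = 22 ∧ n = 2 ∧ (Cfsg.Spor.IsoM22 G ∨ ∃ H : Subgroup G, H.index = 2 ∧ Cfsg.Spor.IsoM22 ↥H))) := by
  obtain ⟨F, i1, i2, hF, e⟩ := hN
  rw [← Nat.card_eq_fintype_card] at hev ⊢
  -- `|Ω| ≥ 3`
  have h3 : 3 ≤ Nat.card Ω := by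
    by_contra hcon
    have h4 : Nat.card G ∣ 2 := by
      have h5 := Subgroup.card_dvd_of_injective (toPermHom G Ω) toPerm_injective
      rw [Nat.card_perm] at h5
      have h6 : Nat.card Ω ≤ 2 := by omega
      exact h5.trans ((Nat.factorial_dvd_factorial h6).trans (by norm_num))
    obtain ⟨e⟩ := e
    have h7 := Cfsg.Agent.H175.TTPsl3AS.seven_dvd hn hF e
    have h8 := (h7.trans (Subgroup.card_subgroup_dvd_card N)).trans h4
    omega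
  rcases reduction h2 h3 with ⟨E, hE, -, hcomm, ⟨p, hp, hexp⟩, htr, hsr⟩ | ⟨T, A⟩
  · have R : Cfsg.Agent.H57.TTAffine.Reg G Ω E := ⟨hE, fun x hx y hy => congrArg Subtype.val
      (hcomm.is_comm.comm (⟨x, hx⟩ : E) ⟨y, hy⟩), htr, hsr⟩
    obtain ⟨e⟩ := e
    obtain ⟨h4, h5, h6⟩ := Cfsg.Agent.H175.TTPsl3.affine (fun a b c d hab hcd => two_pts h2 a b c d hab hcd) hev a N hNle
      hNnormal hn hF e R hp hexp
    exact ⟨h4, Or.inl ⟨h5, E, hE, h6, htr, hsr⟩⟩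
  · have C : Cfsg.Agent.H175.TTPsl3AS.Ctx G Ω T a N F n := ⟨A, hO T A.simple, hev, hNle, hNnormal, hn, hF, e⟩
    obtain ⟨h4, h5, h6, h7⟩ := C.almost (hK T A) (ohs T)
    exact ⟨h4, Or.inr ⟨h5, h6, h7⟩⟩

end Cfsg.Agent.H175.TTPsl3Main
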